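import Mathlib.GroupTheory.Nilpotent
import Mathlib.GroupTheory.PGroup
import Mathlib.GroupTheory.SpecificGroups.Cyclic
import Cfsg.Agent.LocalEvenBasic.DStar

/-!
# Commutators are central in a symplectic type group of exponent three
-/

set_option autoImplicit false
set_option linter.unusedSectionVars false

namespace CfsgLib.SympThree

open Subgroup
open scoped commutatorElement

variable {G : Type*} [Group G] [Finite G]

theorem central_of_small (he : ∀ x : G, x ^ 3 = 1) {A : Subgroup G} [A.Normal] (hc : IsCyclic A) :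
    A ≤ center G := by
  intro a ha
  refine mem_center_iff.2 fun x => ?_
  have hA : Nat.card A ∣ 3 := by
    rw [← IsCyclic.exponent_eq_card (α := A)]
    exact Monoid.exponent_dvd_of_forall_pow_eq_one fun b => Subtype.ext (he b)
  by_cases ha1 : a = 1
  · simp [ha1]
  have hb : x * a * x⁻¹ ∈ zpowers a := by
    have hle : zpowers a ≤ A := zpowers_le.2 ha
    have : Nat.card (zpowers a) = 3 := by
      haveI := Fact.mk Nat.prime_three
      rw [Nat.card_zpowers, orderOf_eq_prime (he a) ha1]
    have heq : zpowers a = A := eq_of_le_of_card_ge hle (by rw [this]; exact Nat.le_of_dvd (by norm_num) hA)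
    rw [heq]
    exact (inferInstance : A.Normal).conj_mem a ha x
  rw [← mem_powers_iff_mem_zpowers, Submonoid.mem_powers_iff] at hb
  obtain ⟨n, hn⟩ := hb
  rw [pow_eq_pow_mod n (he a)] at hn
  have hn3 : n % 3 < 3 := Nat.mod_lt _ (by norm_num)
  interval_cases hk : n % 3
  · rw [pow_zero] at hn; exact absurd (conj_eq_one_iff.1 hn.symm) ha1
  · rw [pow_one] at hn; exact mul_inv_eq_iff_eq_mul.1 hn.symm
  exfalso
  refine ha1 ?_
  have h1 : x * a * x⁻¹ = a⁻¹ := by rw [← hn]; exact eq_inv_of_mul_eq_one_left (by rw [← pow_succ, he])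
  have h3 : x * (x * (x * a * x⁻¹) * x⁻¹) * x⁻¹ = a := by
    calc x * (x * (x * a * x⁻¹) * x⁻¹) * x⁻¹ = x ^ 3 * a * (x ^ 3)⁻¹ := by simp only [pow_succ, pow_zero, one_mul]; group
      _ = a := by rw [he x]; group
  rw [h1, ← conj_inv, h1, inv_inv, h1] at h3
  have h2 : a * a = 1 := by nth_rewrite 1 [← h3]; exact inv_mul_cancel a
  calc a = a ^ 3 * (a * a)⁻¹ := by rw [pow_succ, pow_two]; group
    _ = 1 := by rw [he a, h2]; group

/-- **Commutators are central.** -/
theorem commutator_central (hp : IsPGroup 3 G) (he : ∀ x : G, x ^ 3 = 1)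
    (hs : ∀ A : Subgroup G, A.Characteristic → IsMulCommutative A → IsCyclic A) (x y : G) :
    ⁅x, y⁆ ∈ center G := by
  haveI := Fact.mk Nat.prime_three
  set A : Subgroup G := Subgroup.upperCentralSeries G 2 ⊓ commutator G with hA
  haveI hchar : A.Characteristic := by
    refine characteristic_iff_comap_eq.2 fun φ => ?_
    rw [hA, comap_inf]
    congr 1
    · exact characteristic_iff_comap_eq.1 (inferInstance : (Subgroup.upperCentralSeries G 2).Characteristic) φ
    · exact characteristic_iff_comap_eq.1 (inferInstance : (commutator G).Characteristic) φ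
  have hcomm : ∀ z ∈ Subgroup.upperCentralSeries G 2, ∀ w ∈ commutator G, z * w = w * z := by
    intro z hz w hw
    have hzc : ∀ r, ⁅z, r⁆ ∈ center G := fun r => by
      have := Subgroup.mem_upperCentralSeries_succ_iff.1 hz r
      rwa [Subgroup.upperCentralSeries_one] at this
    let φ : G →* center G :=
      { toFun := fun r => ⟨⁅z, r⁆, hzc r⟩
        map_one' := Subtype.ext (commutatorElement_one_right z)
        map_mul' := fun a b => Subtype.ext (by
          show ⁅z, a * b⁆ = ⁅z, a⁆ * ⁅z, b⁆
          have hb := mem_center_iff.1 (hzc b) a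
          calc ⁅z, a * b⁆ = ⁅z, a⁆ * (a * ⁅z, b⁆ * a⁻¹) := by simp only [commutatorElement_def]; group
            _ = _ := by rw [hb, mul_inv_cancel_right]) }
    have hker : commutator G ≤ φ.ker := by
      rw [commutator_def, commutator_le]
      intro a _ b _
      rw [MonoidHom.mem_ker, map_commutatorElement]
      exact commutatorElement_eq_one_iff_mul_comm.2 (Subtype.ext (mem_center_iff.1 (φ b).2 (φ a)))
    have := congrArg Subtype.val (MonoidHom.mem_ker.1 (hker hw))
    exact commutatorElement_eq_one_iff_mul_comm.1 this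
  have habel : IsMulCommutative A := ⟨⟨fun a b => Subtype.ext (hcomm _ a.2.1 _ b.2.2)⟩⟩
  haveI : A.Normal := normal_of_characteristic A
  have hAZ : A ≤ center G := central_of_small he (hs A hchar habel)
  by_contra hne
  let π := QuotientGroup.mk' (center G)
  have hQ : (commutator G).map π ≠ ⊥ := fun h => hne (by
    have := h ▸ mem_map_of_mem π (commutator_mem_commutator (mem_top x) (mem_top y))
    rw [mem_bot, QuotientGroup.mk'_apply, QuotientGroup.eq_one_iff] at this
    exact this)
  haveI : ((commutator G).map π).Normal :=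
    Subgroup.Normal.map inferInstance π (QuotientGroup.mk'_surjective _)
  obtain ⟨z, ⟨hz, hzc⟩, hz1⟩ := CfsgLib.LocalEvenBasic.exists_mem_center_of_normal (hp.to_quotient _) _ hQ
  obtain ⟨w, hw, rfl⟩ := hz
  refine hz1 ((QuotientGroup.eq_one_iff w).2 (hAZ ⟨Subgroup.mem_upperCentralSeries_succ_iff.2 fun r => ?_, hw⟩))
  rw [Subgroup.upperCentralSeries_one, ← QuotientGroup.eq_one_iff]
  show π ⁅w, r⁆ = 1
  rw [map_commutatorElement]
  exact commutatorElement_eq_one_iff_mul_comm.2 (mem_center_iff.1 hzc (π r)).symm

end CfsgLib.SympThree
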