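import Cfsg.Agent.SympThree.Involutions
import Cfsg.Agent.SympThree.Central

/-!
# Absolutely irreducible groups of exponent three in dimension nine

An absolutely irreducible group of symplectic type and exponent three in `GL₉` is conjugate to the standard
extraspecial group.
-/

set_option autoImplicit false
set_option linter.unusedSectionVars false

namespace CfsgLib.SympThree

open Matrix Cfsg.Geo CfsgLib.SLThree.Hessian
open scoped Kronecker commutatorElement

local notation:max "mat" => Units.val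

variable {F : Type*} [Field F] [Finite F] (o : Omega F)

/-- Scalar commutators and exponent three. -/
structure NFData {ι : Type} [Fintype ι] [DecidableEq ι] (R : Subgroup (GL ι F)) : Prop where
  cube : ∀ x ∈ R, x ^ 3 = 1
  comm : ∀ x ∈ R, ∀ y ∈ R, ∃ c : F, mat x * mat y = c • (mat y * mat x)
  abs : ∀ X : Matrix ι ι F, (∀ y ∈ R, X * mat y = mat y * X) → ∃ c : F, X = c • 1

theorem NFData.of_symplecticType {ι : Type} [Fintype ι] [DecidableEq ι] {R : Subgroup (GL ι F)}
    (hR : IsSymplecticTypeGroup 3 R) (habs : ActsAbsolutelyIrreducibly (matrixSet R)) : NFData R := by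
  haveI : Finite R := inferInstance
  have he : ∀ x : R, x ^ 3 = 1 := fun x => by
    have h := Monoid.pow_exponent_eq_one x
    rwa [hR.exponent_eq] at h
  have habs' : ∀ X : Matrix ι ι F, (∀ y ∈ R, X * mat y = mat y * X) → ∃ c : F, X = c • 1 := fun X h =>
    habs.2 X (by rintro _ ⟨y, hy, rfl⟩; exact h y hy)
  refine ⟨fun x hx => congrArg Subtype.val (he ⟨x, hx⟩), fun x hx y hy => ?_, habs'⟩
  have hcen := commutator_central hR.pGroup he hR.cyclic_of_characteristic ⟨x, hx⟩ ⟨y, hy⟩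
  set z : R := ⁅(⟨x, hx⟩ : R), ⟨y, hy⟩⁆ with hz
  obtain ⟨c, hc⟩ := habs' (mat (z : GL ι F)) fun w hw =>
    (congrArg (fun t : R => mat (t : GL ι F)) (Subgroup.mem_center_iff.1 hcen ⟨w, hw⟩)).symm
  refine ⟨c, ?_⟩
  have e : (x * y : GL ι F) = (z : GL ι F) * (y * x) := by
    rw [hz, commutatorElement_def]; push_cast; group
  rw [← Units.val_mul, e, Units.val_mul, hc, smul_mul_assoc, one_mul, Units.val_mul]

variable {R : Subgroup (GL Ix F)}

/-- Renaming the indices. -/
theorem NFData.reindex {ι : Type} [Fintype ι] [DecidableEq ι] (e : Ix ≃ ι) {S : Subgroup (GL ι F)} (D : NFData S) :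
    NFData (S.comap (glReindex e).toMonoidHom) := by
  set φ := Matrix.reindexAlgEquiv F F e
  have hv : ∀ x : GL Ix F, mat (glReindex e x) = φ (mat x) := fun x => rfl
  refine ⟨fun x hx => (glReindex e).injective (by rw [map_pow, map_one]; exact D.cube _ hx),
    fun x hx y hy => ?_, fun X hX => ?_⟩
  · obtain ⟨c, hc⟩ := D.comm _ hx _ hy
    refine ⟨c, φ.injective ?_⟩
    rw [map_mul, map_smul, map_mul, ← hv, ← hv]
    exact hc
  · obtain ⟨c, hc⟩ := D.abs (φ X) fun y hy => by
      have h := hX ((glReindex e).symm y) (by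
        show glReindex e ((glReindex e).symm y) ∈ S
        rw [MulEquiv.apply_symm_apply]; exact hy)
      have h' := congrArg φ h
      rw [map_mul, map_mul, ← hv, MulEquiv.apply_symm_apply] at h'
      exact h'
    exact ⟨c, φ.injective (by rw [hc, map_smul, map_one])⟩

theorem exists_cube_pow {c : F} (h : c ^ 3 = 1) : ∃ i : ℕ, c = o.w ^ i := by
  rcases mul_eq_zero.1 (show (c - 1) * (c - o.w) * (c - o.w ^ 2) = 0 by
    linear_combination h - c * (c - o.w) * o.sum - o.cube) with h' | h'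
  · rcases mul_eq_zero.1 h' with h' | h'
    · exact ⟨0, by simpa using sub_eq_zero.1 h'⟩
    · exact ⟨1, by simpa using sub_eq_zero.1 h'⟩
  · exact ⟨2, sub_eq_zero.1 h'⟩

theorem NFData.comm_pow (D : NFData R) {x y : GL Ix F} (hx : x ∈ R) (hy : y ∈ R) :
    ∃ k : ℕ, mat x * mat y = o.w ^ k • (mat y * mat x) := by
  obtain ⟨c, hc⟩ := D.comm x hx y hy
  have h := pow_swap hc 3 1
  rw [← Units.val_pow_eq_pow_val, D.cube x hx, Units.val_one, one_mul, pow_one, mul_one, mul_one] at h
  have hc3 : c ^ 3 = 1 := by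
    have hne : mat y ≠ 0 := Units.ne_zero _
    exact (smul_left_injective F hne (by simpa using h)).symm
  obtain ⟨i, hi⟩ := exists_cube_pow o hc3
  exact ⟨i, by rw [hc, hi]⟩

/-- A pair with commutator `w` inside a subgroup with two non-commuting elements. -/
theorem NFData.exists_pair (D : NFData R) {S : Subgroup (GL Ix F)} (hS : S ≤ R)
    (h : ∃ x ∈ S, ∃ y ∈ S, x * y ≠ y * x) :
    ∃ x ∈ S, ∃ y ∈ S, mat x * mat y = o.w • (mat y * mat x) := by
  obtain ⟨x, hx, y, hy, hne⟩ := h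
  obtain ⟨k, hk⟩ := D.comm_pow o (hS hx) (hS hy)
  rw [pow_eq_pow_mod k o.cube] at hk
  have hk3 : k % 3 < 3 := Nat.mod_lt _ (by norm_num)
  interval_cases hkv : k % 3
  · exact absurd (Units.ext (by rw [Units.val_mul, Units.val_mul, hk, pow_zero, one_smul])) hne
  · exact ⟨x, hx, y, hy, by rw [hk, pow_one]⟩
  · refine ⟨y, hy, x, hx, ?_⟩
    rw [hk, smul_smul, ← pow_succ', o.cube, one_smul]

theorem cn_col (x : GL (Fin 3) F) (p : Ix) :
    mat (cn x) *ᵥ Pi.single p 1 = fun q : Ix => mat x q.1 p.1 * if q.2 = p.2 then 1 else 0 := by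
  funext q
  rw [Matrix.mulVec_single_one, cn_val]
  simp [kroneckerMap_apply, Matrix.one_apply]

theorem bl_col (x : GL (Fin 3) F) (p : Ix) :
    mat (bl x) *ᵥ Pi.single p 1 = fun q : Ix => (if q.1 = p.1 then 1 else 0) * mat x q.2 p.2 := by
  funext q
  rw [Matrix.mulVec_single_one, bl_val]
  simp [kroneckerMap_apply, Matrix.one_apply]

theorem clock_apply (a b : Fin 3) : mat (clock o) a b = if a = b then o.w ^ a.val else 0 := by
  show (!![1, 0, 0; 0, o.w, 0; 0, 0, o.w ^ 2] : Matrix (Fin 3) (Fin 3) F) a b = _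
  fin_cases a <;> fin_cases b <;> simp

theorem shift_apply (a b : Fin 3) : mat (shift F) a b = if a = b + 1 then 1 else 0 := by
  show (!![0, 0, 1; 1, 0, 0; 0, 1, 0] : Matrix (Fin 3) (Fin 3) F) a b = _
  fin_cases a <;> fin_cases b <;> simp

theorem cn_clock_col (p : Ix) : mat (cn (clock o)) *ᵥ Pi.single p 1 = o.w ^ p.1.val • Pi.single p 1 := by
  rw [cn_col]
  funext q
  simp only [clock_apply, Pi.smul_apply, Pi.single_apply, Prod.ext_iff, smul_eq_mul]
  split_ifs <;> simp_all

theorem cn_shift_col (p : Ix) : mat (cn (shift F)) *ᵥ Pi.single p 1 = Pi.single (p.1 + 1, p.2) 1 := by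
  rw [cn_col]
  funext q
  simp only [shift_apply, Pi.single_apply, Prod.ext_iff]
  split_ifs <;> simp_all

theorem bl_clock_col (p : Ix) : mat (bl (clock o)) *ᵥ Pi.single p 1 = o.w ^ p.2.val • Pi.single p 1 := by
  rw [bl_col]
  funext q
  simp only [clock_apply, Pi.smul_apply, Pi.single_apply, Prod.ext_iff, smul_eq_mul]
  split_ifs <;> simp_all

theorem bl_shift_col (p : Ix) : mat (bl (shift F)) *ᵥ Pi.single p 1 = Pi.single (p.1, p.2 + 1) 1 := by
  rw [bl_col]
  funext q
  simp only [shift_apply, Pi.single_apply, Prod.ext_iff]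
  split_ifs <;> simp_all

/-- The nine products of a pair do not span. -/
theorem pair_average {x y : GL Ix F} (hx : x ^ 3 = 1) (hy : y ^ 3 = 1)
    (hxy : mat x * mat y = o.w • (mat y * mat x)) :
    ∃ T : Matrix Ix Ix F, T * mat x = mat x * T ∧ T * mat y = mat y * T ∧ ∀ c : F, T ≠ c • 1 := by
  classical
  let W : Fin 3 × Fin 3 → GL Ix F := fun p => x ^ p.1.val * y ^ p.2.val
  let av : Matrix Ix Ix F → Matrix Ix Ix F := fun T => ∑ p, mat (W p) * T * mat (W p)⁻¹
  -- conjugation by the generators permutes the products up to scalars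
  have hconj : ∀ (g : GL Ix F) (σ : Equiv.Perm (Fin 3 × Fin 3)),
      (∀ p, ∃ c : F, mat (g * W p) = c • mat (W (σ p))) → ∀ T, mat g * av T = av T * mat g := by
    intro g σ hσ T
    have hc : ∀ p, mat g * (mat (W p) * T * mat (W p)⁻¹) * mat g⁻¹ = mat (W (σ p)) * T * mat (W (σ p))⁻¹ := by
      intro p
      obtain ⟨c, hc⟩ := hσ p
      have hc0 : c ≠ 0 := fun h0 => (g * W p).ne_zero (by rw [hc, h0, zero_smul])
      have hi : mat (g * W p)⁻¹ = c⁻¹ • mat (W (σ p))⁻¹ := Units.inv_eq_of_mul_eq_one_right (by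
        rw [hc, smul_mul_assoc, mul_smul_comm, Units.mul_inv, smul_smul, mul_inv_cancel₀ hc0, one_smul])
      calc mat g * (mat (W p) * T * mat (W p)⁻¹) * mat g⁻¹ = mat (g * W p) * T * mat (g * W p)⁻¹ := by
            simp only [W, _root_.mul_inv_rev, Units.val_mul, mul_assoc]
        _ = _ := by
          rw [hc, hi, smul_mul_assoc, smul_mul_assoc, mul_smul_comm, smul_smul, mul_inv_cancel₀ hc0, one_smul]
    have hsum : mat g * av T * mat g⁻¹ = av T := by
      simp only [av, Finset.mul_sum, Finset.sum_mul]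
      rw [Finset.sum_congr rfl fun p _ => hc p]
      exact Equiv.sum_comp σ fun p => mat (W p) * T * mat (W p)⁻¹
    conv_rhs => rw [← hsum]
    rw [Units.inv_mul_cancel_right]
  have hpy : ∀ i : ℕ, mat y * mat x ^ i = (o.w ^ 2) ^ i • (mat x ^ i * mat y) := by
    have hyx : mat y * mat x = o.w ^ 2 • (mat x * mat y) := by
      rw [hxy, smul_smul, ← pow_succ, o.cube, one_smul]
    intro i
    have := pow_swap hyx 1 i
    simpa using this
  have hx' : ∀ T, mat x * av T = av T * mat x := by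
    refine hconj x ((Equiv.addRight 1).prodCongr (Equiv.refl _)) fun p => ⟨1, ?_⟩
    rw [one_smul]
    congr 1
    show x * (x ^ p.1.val * y ^ p.2.val) = x ^ (p.1 + 1 : Fin 3).val * y ^ p.2.val
    rw [Fin.val_add, ← pow_eq_pow_mod _ hx, show (1 : Fin 3).val = 1 from rfl, pow_succ', mul_assoc]
  have hy' : ∀ T, mat y * av T = av T * mat y := by
    refine hconj y ((Equiv.refl _).prodCongr (Equiv.addRight 1)) fun p => ⟨(o.w ^ 2) ^ p.1.val, ?_⟩
    show mat (y * (x ^ p.1.val * y ^ p.2.val)) = _ • mat (x ^ p.1.val * y ^ (p.2 + 1 : Fin 3).val)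
    have hy3 : mat y ^ 3 = 1 := by rw [← Units.val_pow_eq_pow_val, hy, Units.val_one]
    simp only [Units.val_mul, Units.val_pow_eq_pow_val]
    rw [← mul_assoc, hpy, smul_mul_assoc, mul_assoc, ← pow_succ', Fin.val_add, show (1 : Fin 3).val = 1 from rfl,
      ← pow_eq_pow_mod _ hy3]
  by_contra hn
  push Not at hn
  have hsc : ∀ T, ∃ c : F, av T = c • 1 := fun T => hn (av T) (hx' T).symm (hy' T).symm
  have h9 : (9 : F) ≠ 0 := by
    rw [show (9 : F) = 3 * 3 by norm_num]; exact mul_ne_zero o.three o.three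
  -- every matrix is in the span of the nine products
  have htop : (⊤ : Submodule F (Matrix Ix Ix F)) ≤ Submodule.span F (Set.range fun p => mat (W p)) := by
    intro S _
    have key : ∀ a b c d : Ix, ∑ p, mat (W p) a b * mat (W p)⁻¹ c d = if b = c ∧ a = d then (1 : F) else 0 := by
      intro a b c d
      obtain ⟨k, hk⟩ := hsc (Matrix.single b c 1)
      have ht := congrArg Matrix.trace hk
      have hl : Matrix.trace (av (Matrix.single b c (1 : F))) = (9 : F) * (if b = c then 1 else 0) := by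
        simp only [av, Matrix.trace_sum]
        rw [Finset.sum_congr rfl fun p _ => Matrix.trace_units_conj (W p) _]
        rw [Finset.sum_const, Finset.card_univ, Fintype.card_prod, Fintype.card_fin, nsmul_eq_mul]
        push_cast
        split_ifs with hbc
        · subst hbc; rw [Matrix.trace_single_eq_same]
        · rw [Matrix.trace_single_eq_of_ne _ _ _ hbc]
      rw [hl, Matrix.trace_smul, Matrix.trace_one, smul_eq_mul, Fintype.card_prod, Fintype.card_fin] at ht
      push_cast at ht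
      have hk' : k = if b = c then 1 else 0 :=
        mul_left_cancel₀ h9 (by linear_combination -ht)
      have e := congrFun (congrFun hk a) d
      simp only [av, Matrix.sum_apply, Matrix.smul_apply, smul_eq_mul, Matrix.one_apply] at e
      rw [← show (if b = c then (1 : F) else 0) * (if a = d then 1 else 0) = if b = c ∧ a = d then 1 else 0 by
        split_ifs <;> simp_all, ← hk', ← e]
      refine Finset.sum_congr rfl fun p _ => ?_
      symm
      rw [Matrix.mul_apply, Finset.sum_eq_single c]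
      · rw [Matrix.mul_apply, Finset.sum_eq_single b]
        · rw [Matrix.single_apply_same, mul_one]
        · intro r _ hr; rw [Matrix.single_apply, if_neg (fun h => hr h.1.symm), mul_zero]
        · intro h; exact absurd (Finset.mem_univ _) h
      · intro r _ hr
        rw [Matrix.mul_apply, Finset.sum_eq_zero (fun l _ => by
          rw [Matrix.single_apply, if_neg (fun h => hr h.2.symm), mul_zero]), zero_mul]
      · intro h; exact absurd (Finset.mem_univ _) h
    have hS : S = ∑ p, (∑ c, ∑ d, mat (W p)⁻¹ c d * S d c) • mat (W p) := by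
      ext a b
      simp only [Matrix.sum_apply, Matrix.smul_apply, smul_eq_mul, Finset.sum_mul]
      rw [Finset.sum_comm]
      rw [Finset.sum_congr rfl fun c _ => Finset.sum_comm]
      symm
      calc ∑ c, ∑ d, ∑ p, mat (W p)⁻¹ c d * S d c * mat (W p) a b
          = ∑ c, ∑ d, S d c * ∑ p, mat (W p) a b * mat (W p)⁻¹ c d := by
            simp only [Finset.mul_sum]
            exact Finset.sum_congr rfl fun c _ => Finset.sum_congr rfl fun d _ => Finset.sum_congr rfl fun p _ => by ring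
        _ = S a b := by
          simp only [key]
          rw [Finset.sum_eq_single b, Finset.sum_eq_single a]
          · rw [if_pos ⟨rfl, rfl⟩, mul_one]
          · intro d _ hd; rw [if_neg (fun h => hd h.2.symm), mul_zero]
          · intro h; exact absurd (Finset.mem_univ _) h
          · intro c _ hc; exact Finset.sum_eq_zero fun d _ => by rw [if_neg (fun h => hc h.1.symm), mul_zero]
          · intro h; exact absurd (Finset.mem_univ _) h
    rw [hS]
    exact Submodule.sum_mem _ fun p _ => Submodule.smul_mem _ _ (Submodule.subset_span ⟨p, rfl⟩)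
  have h1 := finrank_range_le_card (R := F) fun p : Fin 3 × Fin 3 => mat (W p)
  rw [Set.finrank, top_le_iff.1 htop, finrank_top, Module.finrank_matrix] at h1
  simp at h1

set_option maxHeartbeats 800000 in
/-- **The normal form.** -/
theorem NFData.exists_normal_form (D : NFData R) :
    ∃ P : GL Ix F, ∀ g, g ∈ R ↔ P⁻¹ * g * P ∈ R₀ o := by
  classical
  have hnc : ∃ x ∈ R, ∃ y ∈ R, x * y ≠ y * x := by
    by_contra hn
    push Not at hn
    have hsc : ∀ y ∈ R, ∃ c : F, mat y = c • 1 := fun y hy => D.abs _ fun z hz => by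
      rw [← Units.val_mul, ← Units.val_mul, hn y hy z hz]
    obtain ⟨c, hc⟩ := D.abs (Matrix.single (0, 0) (0, 1) (1 : F)) fun y hy => by
      obtain ⟨d, hd⟩ := hsc y hy
      rw [hd, mul_smul_comm, mul_one, smul_mul_assoc, one_mul]
    have := congrFun (congrFun hc (0, 0)) (0, 1)
    simp [Matrix.one_apply] at this
  obtain ⟨x₁, hx₁, y₁, hy₁, h₁⟩ := D.exists_pair o le_rfl hnc
  have hswap : ∀ {x y : GL Ix F}, x ∈ R → y ∈ R → ∀ k, mat x * mat y = o.w ^ k • (mat y * mat x) →
      mat y * mat x = o.w ^ (2 * k) • (mat x * mat y) := fun {x y} _ _ k h => by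
    rw [h, smul_smul, ← pow_add, show 2 * k + k = 3 * k by ring, pow_mul, o.cube, one_pow, one_smul]
  set S₁ := R ⊓ Subgroup.centralizer ({x₁, y₁} : Set (GL Ix F))
  have hS₁c : ∀ g ∈ S₁, g * x₁ = x₁ * g ∧ g * y₁ = y₁ * g := fun g hg =>
    ⟨(Subgroup.mem_centralizer_iff.1 hg.2 x₁ (by simp)).symm, (Subgroup.mem_centralizer_iff.1 hg.2 y₁ (by simp)).symm⟩
  -- reduction into the centraliser of the first pair
  have hred : ∀ g ∈ R, ∃ a b : ℕ, x₁ ^ a * y₁ ^ b * g ∈ S₁ := by
    intro g hg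
    obtain ⟨i, hi⟩ := D.comm_pow o hg hx₁
    obtain ⟨j, hj⟩ := D.comm_pow o hg hy₁
    refine ⟨2 * j, i, ⟨R.mul_mem (R.mul_mem (R.pow_mem hx₁ _) (R.pow_mem hy₁ _)) hg, ?_⟩⟩
    show _ ∈ Subgroup.centralizer ({x₁, y₁} : Set (GL Ix F))
    rw [Subgroup.mem_centralizer_iff]
    have hy1x : mat y₁ * mat x₁ = o.w ^ 2 • (mat x₁ * mat y₁) := by
      have := hswap hx₁ hy₁ 1 (by rw [pow_one]; exact h₁)
      simpa using this
    rintro z (hz | hz) <;> rw [hz]
    · apply Units.ext
      have e := pow_swap hy1x i 1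
      rw [pow_one, mul_one, ← pow_mul] at e
      simp only [Units.val_mul, Units.val_pow_eq_pow_val]
      set P := mat x₁ ^ (2 * j)
      set Q := mat y₁ ^ i
      symm
      rw [mul_assoc (P * Q) (mat g) (mat x₁), hi, mul_smul_comm, ← mul_assoc (P * Q) (mat x₁) (mat g),
        mul_assoc P Q (mat x₁), e, mul_smul_comm, smul_mul_assoc, smul_smul, ← pow_add,
        show i + 2 * i = 3 * i by ring, pow_mul o.w 3 i, o.cube, one_pow, one_smul, ← mul_assoc P (mat x₁) Q,
        ← pow_succ, pow_succ']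
      simp only [P, mul_assoc]
    · apply Units.ext
      have e := pow_swap h₁ (2 * j) 1
      rw [pow_one, mul_one] at e
      simp only [Units.val_mul, Units.val_pow_eq_pow_val]
      set P := mat x₁ ^ (2 * j)
      set Q := mat y₁ ^ i
      symm
      rw [mul_assoc (P * Q) (mat g) (mat y₁), hj, mul_smul_comm, ← mul_assoc (P * Q) (mat y₁) (mat g),
        mul_assoc P Q (mat y₁), ← pow_succ, pow_succ', ← mul_assoc P (mat y₁), e, smul_mul_assoc, smul_mul_assoc,
        smul_smul, ← pow_add, show j + 2 * j = 3 * j by ring, pow_mul o.w 3 j, o.cube, one_pow, one_smul]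
      simp only [Q, mul_assoc]
  have hnc₂ : ∃ x ∈ S₁, ∃ y ∈ S₁, x * y ≠ y * x := by
    by_contra hn
    push Not at hn
    have hscal : ∀ z ∈ S₁, ∃ c : F, mat z = c • 1 := by
      intro z hz
      refine D.abs _ fun g hg => ?_
      obtain ⟨a, b, hab⟩ := hred g hg
      have h2 : Commute z (x₁ ^ a * y₁ ^ b * g) := hn z hz _ hab
      have h3 : Commute z (x₁ ^ a * y₁ ^ b) :=
        ((show Commute z x₁ from (hS₁c z hz).1).pow_right a).mul_right ((show Commute z y₁ from (hS₁c z hz).2).pow_right b)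
      have := h3.inv_right.mul_right h2
      rw [inv_mul_cancel_left] at this
      rw [← Units.val_mul, ← Units.val_mul, this.eq]
    obtain ⟨T, hTx, hTy, hT⟩ := pair_average o (D.cube _ hx₁) (D.cube _ hy₁) h₁
    obtain ⟨c, hc⟩ := D.abs T fun g hg => by
      obtain ⟨a, b, hab⟩ := hred g hg
      obtain ⟨d, hd⟩ := hscal _ hab
      have hcomm : Commute T (mat (x₁ ^ a * y₁ ^ b * g)) := by
        show T * _ = _ * T
        rw [hd, mul_smul_comm, mul_one, smul_mul_assoc, one_mul]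
      have hxy : Commute T (mat (x₁ ^ a * y₁ ^ b)) := by
        rw [Units.val_mul, Units.val_pow_eq_pow_val, Units.val_pow_eq_pow_val]
        exact ((show Commute T (mat x₁) from hTx).pow_right a).mul_right ((show Commute T (mat y₁) from hTy).pow_right b)
      have hi : Commute T (mat (x₁ ^ a * y₁ ^ b)⁻¹) := hxy.units_inv_right
      have := hi.mul_right hcomm
      rw [← Units.val_mul, inv_mul_cancel_left] at this
      exact this.eq
    exact hT c hc
  obtain ⟨x₂, hx₂, y₂, hy₂, h₂⟩ := D.exists_pair o inf_le_left hnc₂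
  have hC : ∀ {g : GL Ix F}, g ∈ S₁ → mat g * mat x₁ = mat x₁ * mat g ∧ mat g * mat y₁ = mat y₁ * mat g := fun {g} hg => by
    rw [← Units.val_mul, ← Units.val_mul, ← Units.val_mul, ← Units.val_mul, (hS₁c g hg).1, (hS₁c g hg).2]
    exact ⟨rfl, rfl⟩
  set X₁ := mat x₁
  set Y₁ := mat y₁
  set X₂ := mat x₂
  set Y₂ := mat y₂
  have c21 : X₂ * X₁ = X₁ * X₂ := (hC hx₂).1
  have c2y : X₂ * Y₁ = Y₁ * X₂ := (hC hx₂).2
  have cy1 : Y₂ * X₁ = X₁ * Y₂ := (hC hy₂).1
  have cyy : Y₂ * Y₁ = Y₁ * Y₂ := (hC hy₂).2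
  have cub : ∀ {g : GL Ix F}, g ∈ R → mat g * mat g * mat g = 1 := fun {g} hg => by
    rw [← Units.val_mul, ← Units.val_mul, ← pow_two, ← pow_succ, D.cube g hg, Units.val_one]
  have hX₁ := cub hx₁
  have hY₁ := cub hy₁
  have hX₂ := cub hx₂.1
  have hY₂ := cub hy₂.1
  -- projections
  let e1 : Fin 3 → Matrix Ix Ix F := fun k => ∑ a : Fin 3, o.w ^ (2 * k.val * a.val) • X₁ ^ a.val
  let e2 : Fin 3 → Matrix Ix Ix F := fun k => ∑ a : Fin 3, o.w ^ (2 * k.val * a.val) • X₂ ^ a.val
  have proj : ∀ (X : Matrix Ix Ix F), X * X * X = 1 → ∀ k : Fin 3,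
      X * (∑ a : Fin 3, o.w ^ (2 * k.val * a.val) • X ^ a.val) =
        o.w ^ k.val • ∑ a : Fin 3, o.w ^ (2 * k.val * a.val) • X ^ a.val := by
    intro X hX k
    have hXX : X * X ^ 2 = 1 := by rw [pow_two, ← mul_assoc, hX]
    have hc := o.cube
    simp only [Fin.sum_univ_three, mul_add, smul_add, mul_smul_comm, smul_smul, Fin.val_zero, Fin.val_one,
      show (2 : Fin 3).val = 2 from rfl, mul_zero, pow_zero, pow_one, mul_one, hXX, ← pow_two X]
    fin_cases k <;> simp <;> match_scalars <;> grind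
  obtain ⟨k, l, u, hu⟩ : ∃ (k l : Fin 3) (u : Ix → F), e1 k *ᵥ (e2 l *ᵥ u) ≠ 0 := by
    by_contra hn
    push Not at hn
    have hs : ∀ X : Matrix Ix Ix F, ∑ k : Fin 3, (∑ a : Fin 3, o.w ^ (2 * k.val * a.val) • X ^ a.val) = (3 : F) • 1 := by
      intro X
      simp only [Fin.sum_univ_three, Fin.val_zero, Fin.val_one, show (2 : Fin 3).val = 2 from rfl]
      have hsum := o.sum
      have hc := o.cube
      simp only [mul_zero, zero_mul, mul_one, pow_zero, one_smul]
      have h4 : o.w ^ (2 * 2) = o.w := by linear_combination o.w * hc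
      have h8 : o.w ^ (2 * 2 * 2) = o.w ^ 2 := by linear_combination (o.w ^ 5 + o.w ^ 2) * hc
      rw [h4, h8]
      match_scalars
      · ring
      · linear_combination hsum
      · linear_combination hsum
    have h9 : ∑ k : Fin 3, ∑ l : Fin 3, e1 k * e2 l = (9 : F) • 1 := by
      rw [← Finset.sum_mul_sum, hs X₁, hs X₂, smul_mul_assoc, one_mul, smul_smul]
      norm_num
    have h0 : ((9 : F) • (1 : Matrix Ix Ix F)) *ᵥ (Pi.single (0, 0) 1) = 0 := by
      rw [← h9, Matrix.sum_mulVec]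
      refine Finset.sum_eq_zero fun k _ => ?_
      rw [Matrix.sum_mulVec]
      refine Finset.sum_eq_zero fun l _ => ?_
      rw [← mulVec_mulVec]
      exact hn k l _
    have := congrFun h0 (0, 0)
    simp [smul_mulVec] at this
    exact o.three (mul_self_eq_zero.1 (show (3 : F) * 3 = 0 by linear_combination this))
  set v₀ := e1 k *ᵥ (e2 l *ᵥ u)
  have hv₁ : X₁ *ᵥ v₀ = o.w ^ k.val • v₀ := by rw [mulVec_mulVec, proj X₁ hX₁ k, smul_mulVec]
  have hcomm12 : X₂ * e1 k = e1 k * X₂ := by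
    simp only [e1, Finset.mul_sum, Finset.sum_mul]
    refine Finset.sum_congr rfl fun a _ => ?_
    rw [mul_smul_comm, smul_mul_assoc, ((show Commute X₂ X₁ from c21).pow_right _).eq]
  have hv₂ : X₂ *ᵥ v₀ = o.w ^ l.val • v₀ := by
    rw [mulVec_mulVec, hcomm12, ← mulVec_mulVec, mulVec_mulVec _ X₂ (e2 l), proj X₂ hX₂ l, smul_mulVec, mulVec_smul]
  have hstep : ∀ (X Y : Matrix Ix Ix F) (t : F), X * Y = t • (Y * X) → ∀ (w : Ix → F) (a : F),
      X *ᵥ w = a • w → ∀ n : ℕ, X *ᵥ (Y ^ n *ᵥ w) = (t ^ n * a) • (Y ^ n *ᵥ w) := by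
    intro X Y t h w a hw n
    have := pow_swap h 1 n
    rw [pow_one, one_mul] at this
    rw [mulVec_mulVec, this, smul_mulVec, ← mulVec_mulVec, hw, mulVec_smul, smul_smul]
  have d12 : X₁ * Y₂ = (1 : F) • (Y₂ * X₁) := by rw [one_smul, cy1]
  have d21 : X₂ * Y₁ = (1 : F) • (Y₁ * X₂) := by rw [one_smul, c2y]
  -- a common fixed vector
  set v := Y₁ ^ (2 * k.val) *ᵥ (Y₂ ^ (2 * l.val) *ᵥ v₀)
  have hfix1 : X₁ *ᵥ v = v := by
    rw [hstep X₁ Y₁ o.w h₁ _ _ (hstep X₁ Y₂ 1 d12 _ _ hv₁ _), one_pow, one_mul, ← pow_add,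
      show 2 * k.val + k.val = 3 * k.val by ring, pow_mul, o.cube, one_pow, one_smul]
  have hfix2 : X₂ *ᵥ v = v := by
    rw [hstep X₂ Y₁ 1 d21 _ _ (hstep X₂ Y₂ o.w h₂ _ _ hv₂ _), one_pow, one_mul, ← pow_add,
      show 2 * l.val + l.val = 3 * l.val by ring, pow_mul, o.cube, one_pow, one_smul]
  have hv : v ≠ 0 := by
    intro h0
    apply hu
    show v₀ = 0
    have e : ∀ (g : GL Ix F) (n : ℕ) (w : Ix → F), mat g ^ n *ᵥ w = 0 → w = 0 := fun g n w hw => by
      have := congrArg (fun z => mat (g ^ n)⁻¹ *ᵥ z) hw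
      rw [← Units.val_pow_eq_pow_val] at this
      simpa [mulVec_mulVec] using this
    exact e y₂ _ _ (e y₁ _ _ h0)
  -- the basis
  let b : Ix → Ix → F := fun p => Y₁ ^ p.1.val *ᵥ (Y₂ ^ p.2.val *ᵥ v)
  have hb1 : ∀ p, X₁ *ᵥ b p = o.w ^ p.1.val • b p := fun p => by
    have := hstep X₁ Y₁ o.w h₁ _ _ (hstep X₁ Y₂ 1 d12 v 1 (by rw [one_smul]; exact hfix1) p.2.val) p.1.val
    rw [one_pow, one_mul, mul_one] at this
    exact this
  have hb2 : ∀ p, X₂ *ᵥ b p = o.w ^ p.2.val • b p := fun p => by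
    have := hstep X₂ Y₁ 1 d21 _ _ (hstep X₂ Y₂ o.w h₂ v 1 (by rw [one_smul]; exact hfix2) p.2.val) p.1.val
    rw [one_pow, one_mul, mul_one] at this
    exact this
  have hbY1 : ∀ p : Ix, Y₁ *ᵥ b p = b (p.1 + 1, p.2) := fun p => by
    show Y₁ *ᵥ _ = Y₁ ^ (p.1 + 1 : Fin 3).val *ᵥ _
    have h3 : Y₁ ^ 3 = 1 := by rw [pow_succ, pow_two]; exact hY₁
    rw [mulVec_mulVec, ← pow_succ', Fin.val_add, ← pow_eq_pow_mod _ h3, show (1 : Fin 3).val = 1 from rfl]
  have hbY2 : ∀ p : Ix, Y₂ *ᵥ b p = b (p.1, p.2 + 1) := fun p => by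
    show Y₂ *ᵥ (Y₁ ^ _ *ᵥ _) = Y₁ ^ _ *ᵥ (Y₂ ^ (p.2 + 1 : Fin 3).val *ᵥ _)
    have h3 : Y₂ ^ 3 = 1 := by rw [pow_succ, pow_two]; exact hY₂
    rw [mulVec_mulVec, ((show Commute Y₂ Y₁ from cyy).pow_right _).eq, ← mulVec_mulVec, mulVec_mulVec _ Y₂,
      ← pow_succ', Fin.val_add, ← pow_eq_pow_mod _ h3, show (1 : Fin 3).val = 1 from rfl]
  have hb0 : ∀ p, b p ≠ 0 := fun p h0 => by
    have e : ∀ (g : GL Ix F) (n : ℕ) (w : Ix → F), mat g ^ n *ᵥ w = 0 → w = 0 := fun g n w hw => by
      have := congrArg (fun z => mat (g ^ n)⁻¹ *ᵥ z) hw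
      rw [← Units.val_pow_eq_pow_val] at this
      simpa [mulVec_mulVec] using this
    exact hv (e y₂ _ _ (e y₁ _ _ h0))
  let Pm : Matrix Ix Ix F := Matrix.of fun i p => b p i
  have hPc : ∀ c : Ix → F, Pm *ᵥ c = ∑ p, c p • b p := fun c => by
    funext i
    simp [Pm, mulVec, dotProduct, Finset.sum_apply, mul_comm]
  have hunit : IsUnit Pm := by
    refine mulVec_injective_iff_isUnit.1 ((injective_iff_map_eq_zero Pm.mulVecLin).2 fun c hc => ?_)
    rw [mulVecLin_apply, hPc] at hc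
    funext q
    have he : ∀ (X : Matrix Ix Ix F) (k : Fin 3) (p : Ix) (j : Fin 3), X *ᵥ b p = o.w ^ j.val • b p →
        (∑ a : Fin 3, o.w ^ (2 * k.val * a.val) • X ^ a.val) *ᵥ b p = (if j = k then (3 : F) else 0) • b p := by
      intro X k p j hX
      have hXX : (X ^ 2) *ᵥ b p = o.w ^ (2 * j.val) • b p := by
        rw [pow_two, ← mulVec_mulVec, hX, mulVec_smul, hX, smul_smul, ← pow_add, two_mul]
      simp only [Fin.sum_univ_three, add_mulVec, smul_mulVec, Fin.val_zero, Fin.val_one, pow_zero, pow_one,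
        one_mulVec, show (2 : Fin 3).val = 2 from rfl, hX, hXX, smul_smul, ← add_smul, ← pow_add, mul_zero, one_smul,
        mul_one]
      nth_rewrite 1 [← one_smul F (b p)]
      rw [← add_smul, ← add_smul]
      congr 1
      have hs := o.sum
      have hcube := o.cube
      fin_cases j <;> fin_cases k <;> simp <;> grind
    have h0 := congrArg (fun z => e1 q.1 *ᵥ (e2 q.2 *ᵥ z)) hc
    simp only [mulVec_sum, mulVec_smul, mulVec_zero] at h0
    rw [Finset.sum_eq_single q (fun p _ hpq => ?_) (fun h => absurd (Finset.mem_univ q) h)] at h0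
    · rw [he X₂ q.2 q q.2 (hb2 q), mulVec_smul, he X₁ q.1 q q.1 (hb1 q), if_pos rfl, if_pos rfl, smul_smul,
        smul_smul] at h0
      rcases smul_eq_zero.1 h0 with h | h
      · rcases mul_eq_zero.1 h with h | h
        · exact (mul_eq_zero.1 h).resolve_right o.three
        · exact absurd h o.three
      · exact absurd h (hb0 q)
    · rw [he X₂ q.2 p p.2 (hb2 p), mulVec_smul, he X₁ q.1 p p.1 (hb1 p)]
      by_cases h1 : p.1 = q.1
      · have h2' : p.2 ≠ q.2 := fun h2' => hpq (Prod.ext h1 h2')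
        rw [if_neg h2', zero_smul, smul_zero]
      · rw [if_neg h1, zero_smul, smul_zero, smul_zero]
  set P := hunit.unit
  have hPv : mat P = Pm := rfl
  have hgen : ∀ {g : GL Ix F} {h : GL Ix F}, (∀ p, mat g *ᵥ b p = Pm *ᵥ (mat h *ᵥ Pi.single p 1)) →
      P⁻¹ * g * P = h := fun {g h} hh => by
    rw [mul_assoc, inv_mul_eq_iff_eq_mul]
    apply Units.ext
    refine Matrix.ext_of_mulVec_single fun p => ?_
    rw [Units.val_mul, Units.val_mul, ← mulVec_mulVec, ← mulVec_mulVec, hPv, ← hh p]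
    congr 1
    funext i
    simp [Pm]
  have hcol : ∀ p, Pm *ᵥ Pi.single p 1 = b p := fun p => by
    funext i
    simp [Pm]
  have g1 : P⁻¹ * x₁ * P = cn (clock o) := hgen fun p => by
    rw [cn_clock_col, mulVec_smul, hcol]; exact hb1 p
  have g2 : P⁻¹ * y₁ * P = cn (shift F) := hgen fun p => by
    rw [cn_shift_col, hcol]; exact hbY1 p
  have g3 : P⁻¹ * x₂ * P = bl (clock o) := hgen fun p => by
    rw [bl_clock_col, mulVec_smul, hcol]; exact hb2 p
  have g4 : P⁻¹ * y₂ * P = bl (shift F) := hgen fun p => by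
    rw [bl_shift_col, hcol]; exact hbY2 p
  set R' := R.comap (MulAut.conj P).toMonoidHom
  have hmemR : ∀ g, P⁻¹ * g * P ∈ R' ↔ g ∈ R := fun g => by
    show P * (P⁻¹ * g * P) * P⁻¹ ∈ R ↔ _
    rw [show P * (P⁻¹ * g * P) * P⁻¹ = g by group]
  have hle : R₀ o ≤ R' := by
    rw [R₀_eq_closure, Subgroup.closure_le]
    rintro _ (rfl | rfl | rfl | rfl)
    · rw [← g1]; exact (hmemR _).2 hx₁
    · rw [← g2]; exact (hmemR _).2 hy₁
    · rw [← g3]; exact (hmemR _).2 hx₂.1
    · rw [← g4]; exact (hmemR _).2 hy₂.1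
  refine ⟨P, fun g => ⟨fun hg => ?_, fun hg => (hmemR g).1 (hle hg)⟩⟩
  set r := P⁻¹ * g * P with hr
  have hrR : r ∈ R' := (hmemR g).2 hg
  have hfix : ∀ p, Sends4 o r p p := fun p => by
    show p9 r * p9 (e4 o p) * (p9 r)⁻¹ = p9 (e4 o p)
    obtain ⟨c, hc⟩ := D.comm _ (show P * r * P⁻¹ ∈ R from hrR) _ (show P * e4 o p * P⁻¹ ∈ R from hle (e4_mem o p))
    have hp : p9 r * p9 (e4 o p) = p9 (e4 o p) * p9 r := by
      rw [← map_mul, ← map_mul, p9_eq]
      refine ⟨c, ?_⟩
      have h' : mat (P * (r * e4 o p) * P⁻¹) = c • mat (P * (e4 o p * r) * P⁻¹) := by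
        rw [show P * (r * e4 o p) * P⁻¹ = (P * r * P⁻¹) * (P * e4 o p * P⁻¹) by group,
          show P * (e4 o p * r) * P⁻¹ = (P * e4 o p * P⁻¹) * (P * r * P⁻¹) by group, Units.val_mul, hc, Units.val_mul (P * e4 o p * P⁻¹)]
      have h'' := congrArg (fun Z => mat P⁻¹ * Z * mat P) h'
      simpa only [Units.val_mul, mul_smul_comm, smul_mul_assoc, mul_assoc, Units.inv_mul, mul_one,
        Units.inv_mul_cancel_left] using h''
    rw [hp, mul_inv_cancel_right]
  obtain ⟨q, hq⟩ := exists_point_of_fix hfix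
  obtain ⟨c, hc⟩ := p9_eq.1 hq
  have h3 : r ^ 3 = 1 := by
    have := D.cube _ hg
    rw [hr, show P⁻¹ * g * P = P⁻¹ * g * P⁻¹⁻¹ by rw [inv_inv], conj_pow, this, mul_one, mul_inv_cancel]
  have hc3 : c ^ 3 = 1 := by
    have h' : mat (r ^ 3) = c ^ 3 • mat (e4 o q ^ 3) := by
      rw [Units.val_pow_eq_pow_val, hc, smul_pow, Units.val_pow_eq_pow_val]
    rw [h3, cube_R₀ o (e4_mem o q), Units.val_one] at h'
    simpa using (congrFun (congrFun h' (0, 0)) (0, 0)).symm
  obtain ⟨i, hi⟩ := exists_cube_pow o hc3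
  have he : r = cn (sc o ^ i) * e4 o q := Units.ext (by
    rw [hc, hi, Units.val_mul, cn_val, sc_pow, Matrix.smul_kronecker, one_kronecker_one, smul_mul_assoc, one_mul])
  rw [he]
  exact (R₀ o).mul_mem (cn_mem o ((heis o).pow_mem (sc_mem o) i)) (e4_mem o q)

end CfsgLib.SympThree
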