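import Cfsg.Agent.SympThree.Closed
import Cfsg.Agent.SympThree.NormalForm
import Cfsg.Agent.SympType.LinearDouble
import Cfsg.Agent.SympType.Coords
import Cfsg.Agent.SLThree.Hessian.Main

/-!
# The normaliser of `3^(1+4)` is maximal in `SL₉ (p)`, `p ≡ 1 (mod 3)`
-/

set_option autoImplicit false
set_option linter.unusedSectionVars false

namespace CfsgLib.SympThree

open Matrix Cfsg.Geo CfsgLib.SLThree CfsgLib.SLThree.Hessian CfsgLib.MaxSub
open scoped Kronecker

local notation:max "mat" => Units.val

variable {F : Type*} [Field F] [Fintype F] (o : Omega F) {p : ℕ} [Fact p.Prime]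

/-- An overgroup of clock, shift and the quaternion elements in `SL₃` normalises or is everything. -/
theorem base_three (hF : Fintype.card F = p) (hp7 : 7 ≤ p) {M₀ : Subgroup (GL (Fin 3) F)}
    (hSL : M₀ ≤ specialLinear (Fin 3) F) (hc : clock o ∈ M₀) (hs : shift F ∈ M₀) (hq : ∀ k, quat o k ∈ M₀) :
    M₀ ≤ subgroupNormalizer (heis o) ∨ specialLinear (Fin 3) F ≤ M₀ := by
  classical
  have hheis : heis o ≤ M₀ := by
    rw [heis, Subgroup.closure_le]
    rintro _ (rfl | rfl)
    exacts [hc, hs]
  by_cases hno : NoFlag M₀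
  · left
    have hfour : four o ∈ M₀ := by simpa [quat] using hq 0
    refine le_normalizer_of_isolated o (two_ne hF hp7) hc hs hfour fun r hr hr2 hcr => ?_
    by_contra hne
    push Not at hne
    exact false_of_commuting o hF hp7 hno (fun x hx => mem_sl.1 (hSL hx)) hq hc hs hr hr2 hne.1 hne.2 hcr
  · right
    simp only [NoFlag, not_forall, not_not] at hno
    obtain ⟨v, a, hfl⟩ := hno
    exact CfsgLib.SLThree.specialLinear_le_of_rootIn ((irreducible_heis o).mono hheis) hfl.centre_ne hfl.axis_ne
      (hfl.rootIn_of_prime hF)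

/-- The transvection of a block. -/
theorem tv_block (i : Fin 3) {a b : Fin 3} (hab : a ≠ b) (c : F) :
    tv (Pi.single (a, i) c) (Pi.single (b, i) (1 : F)) =
      bd (Pi.mulSingle i (tv (Pi.single a c) (Pi.single b (1 : F)))) := by
  have h9 : (Pi.single (b, i) (1 : F) : Ix → F) ⬝ᵥ Pi.single (a, i) c = 0 := by simp [hab.symm]
  have h3 : (Pi.single b (1 : F) : Fin 3 → F) ⬝ᵥ Pi.single a c = 0 := by simp [hab.symm]
  apply Units.ext
  rw [tv_coe h9, bd_val]
  ext ⟨r, k⟩ ⟨s, l⟩
  rw [blockDiagonal_apply]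
  simp only [Matrix.add_apply, vecMulVec_apply, Matrix.one_apply, Pi.single_apply, Prod.mk.injEq]
  by_cases hk : k = i <;> by_cases hl : k = l
  · subst hk hl
    simp [tv_coe h3, vecMulVec_apply, Matrix.one_apply, Pi.single_apply]
  · subst hk
    have : l ≠ k := Ne.symm hl
    simp [hl, this]
  · subst hl
    simp [hk, Matrix.one_apply]
  · simp [hk, hl]

theorem top_nine (M : Subgroup (GL Ix F)) (hsw : (sw : GL Ix F) ∈ M) (hsh : bl (shift F) ∈ M)
    (h : ∀ a ∈ specialLinear (Fin 3) F, bd (Pi.mulSingle 2 a) ∈ M) : specialLinear Ix F ≤ M := by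
  have hall : ∀ (i : Fin 3), ∀ a ∈ specialLinear (Fin 3) F, bd (Pi.mulSingle i a) ∈ M := by
    have step : ∀ (i : Fin 3) (a : GL (Fin 3) F), bd (Pi.mulSingle i a) ∈ M → bd (Pi.mulSingle (i + 1) a) ∈ M := by
      intro i a hi
      have := M.mul_mem (M.mul_mem hsh hi) (M.inv_mem hsh)
      rw [shift_conj_bd] at this
      convert this using 2
      funext k
      simp only [Pi.mulSingle_apply]
      have : k - 1 = i ↔ k = i + 1 := sub_eq_iff_eq_add
      split_ifs <;> simp_all
    intro i a ha
    fin_cases i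
    · exact step 2 a (h a ha)
    · exact step 0 a (step 2 a (h a ha))
    · exact h a ha
  have col : ∀ (i : Fin 3) {a b : Fin 3}, a ≠ b →
      RootIn M (Pi.single (a, i) (1 : F)) (Pi.single (b, i) (1 : F)) := by
    intro i a b hab
    refine ⟨by simp [hab.symm], fun c => ?_⟩
    rw [← Pi.single_smul, smul_eq_mul, mul_one, tv_block i hab c]
    exact hall i _ (tv_mem_specialLinear _ _)
  have hswe : ∀ q : Ix, mat (sw : GL Ix F) *ᵥ Pi.single q 1 = (-1 : F) • Pi.single q.swap 1 := by
    intro q
    funext r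
    rw [Matrix.mulVec_single_one]
    show -(Matrix.of fun p q : Ix => if p = q.swap then (1 : F) else 0) r q = _
    simp [Pi.single_apply]
    split_ifs <;> simp
  have hswv : ∀ q : Ix, (Pi.single q (1 : F)) ᵥ* mat (sw : GL Ix F)⁻¹ = (-1 : F) • Pi.single q.swap 1 := by
    intro q
    funext r
    rw [sw_inv, Matrix.single_one_vecMul]
    show -(Matrix.of fun p q : Ix => if p = q.swap then (1 : F) else 0) q r = _
    simp [Pi.single_apply, Prod.ext_iff, and_comm, eq_comm]
    split_ifs <;> simp
  have row : ∀ (j : Fin 3) {a b : Fin 3}, a ≠ b →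
      RootIn M (Pi.single (j, a) (1 : F)) (Pi.single (j, b) (1 : F)) := by
    intro j a b hab
    have := (col j hab).conj hsw
    rw [hswe, hswv] at this
    have h2 := (this.smul_left (-1)).smul_right (-1)
    simpa [smul_smul] using h2
  have all : ∀ q r : Ix, q ≠ r → RootIn M (Pi.single q (1 : F)) (Pi.single r (1 : F)) := by
    rintro ⟨a, i⟩ ⟨b, k⟩ hne
    by_cases hik : i = k
    · subst hik
      exact col i fun e => hne (by rw [e])
    by_cases hab : a = b
    · subst hab
      exact row a hik
    refine (col k hab).rule_axis (w := Pi.single (a, i) (1 : F)) (b := Pi.single (a, k) (1 : F))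
      (by simp [Ne.symm hik]) ((row a hik).mem) (by simp [Ne.symm hik]) (by simp)
  have hirr : Irreducible M := by
    intro W hW
    refine or_iff_not_imp_left.2 fun hW0 => ?_
    obtain ⟨u, hu, hu0⟩ := Submodule.exists_mem_ne_zero_of_ne_bot hW0
    obtain ⟨r, hr⟩ := Function.ne_iff.1 hu0
    have key : ∀ q, q ≠ r → ∀ w ∈ W, w r ≠ 0 → (Pi.single q (1 : F) : Ix → F) ∈ W := by
      intro q hq w hw hwr
      have h1 := hW _ (all q r hq).mem w hw
      rw [tv_mulVec (all q r hq).1] at h1
      have h2 := W.sub_mem h1 hw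
      rw [add_sub_cancel_left, single_dotProduct, one_mul] at h2
      have := W.smul_mem (w r)⁻¹ h2
      rwa [inv_smul_smul₀ hwr] at this
    have hbasis : ∀ q, (Pi.single q (1 : F) : Ix → F) ∈ W := by
      intro q
      by_cases hq : q = r
      · subst hq
        obtain ⟨q', hq'⟩ := exists_ne q
        have h1 := hW _ (all q q' hq'.symm).mem _ (key q' hq' u hu hr)
        rw [tv_mulVec (all q q' hq'.symm).1] at h1
        have h2 := W.sub_mem h1 (key q' hq' u hu hr)
        rw [add_sub_cancel_left, single_dotProduct, one_mul, Pi.single_eq_same, one_smul] at h2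
        exact h2
      · exact key q hq u hu hr
    refine eq_top_iff.2 fun v _ => ?_
    rw [← Finset.univ_sum_single v]
    refine W.sum_mem fun q _ => ?_
    rw [show Pi.single q (v q) = v q • (Pi.single q (1 : F) : Ix → F) by
      rw [← Pi.single_smul, smul_eq_mul, mul_one]]
    exact W.smul_mem _ (hbasis q)
  refine specialLinear_le_of_fullAxis hirr (a := Pi.single ((0, 0) : Ix) (1 : F)) (by simp) ?_
  refine fullAxis_of_centres fun v hv => ?_
  rw [← Finset.univ_sum_single v]
  refine (centres M _).sum_mem fun q _ => ?_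
  by_cases hq : q = ((0, 0) : Ix)
  · subst hq
    have : v (0, 0) = 0 := by simpa using hv
    rw [this, Pi.single_zero]; exact Submodule.zero_mem _
  · rw [show Pi.single q (v q) = v q • (Pi.single q (1 : F) : Ix → F) by
      rw [← Pi.single_smul, smul_eq_mul, mul_one]]
    exact Submodule.smul_mem _ _ (mem_centres.2 (all q _ hq))

/-- The linear ambient groups. -/
def slAmb : Amb o where
  U := ⊤
  W := ⊤
  bd_mem _ := by simp
  bl_mem _ _ := Subgroup.mem_top _
  sw_mem := Subgroup.mem_top _
  clock_mem := Subgroup.mem_top _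
  shift_mem := Subgroup.mem_top _
  four_mem := Subgroup.mem_top _
  tw_mem := Subgroup.mem_top _
  bmap _ _ _ _ _ := Subgroup.mem_top _

theorem slRich (hF : Fintype.card F = p) (hp7 : 7 ≤ p) : Rich (slAmb o) where
  flip_mem := Subgroup.mem_top _
  two_ne := Hessian.two_ne hF hp7
  normalized K hn r hr hrS hns := by
    simp only [slAmb, top_inf_eq] at hn hrS ⊢
    exact CfsgLib.SympType.specialLinear_le_of_normalized (by simp) hn hr hrS hns
  base B hBU hc hs h4 ht :=
    (slAmb o).base_of_det_one hBU (fun M₀ hle hc' hs' hq => by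
      simp only [slAmb, top_inf_eq] at hle ⊢
      exact base_three o hF hp7 hle hc' hs' hq) hc hs h4 ht
  pElem := by
    refine ⟨p, Fact.out, by omega, tv (Pi.single 0 1) (Pi.single 1 1), ⟨Subgroup.mem_top _, tv_mem_specialLinear _ _⟩,
      ?_, ?_⟩
    · have hd : (Pi.single 1 1 : Fin 3 → F) ⬝ᵥ Pi.single 0 1 = 0 := by simp
      have key : ∀ n : ℕ, tv (Pi.single 0 1) (Pi.single 1 1 : Fin 3 → F) ^ n =
          tv ((n : F) • Pi.single 0 1) (Pi.single 1 1) := by
        intro n
        induction n with
        | zero => simp [tv_zero_left]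
        | succ n ih =>
          rw [pow_succ, ih, tv_mul_left (by simp [hd]) hd, Nat.cast_succ, add_smul, one_smul]
      have hp0 : (p : F) = 0 := by rw [← hF]; exact Nat.cast_card_eq_zero F
      rw [key, hp0, zero_smul, tv_zero_left]
    · intro h
      obtain ⟨c, hc⟩ := (mem_scalars_iff _).1 h
      have := congrFun (congrFun hc 0) 1
      rw [tv_coe (by simp)] at this
      simp [vecMulVec_apply] at this
  top M hR hsw h := by
    simp only [slAmb, top_inf_eq] at h ⊢
    exact top_nine M hsw (hR (bl_mem o (shift_mem o))) h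

/-- The gate for the standard group. -/
theorem isMaximalIn_R₀ (hF : Fintype.card F = p) (hp7 : 7 ≤ p) :
    IsMaximalIn (specialLinear Ix F) (subgroupNormalizer (R₀ o) ⊓ specialLinear Ix F) := by
  have hG : (slAmb o).G = specialLinear Ix F := top_inf_eq _
  refine isMaximalIn_of inf_le_right ?_ fun M hHM hMK g hg hg' => ?_
  · obtain ⟨t, ht, htn⟩ := Hessian.exists_not_normalises o
    refine ⟨bd (Pi.mulSingle 0 t), mem_sl.2 ?_, fun h => htn ?_⟩
    · rw [det_bd, Fin.prod_univ_three]
      simp [mem_sl.1 ht]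
    · obtain ⟨S, hS⟩ := exists_acts_of_bd o h.1
      simpa using (hS 0).mem_normalizer o
  · have O : Over (slAmb o) M := ⟨by rw [hG]; exact hMK, by rw [hG]; exact hHM⟩
    rcases O.le_normalizer_or_top (slRich o hF hp7) with h | h
    · exact absurd ⟨h hg, hMK hg⟩ hg'
    · rwa [hG] at h

theorem glReindex_mem_sl {ι : Type} [Fintype ι] [DecidableEq ι] (e : Ix ≃ ι) {g : GL Ix F} :
    glReindex e g ∈ specialLinear ι F ↔ g ∈ specialLinear Ix F := by
  rw [mem_sl, mem_sl, show mat (glReindex e g) = Matrix.reindex e e (mat g) from rfl, det_reindex_self]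

/-- **The normaliser of `3^(1+4)` is maximal in `SL₉ (p)`, `p ≡ 1 (mod 3)`.** -/
theorem isMaximalIn_symplecticType₉ {p : ℕ} (hp : p.Prime) (hF : Fintype.card F = p) (h1 : p % 3 = 1)
    {R : Subgroup (GL (Fin 9) F)} (hR : IsLinearSymplecticTypeData 3 R) :
    IsMaximalIn (specialLinear (Fin 9) F) (subgroupNormalizer R ⊓ specialLinear (Fin 9) F) := by
  haveI : Fact p.Prime := ⟨hp⟩
  have hp7 : 7 ≤ p := by
    by_contra h
    have := hp.two_le
    interval_cases p <;> first | omega | exact absurd hp (by decide)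
  obtain ⟨o⟩ := Hessian.exists_omega (F := F) (by omega)
  let e : Ix ≃ Fin 9 := finProdFinEquiv
  obtain ⟨P, hP⟩ := ((NFData.of_symplecticType hR.symplecticType hR.absIrred).reindex e).exists_normal_form o
  let φ : GL Ix F ≃* GL (Fin 9) F := (MulAut.conj P).trans (glReindex e)
  have hφS : (specialLinear (Fin 9) F).comap φ.toMonoidHom = specialLinear Ix F := by
    ext x
    show glReindex e (P * x * P⁻¹) ∈ specialLinear (Fin 9) F ↔ x ∈ specialLinear Ix F
    rw [glReindex_mem_sl]
    haveI : (specialLinear Ix F).Normal := MonoidHom.normal_ker _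
    refine ⟨fun h => ?_, fun h => Subgroup.Normal.conj_mem inferInstance _ h P⟩
    have h' := Subgroup.Normal.conj_mem (inferInstance : (specialLinear Ix F).Normal) _ h P⁻¹
    rwa [show P⁻¹ * (P * x * P⁻¹) * P⁻¹⁻¹ = x by group] at h'
  have hφR : R.comap φ.toMonoidHom = R₀ o := by
    ext x
    show glReindex e (P * x * P⁻¹) ∈ R ↔ x ∈ R₀ o
    have h := hP (P * x * P⁻¹)
    rw [show P⁻¹ * (P * x * P⁻¹) * P = x by group] at h
    exact h
  refine SympType.isMaximalIn_of_comap φ ?_
  have hN : (subgroupNormalizer R).comap φ.toMonoidHom = subgroupNormalizer (R₀ o) := by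
    rw [← hφR]
    exact Subgroup.comap_normalizer_eq_of_surjective R φ.surjective
  rw [Subgroup.comap_inf, hN, hφS]
  exact isMaximalIn_R₀ o hF hp7

end CfsgLib.SympThree
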