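import Cfsg.Agent.SLThree.Hessian.NormalSub
import Mathlib.Data.ZMod.Basic

/-!
# The action of the normaliser of the Heisenberg group on its points

Modulo scalars the Heisenberg group is a plane over `ZMod 3`; its normaliser acts on it through matrices of
determinant one, and every such matrix is the action of a word in the Fourier matrix and `tw`.
-/

set_option autoImplicit false
set_option linter.unusedSectionVars false

namespace CfsgLib.SympThree

open Matrix Cfsg.Geo CfsgLib.SLThree.Hessian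

local notation:max "mat" => Units.val

/-- The points. -/
abbrev Pnt : Type := ZMod 3 × ZMod 3

/-- A pair of points, seen as the columns of a matrix. -/
abbrev Mat2 : Type := Pnt × Pnt

/-- Apply. -/
def ap (S : Mat2) (v : Pnt) : Pnt := (v.1 * S.1.1 + v.2 * S.2.1, v.1 * S.1.2 + v.2 * S.2.2)

/-- The symplectic pairing. -/
def dt (u v : Pnt) : ZMod 3 := u.1 * v.2 - u.2 * v.1

/-- Composition. -/
def cmp (S T : Mat2) : Mat2 := (ap S T.1, ap S T.2)

/-- The identity. -/
def id2 : Mat2 := ((1, 0), (0, 1))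

/-- Minus the identity. -/
def neg2 : Mat2 := ((2, 0), (0, 2))

/-- The action of the Fourier matrix. -/
def fourS : Mat2 := ((0, 2), (1, 0))

/-- The action of `tw`. -/
def twS : Mat2 := ((1, 0), (2, 1))

theorem ap_id2 (v : Pnt) : ap id2 v = v := by simp [ap, id2]

theorem ap_cmp : ∀ (S T : Mat2) (v : Pnt), ap (cmp S T) v = ap S (ap T v) := by
  intro S T v; simp only [ap, cmp, Prod.mk.injEq]; constructor <;> ring

variable {F : Type*} [Field F] (o : Omega F)

/-- The monomial of a point. -/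
def mono (v : Pnt) : GL (Fin 3) F := clock o ^ v.1.val * shift F ^ v.2.val

theorem mono_mem (v : Pnt) : mono o v ∈ heis o :=
  (heis o).mul_mem ((heis o).pow_mem (clock_mem o) _) ((heis o).pow_mem (shift_mem o) _)

theorem pr_mono (v : Pnt) : pr (mono o v) = pr (clock o) ^ v.1.val * pr (shift F) ^ v.2.val := by
  rw [mono, map_mul, map_pow, map_pow]

theorem pr_mono_add (u v : Pnt) : pr (mono o (u + v)) = pr (mono o u) * pr (mono o v) := by
  have hC : pr (clock o) ^ 3 = 1 := by rw [← map_pow, clock_pow_three o, map_one]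
  have hS : pr (shift F) ^ 3 = 1 := by rw [← map_pow, shift_pow_three o, map_one]
  simp only [pr_mono, Prod.fst_add, Prod.snd_add, ZMod.val_add]
  rw [← pow_eq_pow_mod _ hC, ← pow_eq_pow_mod _ hS, pow_add, pow_add,
    ← mul_assoc, ← mul_assoc, mul_assoc (pr (clock o) ^ u.1.val), ((pr_clock_shift o).pow_pow v.1.val u.2.val).eq,
    ← mul_assoc]

theorem mono_zero : mono o 0 = 1 := by simp [mono]

theorem mono_fst : mono o (1, 0) = clock o := by simp [mono, ZMod.val_one]

theorem mono_snd : mono o (0, 1) = shift F := by simp [mono, ZMod.val_one]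

theorem pr_mono_inj {u v : Pnt} (h : pr (mono o u) = pr (mono o v)) : u = v := by
  have h0 : pr (mono o (u - v)) = 1 := by
    have := pr_mono_add o (u - v) v
    rw [sub_add_cancel, h] at this
    exact mul_eq_right.1 this.symm
  refine sub_eq_zero.1 (by_contra fun hne => ?_)
  obtain ⟨c, hc⟩ := pr_eq_one.1 h0
  rw [mono] at hc
  refine not_commute o (u - v).1 (u - v).2 (fun e => hne (Prod.ext e.1 e.2)) ?_
  show mat (clock o ^ (u - v).1.val * shift F ^ (u - v).2.val) * _ = _ * mat (clock o ^ (u - v).1.val * shift F ^ (u - v).2.val)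
  rw [hc, smul_mul_assoc, mul_smul_comm, one_mul, mul_one]

theorem mo_iff {x : GL (Fin 3) F} : Mo o (mat x) ↔ ∃ v : Pnt, pr x = pr (mono o v) := by
  constructor
  · rintro ⟨c, i, j, h⟩
    exact ⟨(i, j), pr_eq.2 ⟨c, h⟩⟩
  · rintro ⟨v, h⟩
    obtain ⟨c, hc⟩ := pr_eq.1 h
    exact ⟨c, v.1, v.2, hc⟩

theorem pr_of_mem {x : GL (Fin 3) F} (hx : x ∈ heis o) : ∃ v : Pnt, pr x = pr (mono o v) :=
  (mo_iff o).1 (mo_of_eig o (eig_of_mem o hx) x.ne_zero)

theorem mem_heis_of_pr {x : GL (Fin 3) F} (h3 : x ^ 3 = 1) {v : Pnt} (h : pr x = pr (mono o v)) : x ∈ heis o :=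
  mem_of_mo o ((mo_iff o).2 ⟨v, h⟩) h3

/-- The commutation rule. -/
theorem mono_swap (u v : Pnt) :
    mat (mono o u) * mat (mono o v) = o.w ^ (dt u v).val • (mat (mono o v) * mat (mono o u)) := by
  have hsw : ∀ n m : ℕ, mat (shift F) ^ n * mat (clock o) ^ m =
      (o.w ^ 2) ^ (n * m) • (mat (clock o) ^ m * mat (shift F) ^ n) := pow_swap (shift_mul_clock o)
  have key : ∀ a b c d : ℕ, mat (clock o) ^ a * mat (shift F) ^ b * (mat (clock o) ^ c * mat (shift F) ^ d) =
      o.w ^ (2 * (b * c)) • (mat (clock o) ^ (a + c) * mat (shift F) ^ (b + d)) := fun a b c d => by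
    rw [mul_assoc (mat (clock o) ^ a), ← mul_assoc (mat (shift F) ^ b), hsw, smul_mul_assoc, mul_smul_comm,
      ← pow_mul, mul_assoc (mat (clock o) ^ c), ← pow_add, ← mul_assoc (mat (clock o) ^ a),
      ← pow_add]
  simp only [mono, Units.val_mul, Units.val_pow_eq_pow_val]
  rw [key, key, add_comm v.1.val u.1.val, add_comm v.2.val u.2.val, smul_smul, ← pow_add]
  congr 1
  rw [pow_eq_pow_mod _ o.cube, pow_eq_pow_mod ((dt u v).val + _) o.cube]
  congr 1
  revert u v
  decide

/-- `g` moves the point `v` to `u`. -/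
def Sends (g : GL (Fin 3) F) (v u : Pnt) : Prop := pr g * pr (mono o v) * (pr g)⁻¹ = pr (mono o u)

/-- `g` acts on the points by `S`. -/
def Acts (g : GL (Fin 3) F) (S : Mat2) : Prop := Sends o g (1, 0) S.1 ∧ Sends o g (0, 1) S.2

theorem Sends.unique {g : GL (Fin 3) F} {v u u' : Pnt} (h : Sends o g v u) (h' : Sends o g v u') : u = u' :=
  pr_mono_inj o (h.symm.trans h')

theorem Sends.add {g : GL (Fin 3) F} {v u v' u' : Pnt} (h : Sends o g v u) (h' : Sends o g v' u') :
    Sends o g (v + v') (u + u') := by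
  show pr g * _ * (pr g)⁻¹ = _
  rw [pr_mono_add, pr_mono_add, ← conj_mul, h, h']

theorem Sends.zero (g : GL (Fin 3) F) : Sends o g 0 0 := by
  show pr g * _ * (pr g)⁻¹ = _
  rw [mono_zero, map_one, mul_one, mul_inv_cancel]

theorem Sends.smul {g : GL (Fin 3) F} {v u : Pnt} (h : Sends o g v u) (a : ZMod 3) : Sends o g (a • v) (a • u) := by
  rcases (show ∀ a : ZMod 3, a = 0 ∨ a = 1 ∨ a = 2 by decide) a with rfl | rfl | rfl
  · rw [zero_smul, zero_smul]; exact Sends.zero o g
  · rwa [one_smul, one_smul]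
  · rw [show (2 : ZMod 3) = 1 + 1 from rfl, add_smul, add_smul, one_smul, one_smul]
    exact h.add o h

theorem Sends.comp {g h : GL (Fin 3) F} {v u t : Pnt} (h1 : Sends o g u t) (h2 : Sends o h v u) :
    Sends o (g * h) v t := by
  show pr (g * h) * _ * (pr (g * h))⁻¹ = _
  rw [← h1, ← h2, map_mul]
  group

theorem Acts.sends {g : GL (Fin 3) F} {S : Mat2} (h : Acts o g S) (v : Pnt) : Sends o g v (ap S v) := by
  have := (h.1.smul o v.1).add o (h.2.smul o v.2)
  rcases v with ⟨a, b⟩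
  simpa [ap, Prod.smul_def, Prod.ext_iff] using this

theorem Acts.unique {g : GL (Fin 3) F} {S T : Mat2} (h : Acts o g S) (h' : Acts o g T) : S = T :=
  Prod.ext (h.1.unique o h'.1) (h.2.unique o h'.2)

theorem acts_one : Acts o (1 : GL (Fin 3) F) id2 := by simp [Acts, Sends, id2]

theorem Acts.mul {g h : GL (Fin 3) F} {S T : Mat2} (hg : Acts o g S) (hh : Acts o h T) : Acts o (g * h) (cmp S T) :=
  ⟨(hg.sends o _).comp o hh.1, (hg.sends o _).comp o hh.2⟩

theorem Acts.pow {g : GL (Fin 3) F} {S : Mat2} (hg : Acts o g S) :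
    ∀ n : ℕ, Acts o (g ^ n) ((cmp S)^[n] id2)
  | 0 => by simpa using acts_one o
  | n + 1 => by
    rw [pow_succ', Function.iterate_succ_apply']
    exact hg.mul o (Acts.pow hg n)

theorem Acts.congr {g h : GL (Fin 3) F} (e : pr g = pr h) {S : Mat2} (hh : Acts o h S) : Acts o g S := by
  simpa only [Acts, Sends, e] using hh

theorem acts_mono (v : Pnt) : Acts o (mono o v) id2 := by
  constructor <;>
  · show pr _ * pr _ * (pr _)⁻¹ = pr _
    rw [← pr_mono_add, add_comm, pr_mono_add, mul_inv_cancel_right]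
    rfl

theorem acts_of_mem {x : GL (Fin 3) F} (hx : x ∈ heis o) : Acts o x id2 := by
  obtain ⟨v, hv⟩ := pr_of_mem o hx
  exact Acts.congr o hv (acts_mono o v)

theorem acts_four : Acts o (four o) fourS := by
  constructor
  · show pr _ * pr (mono o (1, 0)) * (pr _)⁻¹ = pr (mono o (0, 2))
    rw [mono_fst, ← map_mul, ← map_inv, ← map_mul, conj_four_clock, shift_inv o]
    simp [mono, show (2 : ZMod 3).val = 2 from rfl]
  · show pr _ * pr (mono o (0, 1)) * (pr _)⁻¹ = pr (mono o (1, 0))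
    rw [mono_fst, mono_snd, ← map_mul, ← map_inv, ← map_mul, conj_four_shift]

theorem acts_tw : Acts o (tw o) twS := by
  constructor
  · show pr _ * pr (mono o (1, 0)) * (pr _)⁻¹ = pr (mono o (1, 0))
    rw [mono_fst, ← map_mul, ← map_inv, ← map_mul, conj_tw_clock]
  · show pr _ * pr (mono o (0, 1)) * (pr _)⁻¹ = pr (mono o (2, 1))
    rw [mono_snd, ← map_mul, ← map_inv, ← map_mul, conj_tw_shift, map_mul, map_mul, pr_mono]
    rw [show ((2 : ZMod 3), (1 : ZMod 3)).1.val = 2 from rfl, show ((2 : ZMod 3), (1 : ZMod 3)).2.val = 1 from rfl,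
      pow_one, mul_assoc, (pr_clock_shift o).symm.eq, ← mul_assoc, ← pow_two]

theorem acts_cent : Acts o (cent : GL (Fin 3) F) neg2 := by
  rw [← four_sq o, ← show cmp fourS fourS = neg2 by decide]
  exact (acts_four o).mul o (acts_four o)

theorem exists_acts {g : GL (Fin 3) F} (hg : g ∈ subgroupNormalizer (heis o)) : ∃ S, Acts o g S := by
  have h : ∀ x ∈ heis o, ∃ v, pr g * pr x * (pr g)⁻¹ = pr (mono o v) := fun x hx => by
    rw [← map_mul, ← map_inv, ← map_mul]
    exact pr_of_mem o ((Subgroup.mem_normalizer_iff.1 hg x).1 hx)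
  obtain ⟨a, ha⟩ := h _ (mono_mem o (1, 0))
  obtain ⟨b, hb⟩ := h _ (mono_mem o (0, 1))
  exact ⟨(a, b), ha, hb⟩

theorem Acts.mem_normalizer [Finite F] {g : GL (Fin 3) F} {S : Mat2} (h : Acts o g S) :
    g ∈ subgroupNormalizer (heis o) := by
  refine mem_normalizer_of_gens o (mem_heis_of_pr o ?_ (v := S.1) ?_) (mem_heis_of_pr o ?_ (v := S.2) ?_)
  · rw [conj_pow, clock_pow_three o, mul_one, mul_inv_cancel]
  · rw [map_mul, map_mul, map_inv, ← mono_fst o]; exact h.1
  · rw [conj_pow, shift_pow_three o, mul_one, mul_inv_cancel]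
  · rw [map_mul, map_mul, map_inv, ← mono_snd o]; exact h.2

theorem Acts.dt_eq {g : GL (Fin 3) F} {S : Mat2} (h : Acts o g S) : dt S.1 S.2 = 1 := by
  have lift : ∀ {v u : Pnt}, Sends o g v u → ∃ c : F, c ≠ 0 ∧ mat g * mat (mono o v) * mat g⁻¹ = c • mat (mono o u) := by
    intro v u hvu
    obtain ⟨c, hc⟩ := pr_eq.1 (show pr (g * mono o v * g⁻¹) = pr (mono o u) by simpa [Sends] using hvu)
    refine ⟨c, fun h0 => (g * mono o v * g⁻¹).ne_zero (by rw [hc, h0, zero_smul]), ?_⟩
    simpa only [Units.val_mul] using hc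
  obtain ⟨a, ha0, ha⟩ := lift h.1
  obtain ⟨b, hb0, hb⟩ := lift h.2
  set u : Pnt := (1, 0)
  set v : Pnt := (0, 1)
  have e := congrArg (fun X => mat g * X * mat g⁻¹) (mono_swap o u v)
  have hd : ∀ X Y : Matrix (Fin 3) (Fin 3) F,
      mat g * (X * Y) * mat g⁻¹ = (mat g * X * mat g⁻¹) * (mat g * Y * mat g⁻¹) := fun X Y => by
    simp only [mul_assoc, Units.inv_mul_cancel_left]
  simp only [mul_smul_comm, smul_mul_assoc, hd, ha, hb] at e
  rw [mono_swap o S.1 S.2] at e
  simp only [smul_smul] at e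
  have hne : mat (mono o S.2) * mat (mono o S.1) ≠ 0 := by
    rw [← Units.val_mul]; exact Units.ne_zero _
  have h1 := smul_left_injective F hne e
  have h2 : o.w ^ (dt S.1 S.2).val = o.w ^ (dt u v).val := by
    refine mul_left_cancel₀ (mul_ne_zero ha0 hb0) ?_
    linear_combination h1
  exact (show ∀ x : ZMod 3, x.val % 3 = (dt u v).val % 3 → x = 1 by decide) _ (o.pow_inj h2)

/-! ### Words -/

/-- The group of words. -/
def words : Subgroup (GL (Fin 3) F) := Subgroup.closure {four o, tw o}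

theorem four_mem_words : four o ∈ words o := Subgroup.subset_closure (by simp)
theorem tw_mem_words : tw o ∈ words o := Subgroup.subset_closure (by simp)

/-- Every matrix of determinant one is the action of a word. -/
theorem exists_word {S : Mat2} (hS : dt S.1 S.2 = 1) : ∃ n ∈ words o, Acts o n S := by
  obtain ⟨a, e, b, h⟩ := (show ∀ S : Mat2, dt S.1 S.2 = 1 → ∃ a : Fin 3, ∃ e : Fin 4, ∃ b : Fin 3,
    cmp ((cmp twS)^[a.val] id2) (cmp ((cmp fourS)^[e.val] id2) ((cmp twS)^[b.val] id2)) = S by decide) S hS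
  refine ⟨tw o ^ a.val * (four o ^ e.val * tw o ^ b.val), ?_, ?_⟩
  · exact (words o).mul_mem ((words o).pow_mem (tw_mem_words o) _)
      ((words o).mul_mem ((words o).pow_mem (four_mem_words o) _) ((words o).pow_mem (tw_mem_words o) _))
  · rw [← h]
    exact ((acts_tw o).pow o _).mul o (((acts_four o).pow o _).mul o ((acts_tw o).pow o _))

/-- Words are transitive on the non-zero points. -/
theorem exists_word_sends {v : Pnt} (hv : v ≠ 0) : ∃ n ∈ words o, Sends o n v (1, 0) := by
  obtain ⟨S, hS, hSv⟩ := (show ∀ v : Pnt, v ≠ 0 → ∃ S : Mat2, dt S.1 S.2 = 1 ∧ ap S v = (1, 0) by decide) v hv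
  obtain ⟨n, hn, ha⟩ := exists_word o hS
  exact ⟨n, hn, hSv ▸ ha.sends o v⟩

/-- An element acting trivially is a scalar multiple of a monomial. -/
theorem exists_mono_of_acts_one {g : GL (Fin 3) F} (h : Acts o g id2) : ∃ v, pr g = pr (mono o v) := by
  refine (mo_iff o).1 (mo_of_eig o (eig_of_pr o ?_ ?_) g.ne_zero)
  · have := mul_inv_eq_iff_eq_mul.1 (show pr g * pr (mono o (1, 0)) * (pr g)⁻¹ = pr (mono o (1, 0)) from h.1)
    rw [mono_fst] at this
    exact this.symm
  · have := mul_inv_eq_iff_eq_mul.1 (show pr g * pr (mono o (0, 1)) * (pr g)⁻¹ = pr (mono o (0, 1)) from h.2)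
    rw [mono_snd] at this
    exact this.symm

/-- The central involution fixes only scalars. -/
theorem scalar_of_comm_cent {g : GL (Fin 3) F} (h : Acts o g id2) (hc : cent * g = g * cent) :
    ∃ c : F, mat g = c • 1 := by
  obtain ⟨v, hv⟩ := exists_mono_of_acts_one o h
  have h1 := (acts_cent o).sends o v
  have h2 : Sends o (cent : GL (Fin 3) F) v v := by
    show pr _ * _ * (pr _)⁻¹ = _
    rw [← hv, ← map_mul, ← map_inv, ← map_mul, hc, mul_inv_cancel_right]
  have := (show ∀ v : Pnt, ap neg2 v = v → v = 0 by decide) v (h1.unique o h2)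
  rw [this, mono_zero, map_one] at hv
  exact pr_eq_one.1 hv

/-! ### Groups normalising a subgroup of the normaliser -/

/-- An element normalising a subgroup of the normaliser which contains clock, shift and the Fourier matrix
normalises the Heisenberg group. -/
theorem mem_normalizer_of_normalises [Finite F] {M₀ : Subgroup (GL (Fin 3) F)}
    (hle : M₀ ≤ subgroupNormalizer (heis o)) (hH : heis o ≤ M₀) (hfour : four o ∈ M₀) {g : GL (Fin 3) F}
    (h1 : ∀ x ∈ M₀, g * x * g⁻¹ ∈ M₀) (h2 : ∀ x ∈ M₀, g⁻¹ * x * g ∈ M₀) :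
    g ∈ subgroupNormalizer (heis o) := by
  classical
  have hgen : ∀ x ∈ heis o, x ^ 3 = 1 → g * x * g⁻¹ ∈ heis o ∨ g⁻¹ ∈ subgroupNormalizer (heis o) := by
    intro x hx hx3
    have hy := hle (h1 x (hH hx))
    have hy3 : (g * x * g⁻¹) ^ 3 = 1 := by rw [conj_pow, hx3, mul_one, mul_inv_cancel]
    obtain ⟨S, hS⟩ := exists_acts o hy
    by_cases hS1 : S = id2
    · obtain ⟨v, hv⟩ := exists_mono_of_acts_one o (hS1 ▸ hS)
      exact Or.inl (mem_heis_of_pr o hy3 hv)
    refine Or.inr ?_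
    set y := g * x * g⁻¹ with hy'
    set H' := (heis o).map (MulAut.conj g).toMonoidHom with hH'
    have hyH : y ∈ H' := ⟨x, hx, rfl⟩
    have hnH : ∀ a ∈ M₀, ∀ z ∈ H', a * z * a⁻¹ ∈ H' := by
      rintro a ha _ ⟨z, hz, rfl⟩
      refine ⟨(g⁻¹ * a * g) * z * (g⁻¹ * a * g)⁻¹, (Subgroup.mem_normalizer_iff.1 (hle (h2 a ha)) z).1 hz, ?_⟩
      simp only [MulEquiv.coe_toMonoidHom, MulAut.conj_apply]
      group
    -- a non-scalar monomial in the conjugate
    obtain ⟨u, hu⟩ : ∃ u : Pnt, ap S u ≠ u := by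
      by_contra hcon
      push Not at hcon
      exact hS1 (Prod.ext (by simpa [ap, id2] using hcon (1, 0)) (by simpa [ap, id2] using hcon (0, 1)))
    set z := y * mono o u * y⁻¹ * (mono o u)⁻¹ with hz'
    have hzH : z ∈ H' := by
      rw [hz', show y * mono o u * y⁻¹ * (mono o u)⁻¹ = y * (mono o u * y⁻¹ * (mono o u)⁻¹) by group]
      exact H'.mul_mem hyH (hnH _ (hH (mono_mem o u)) _ (H'.inv_mem hyH))
    set v : Pnt := ap S u - u with hv'
    have hzv : pr z = pr (mono o v) := by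
      have h := hS.sends o u
      rw [Sends] at h
      rw [hz', map_mul, map_mul, map_mul, map_inv, map_inv, h, mul_inv_eq_iff_eq_mul, ← pr_mono_add, sub_add_cancel]
    have hQ1 : pr (mono o v) ∈ H'.map pr := ⟨z, hzH, hzv⟩
    have hQ2 : pr ((shift F ^ 2) ^ v.1.val * clock o ^ v.2.val) ∈ H'.map pr := by
      refine ⟨four o * z * (four o)⁻¹, hnH _ hfour _ hzH, ?_⟩
      rw [← four_conj_mo, map_mul, map_mul, hzv, map_mul, map_mul]
      rfl
    have hv0 : ¬ (v.1 = 0 ∧ v.2 = 0) := fun e => hu (sub_eq_zero.1 (Prod.ext e.1 e.2))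
    obtain ⟨hC, hS'⟩ := clock_shift_mem o (H := H'.map pr) v.1 v.2 hv0 hQ1 hQ2
    have key : ∀ a : GL (Fin 3) F, a ^ 3 = 1 → pr a ∈ H'.map pr → g⁻¹ * a * g⁻¹⁻¹ ∈ heis o := by
      intro a ha hab
      obtain ⟨_, ⟨b, hb, rfl⟩, hbp⟩ := hab
      obtain ⟨u', hu'⟩ := pr_of_mem o hb
      refine mem_heis_of_pr o (v := u') (by rw [conj_pow, ha, mul_one, mul_inv_cancel]) ?_
      rw [← hu', map_mul, map_mul, map_inv, ← hbp]
      simp only [MulEquiv.coe_toMonoidHom, MulAut.conj_apply, map_mul, map_inv]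
      group
    exact mem_normalizer_of_gens o (key _ (clock_pow_three o) hC) (key _ (shift_pow_three o) hS')
  rcases hgen _ (clock_mem o) (clock_pow_three o) with a | a
  · rcases hgen _ (shift_mem o) (shift_pow_three o) with b | b
    · exact mem_normalizer_of_gens o a b
    · simpa using (subgroupNormalizer (heis o)).inv_mem b
  · simpa using (subgroupNormalizer (heis o)).inv_mem a

end CfsgLib.SympThree
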