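import Cfsg.Agent.SympThree.BaseSmall
import Cfsg.Agent.SympThree.Act

/-!
# A group containing the Hessian generators normalises the Heisenberg group or has a transvection

An involution commuting with the central involution gives, through Dickson's list in the plane of the central
involution, a homology of order three or four; a second plane then carries an element of projective order
greater than five.
-/

set_option autoImplicit false
set_option linter.unusedSectionVars false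

namespace CfsgLib.SympThree.Base

open Matrix Cfsg.Geo CfsgLib.SLThree.Hessian

variable {F : Type*} [Field F]

/-- Block diagonal matrices of shape two and one. -/
def blk (A : Matrix (Fin 2) (Fin 2) F) (l : F) : Matrix (Fin 3) (Fin 3) F :=
  !![A 0 0, A 0 1, 0; A 1 0, A 1 1, 0; 0, 0, l]

theorem blk_mul (A B : Matrix (Fin 2) (Fin 2) F) (l m : F) : blk A l * blk B m = blk (A * B) (l * m) := by
  ext i j; fin_cases i <;> fin_cases j <;> simp [blk, Matrix.mul_apply, Fin.sum_univ_three, Fin.sum_univ_two]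

theorem blk_one : blk (1 : Matrix (Fin 2) (Fin 2) F) 1 = 1 := by
  ext i j; fin_cases i <;> fin_cases j <;> simp [blk]

theorem blk_sub_one (A : Matrix (Fin 2) (Fin 2) F) (l : F) : blk A l - 1 = blk (A - 1) (l - 1) := by
  ext i j; fin_cases i <;> fin_cases j <;> simp [blk]

theorem blk_zero : blk (0 : Matrix (Fin 2) (Fin 2) F) 0 = 0 := by
  ext i j; fin_cases i <;> fin_cases j <;> simp [blk]

theorem det_blk (A : Matrix (Fin 2) (Fin 2) F) (l : F) : (blk A l).det = A.det * l := by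
  rw [det_fin_three, det_fin_two]; simp [blk]; ring

theorem blk_injective {A B : Matrix (Fin 2) (Fin 2) F} {l m : F} (h : blk A l = blk B m) : A = B ∧ l = m := by
  refine ⟨?_, by simpa [blk] using congrFun (congrFun h 2) 2⟩
  ext i j
  fin_cases i <;> fin_cases j
  · simpa [blk] using congrFun (congrFun h 0) 0
  · simpa [blk] using congrFun (congrFun h 0) 1
  · simpa [blk] using congrFun (congrFun h 1) 0
  · simpa [blk] using congrFun (congrFun h 1) 1

/-- The block diagonal embedding. -/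
def emb : GL (Fin 2) F × Fˣ →* GL (Fin 3) F :=
  MonoidHom.mk' (fun x => ⟨blk x.1.1 x.2.1, blk (x.1⁻¹).1 (x.2⁻¹).1,
      by rw [blk_mul, Units.mul_inv, Units.mul_inv, blk_one],
      by rw [blk_mul, Units.inv_mul, Units.inv_mul, blk_one]⟩)
    fun x y => Units.ext (by simp [blk_mul])

theorem emb_val (x : GL (Fin 2) F × Fˣ) : (emb x : Matrix (Fin 3) (Fin 3) F) = blk x.1.1 x.2.1 := rfl

/-- The embedding in the basis given by the columns of `Q`. -/
def phi (Q : GL (Fin 3) F) : GL (Fin 2) F × Fˣ →* GL (Fin 3) F := (MulAut.conj Q).toMonoidHom.comp emb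

theorem phi_apply (Q : GL (Fin 3) F) (x : GL (Fin 2) F × Fˣ) : phi Q x = Q * emb x * Q⁻¹ := rfl

theorem phi_eq {Q g : GL (Fin 3) F} {x : GL (Fin 2) F × Fˣ}
    (h : (g : Matrix (Fin 3) (Fin 3) F) * Q.1 = Q.1 * blk x.1.1 x.2.1) : phi Q x = g := by
  rw [phi_apply, mul_inv_eq_iff_eq_mul]
  exact Units.ext (by rw [Units.val_mul, Units.val_mul, emb_val, h])

/-- Change of basis. -/
theorem phi_mul_basis {Q R : GL (Fin 3) F} {x y : GL (Fin 2) F × Fˣ}
    (h : blk x.1.1 x.2.1 * R.1 = R.1 * blk y.1.1 y.2.1) : phi (Q * R) y = phi Q x := by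
  have e : emb x * R = R * emb y := Units.ext (by rw [Units.val_mul, Units.val_mul, emb_val, emb_val, h])
  rw [phi_apply, phi_apply, show Q * R * emb y * (Q * R)⁻¹ = Q * (R * emb y * R⁻¹) * Q⁻¹ by group, ← e,
    mul_inv_cancel_right]

theorem phi_injective (Q : GL (Fin 3) F) : Function.Injective (phi Q) := by
  intro x y h
  have h' : emb x = emb y := (MulAut.conj Q).injective h
  obtain ⟨e1, e2⟩ := blk_injective (congrArg Units.val h')
  exact Prod.ext (Units.ext e1) (Units.ext e2)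

/-- What a group induces on the plane of a decomposition. -/
def plane (B : Subgroup (GL (Fin 3) F)) (Q : GL (Fin 3) F) : Subgroup (GL (Fin 2) F) :=
  (B.comap (phi Q)).map (MonoidHom.fst _ _)

theorem mem_plane {B : Subgroup (GL (Fin 3) F)} {Q : GL (Fin 3) F} {A : GL (Fin 2) F} {l : Fˣ}
    (h : phi Q (A, l) ∈ B) : A ∈ plane B Q := ⟨(A, l), h, rfl⟩

theorem pow_add_sq_zero {D : Matrix (Fin 2) (Fin 2) F} (hD : D * D = 0) (β : F) :
    ∀ k : ℕ, (β • (1 : Matrix (Fin 2) (Fin 2) F) + D) ^ (k + 1) =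
      β ^ (k + 1) • (1 : Matrix (Fin 2) (Fin 2) F) + (((k + 1 : ℕ) : F) * β ^ k) • D := by
  intro k
  induction k with
  | zero => simp
  | succ k ih =>
    rw [pow_succ, ih, add_mul, mul_add, mul_add]
    simp only [smul_mul_assoc, mul_smul_comm, one_mul, mul_one, hD, smul_zero, add_zero, smul_smul]
    rw [add_assoc, ← add_smul]
    congr 2 <;> push_cast <;> ring

variable [Fintype F] {p : ℕ} [Fact p.Prime] [CharP F p]

include p in
/-- Without transvections there are no unipotent elements in the planes. -/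
theorem scal_of_no_transvection {B : Subgroup (GL (Fin 3) F)}
    (hno : ∀ t ∈ B, ((t : Matrix (Fin 3) (Fin 3) F) - 1) * ((t : Matrix (Fin 3) (Fin 3) F) - 1) = 0 → t = 1)
    (Q : GL (Fin 3) F) :
    ∀ g ∈ plane B Q, ∀ β : F, (g.1 - β • 1) * (g.1 - β • 1) = 0 → Scal g := by
  classical
  rintro _ ⟨⟨A, l⟩, hx, rfl⟩ β hβ
  change (A.1 - β • 1) * (A.1 - β • 1) = 0 at hβ
  show Scal A
  set D := A.1 - β • 1 with hD
  have hA : A.1 = β • 1 + D := by rw [hD, add_sub_cancel]
  have hβ0 : β ≠ 0 := by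
    rintro rfl
    exact A.det_ne_zero (by
      have := congrArg Matrix.det hβ
      rw [det_mul, det_zero, mul_self_eq_zero] at this
      rw [hA, zero_smul, zero_add]
      exact this)
  obtain ⟨k, hk⟩ : ∃ k, Fintype.card F = k + 2 :=
    Nat.exists_eq_add_of_le' (Fintype.one_lt_card (α := F))
  have hpow : ∀ a : F, a ≠ 0 → a ^ (k + 1) = 1 := fun a ha => by
    have := FiniteField.pow_card_sub_one_eq_one a ha
    rwa [hk] at this
  have hcast : ((k + 1 : ℕ) : F) = -1 := by
    have := FiniteField.cast_card_eq_zero F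
    rw [hk] at this
    push_cast at this ⊢
    linear_combination this
  have h1 := hno _ (B.pow_mem hx (k + 1)) (by
    rw [← map_pow, phi_apply, Units.val_mul, Units.val_mul, emb_val]
    have e : ∀ Y : Matrix (Fin 3) (Fin 3) F, Q.1 * Y * (Q⁻¹ : GL (Fin 3) F).1 - 1 =
        Q.1 * (Y - 1) * (Q⁻¹ : GL (Fin 3) F).1 := fun Y => by
      rw [mul_sub, sub_mul, mul_one, Units.mul_inv]
    rw [e, show ∀ Y : Matrix (Fin 3) (Fin 3) F, (Q.1 * Y * (Q⁻¹ : GL (Fin 3) F).1) *
        (Q.1 * Y * (Q⁻¹ : GL (Fin 3) F).1) = Q.1 * (Y * Y) * (Q⁻¹ : GL (Fin 3) F).1 from fun Y => by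
      simp only [mul_assoc, Units.inv_mul_cancel_left], blk_sub_one, blk_mul]
    simp only [Prod.pow_fst, Prod.pow_snd, Units.val_pow_eq_pow_val]
    rw [hA, pow_add_sq_zero hβ, hpow β hβ0, hpow l.1 l.ne_zero, one_smul, add_sub_cancel_left,
      smul_mul_assoc, mul_smul_comm, hβ, smul_zero, smul_zero, sub_self, zero_mul, blk_zero, mul_zero,
      zero_mul])
  rw [← map_pow] at h1
  have h2 := congrArg (fun x : GL (Fin 2) F × Fˣ => x.1.1) ((phi_injective Q) (h1.trans (map_one _).symm))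
  simp only [Prod.pow_fst, Units.val_pow_eq_pow_val, Prod.fst_one, Units.val_one] at h2
  rw [hA, pow_add_sq_zero hβ, hpow β hβ0, one_smul, add_eq_left] at h2
  refine ⟨β, sub_eq_zero.1 ((smul_eq_zero.1 h2).resolve_left ?_)⟩
  rw [hcast]
  exact mul_ne_zero (neg_ne_zero.2 one_ne_zero) (pow_ne_zero _ hβ0)

/-- A matrix with `2 tr² = det` has no small power which is scalar. -/
theorem not_scal_pow {M : Matrix (Fin 2) (Fin 2) F} {t d : F} (hM : M * M = t • M - d • 1) (hne : M 0 1 ≠ 0)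
    (htd : 2 * t ^ 2 = d) (hd : d ≠ 0) (h2 : (2 : F) ≠ 0) (h3 : (3 : F) ≠ 0) {n : ℕ} (h1n : 1 ≤ n) (hn : n ≤ 5) :
    ¬ ∃ c : F, M ^ n = c • 1 := by
  rintro ⟨c, hc⟩
  have key : ∀ u v : F, (u • M - v • 1) * M = (u * t - v) • M - (u * d) • 1 := fun u v => by
    rw [sub_mul, smul_mul_assoc, smul_mul_assoc, one_mul, hM, smul_sub, smul_smul, smul_smul, sub_smul]
    abel
  have p2 : M ^ 2 = t • M - d • 1 := by rw [pow_two, hM]
  have p3 : M ^ 3 = (t * t - d) • M - (t * d) • 1 := by rw [pow_succ, p2, key]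
  have p4 := (congrArg (· * M) p3).trans (key _ _)
  rw [← pow_succ] at p4
  have p5 := (congrArg (· * M) p4).trans (key _ _)
  rw [← pow_succ] at p5
  have fin : ∀ u v : F, M ^ n = u • M - v • 1 → u = 0 := fun u v h => by
    have := congrFun (congrFun (h.symm.trans hc) 0) 1
    simpa [hne] using this
  interval_cases n
  · exact one_ne_zero (fin 1 0 (by simp))
  · have := fin _ _ p2
    exact hd (by rw [← htd, this]; ring)
  · have := fin _ _ p3
    exact hd (by linear_combination htd - 2 * this)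
  · have := fin _ _ p4
    have h : t * d * 3 = 0 := by linear_combination t * htd - 2 * this
    rcases mul_eq_zero.1 h with h | h
    · rcases mul_eq_zero.1 h with h | h
      · exact hd (by rw [← htd, h]; ring)
      · exact hd h
    · exact h3 h
  · have := fin _ _ p5
    have h : d ^ 2 = 0 := by linear_combination -4 * this + (2 * t ^ 2 - 5 * d) * htd
    exact hd (pow_eq_zero_iff two_ne_zero |>.1 h)

variable (o : Omega F)

omit [Fintype F] [CharP F p] in
theorem not_scal_comm {a b : GL (Fin 2) F} (h : ∀ k : F, a.1 * b.1 ≠ k • (b.1 * a.1)) :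
    ¬ Scal (a * b * a⁻¹ * b⁻¹) := by
  rintro ⟨k, hk⟩
  refine h k ?_
  calc a.1 * b.1 = (a * b * a⁻¹ * b⁻¹).1 * (b.1 * a.1) := by
        rw [← Units.val_mul, ← Units.val_mul, ← Units.val_mul]; congr 1; group
    _ = k • (b.1 * a.1) := by rw [hk, smul_mul_assoc, one_mul]

/-- A scalar on the plane of the central involution, with the given value on its fixed line. -/
def HasHom (B : Subgroup (GL (Fin 3) F)) (Q : GL (Fin 3) F) (c l : F) : Prop :=
  ∃ (A : GL (Fin 2) F) (L : Fˣ), A.1 = c • 1 ∧ L.1 = l ∧ phi Q (A, L) ∈ B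

/-- The plane of the central involution and its fixed line. -/
def Q1 (h2 : (2 : F) ≠ 0) : GL (Fin 3) F :=
  GeneralLinearGroup.mkOfDetNeZero !![1, 0, 0; 0, 1, 1; 0, 1, -1] (by
    rw [det_fin_three]; simp
    exact fun h => h2 (by linear_combination -h))

omit [Fintype F] [CharP F p] in
theorem phi_cent (h2 : (2 : F) ≠ 0) : phi (Q1 h2) (-1, 1) = cent := phi_eq (by
  show (!![-1, 0, 0; 0, 0, -1; 0, -1, 0] : Matrix (Fin 3) (Fin 3) F) * !![1, 0, 0; 0, 1, 1; 0, 1, -1] =
    !![1, 0, 0; 0, 1, 1; 0, 1, -1] * blk (-1) 1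
  ext i j; fin_cases i <;> fin_cases j <;> simp [blk, Matrix.mul_apply, Fin.sum_univ_three])

omit [Fintype F] [CharP F p] in
theorem mem_sl3 {g : GL (Fin 3) F} :
    g ∈ specialLinear (Fin 3) F ↔ (g : Matrix (Fin 3) (Fin 3) F).det = 1 := by
  rw [specialLinear, MonoidHom.mem_ker, Units.ext_iff, Matrix.GeneralLinearGroup.val_det_apply, Units.val_one]

variable {B : Subgroup (GL (Fin 3) F)}
  (hno : ∀ t ∈ B, ((t : Matrix (Fin 3) (Fin 3) F) - 1) * ((t : Matrix (Fin 3) (Fin 3) F) - 1) = 0 → t = 1)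
include hno

set_option maxHeartbeats 800000 in
/-- No homology of order three. -/
theorem no_hom_three (hp2 : p ≠ 2) (h2 : (2 : F) ≠ 0) (hs : shift F ∈ B) (hf : four o ∈ B) :
    ¬ HasHom B (Q1 h2) o.w (o.w ^ 2) := by
  have h3 := o.three
  have hw := o.sum
  have hw3 := o.cube
  have hw1 := o.ne_one
  have hw0 := o.ne_zero
  have hs0 := o.s_ne
  have hss := o.s_sq
  have hsd : o.s = o.w - o.w ^ 2 := rfl
  let wU : Fˣ := Units.mk0 o.w hw0
  have ecent := phi_cent h2
  rintro ⟨A, L, hA, hL, hAB⟩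
  let R : GL (Fin 3) F := GeneralLinearGroup.mkOfDetNeZero !![-2, 0, 1; 1, 0, 1; 0, 1, 0] (by
    rw [det_fin_three]; simp
    exact fun h => h3 (by linear_combination h))
  let S : GL (Fin 2) F := GeneralLinearGroup.mkOfDetNeZero !![-1 / 2, 1 / 2; -3 / 2, -1 / 2] (by
    rw [det_fin_two]; simp; field_simp; intro h; exact mul_ne_zero h2 h2 (by linear_combination h))
  let D : GL (Fin 2) F := GeneralLinearGroup.mkOfDetNeZero !![o.w, 0; 0, o.w ^ 2] (by simp [det_fin_two, hw0])
  let J : GL (Fin 2) F := GeneralLinearGroup.mkOfDetNeZero !![-1, 0; 0, 1] (by simp [det_fin_two])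
  have eS : phi ((Q1 h2) * R) (S, 1) = shift F := phi_eq (by
    show (!![0, 0, 1; 1, 0, 0; 0, 1, 0] : Matrix (Fin 3) (Fin 3) F) *
        (!![1, 0, 0; 0, 1, 1; 0, 1, -1] * !![-2, 0, 1; 1, 0, 1; 0, 1, 0]) =
      !![1, 0, 0; 0, 1, 1; 0, 1, -1] * !![-2, 0, 1; 1, 0, 1; 0, 1, 0] * blk !![-1 / 2, 1 / 2; -3 / 2, -1 / 2] 1
    ext i j; fin_cases i <;> fin_cases j <;> simp [blk, Matrix.mul_apply, Fin.sum_univ_three] <;>
      field_simp <;> ring)
  have eD : phi ((Q1 h2) * R) (D, wU) = phi (Q1 h2) (A, L) := phi_mul_basis (by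
    simp only [hA, hL]
    show blk (o.w • 1) (o.w ^ 2) * !![-2, 0, 1; 1, 0, 1; 0, 1, 0] =
      !![-2, 0, 1; 1, 0, 1; 0, 1, 0] * blk !![o.w, 0; 0, o.w ^ 2] o.w
    ext i j; fin_cases i <;> fin_cases j <;> simp [blk, Matrix.mul_apply, Fin.sum_univ_three] <;> ring)
  have eJ : phi ((Q1 h2) * R) (J, -1) = cent := by
    rw [← ecent]
    refine phi_mul_basis ?_
    show blk (-1) 1 * !![-2, 0, 1; 1, 0, 1; 0, 1, 0] = !![-2, 0, 1; 1, 0, 1; 0, 1, 0] * blk !![-1, 0; 0, 1] (-1)
    ext i j; fin_cases i <;> fin_cases j <;> simp [blk, Matrix.mul_apply, Fin.sum_univ_three]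
  have hSB : phi ((Q1 h2) * R) (S, 1) ∈ B := eS ▸ hs
  have hDB : phi ((Q1 h2) * R) (D, wU) ∈ B := eD ▸ hAB
  have hJB : phi ((Q1 h2) * R) (J, -1) ∈ B := by rw [eJ, ← four_sq o]; exact B.mul_mem hf hf
  obtain ⟨hpow, -⟩ := small (p := p) hp2 (scal_of_no_transvection (p := p) hno ((Q1 h2) * R))
    (mem_plane hSB) (mem_plane hDB)
    ⟨1, by
      show (!![-1 / 2, 1 / 2; -3 / 2, -1 / 2] : Matrix (Fin 2) (Fin 2) F) ^ 3 = (1 : F) • 1
      rw [pow_succ, pow_two, one_smul]
      ext i j; fin_cases i <;> fin_cases j <;> simp [Matrix.mul_apply, Fin.sum_univ_two] <;>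
        field_simp <;> ring⟩
    ⟨1, by
      show (!![o.w, 0; 0, o.w ^ 2] : Matrix (Fin 2) (Fin 2) F) ^ 3 = (1 : F) • 1
      rw [pow_succ, pow_two, one_smul]
      ext i j; fin_cases i <;> fin_cases j <;> simp [Matrix.mul_apply, Fin.sum_univ_two] <;> grind⟩
    (not_scal_comm fun k e => by
      have e00 := congrFun (congrFun e 0) 0
      have e01 := congrFun (congrFun e 0) 1
      simp [S, D, Matrix.mul_apply, Fin.sum_univ_two, Matrix.GeneralLinearGroup.mkOfDetNeZero] at e00 e01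
      field_simp at e00 e01
      exact hw1 (by linear_combination e01 + e00))
  obtain ⟨n, h1n, hn5, k, hk⟩ := hpow (J * D) (mem_plane (l := -1 * wU) (by
    rw [← Prod.mk_mul_mk, map_mul]; exact B.mul_mem hJB hDB))
  rw [Units.val_pow_eq_pow_val, show (J * D).1 = Matrix.diagonal ![-o.w, o.w ^ 2] by
    show (!![-1, 0; 0, 1] : Matrix (Fin 2) (Fin 2) F) * !![o.w, 0; 0, o.w ^ 2] = _
    ext i j; fin_cases i <;> fin_cases j <;> simp [Matrix.mul_apply, Fin.sum_univ_two],
    Matrix.diagonal_pow] at hk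
  have e0 := congrFun (congrFun hk 0) 0
  have e1 := congrFun (congrFun hk 1) 1
  simp at e0 e1
  rw [← e0] at e1
  interval_cases n
  · exact one_ne_zero (show (1 : F) = 0 by linear_combination hw - e1)
  · exact hw1 (mul_left_cancel₀ hw0 (by linear_combination o.w * hw3 - e1))
  · exact h2 (by linear_combination e1 - (o.w ^ 3 + 2) * hw3)
  · exact hw1 (mul_left_cancel₀ hw0
      (by linear_combination e1 - o.w ^ 2 * (o.w ^ 3 + 1) * hw3 + o.w * hw3))
  · exact one_ne_zero (show (1 : F) = 0 by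
      linear_combination hw - e1 + o.w * (o.w ^ 6 + o.w ^ 3 + 1) * hw3 + o.w ^ 2 * hw3)


/-- No homology of order four. -/
theorem no_hom_four (hp2 : p ≠ 2) (h2 : (2 : F) ≠ 0) (hc : clock o ∈ B) :
    ¬ ∃ c : F, c ^ 2 = -1 ∧ HasHom B (Q1 h2) c (-1) := by
  have h3 := o.three
  have hw := o.sum
  have hw3 := o.cube
  have hw1 := o.ne_one
  have hw0 := o.ne_zero
  have hs0 := o.s_ne
  have hss := o.s_sq
  have hsd : o.s = o.w - o.w ^ 2 := rfl
  let wU : Fˣ := Units.mk0 o.w hw0
  have ecent := phi_cent h2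
  rintro ⟨c, hcc, A, L, hA, hL, hAB⟩
  have hc0 : c ≠ 0 := fun h => by rw [h] at hcc; simp at hcc
  let C : GL (Fin 2) F := GeneralLinearGroup.mkOfDetNeZero !![-1 / 2, o.s / 2; o.s / 2, -1 / 2] (by
    rw [det_fin_two]; simp; field_simp; intro h; exact mul_ne_zero h2 h2 (by linear_combination h + hss))
  let J : GL (Fin 2) F := GeneralLinearGroup.mkOfDetNeZero !![c, 0; 0, -1] (by simp [det_fin_two, hc0])
  let b : GL (Fin 2) F := GeneralLinearGroup.mkOfDetNeZero
    !![-1 / 2, -(c * o.s) / 2; c * o.s / 2, -1 / 2] (by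
      rw [det_fin_two]; simp; field_simp; intro h; exact mul_ne_zero h2 h2 (by linear_combination h + hss - o.s ^ 2 * hcc))
  let cU : Fˣ := Units.mk0 c hc0
  have eC : phi ((Q1 h2) * shift F) (C, 1) = clock o := phi_eq (by
    show (!![1, 0, 0; 0, o.w, 0; 0, 0, o.w ^ 2] : Matrix (Fin 3) (Fin 3) F) *
        (!![1, 0, 0; 0, 1, 1; 0, 1, -1] * !![0, 0, 1; 1, 0, 0; 0, 1, 0]) =
      !![1, 0, 0; 0, 1, 1; 0, 1, -1] * !![0, 0, 1; 1, 0, 0; 0, 1, 0] *
        blk !![-1 / 2, o.s / 2; o.s / 2, -1 / 2] 1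
    ext i j; fin_cases i <;> fin_cases j <;> simp [blk, Matrix.mul_apply, Fin.sum_univ_three] <;>
      field_simp <;> first | ring1 | linear_combination hw - hsd | linear_combination hw + hsd | linear_combination -hw - hsd)
  have eJ : phi ((Q1 h2) * shift F) (J, cU) = phi (Q1 h2) (A, L) := phi_mul_basis (by
    simp only [hA, hL]
    show blk (c • 1) (-1) * !![0, 0, 1; 1, 0, 0; 0, 1, 0] =
      !![0, 0, 1; 1, 0, 0; 0, 1, 0] * blk !![c, 0; 0, -1] c
    ext i j; fin_cases i <;> fin_cases j <;> simp [blk, Matrix.mul_apply, Fin.sum_univ_three])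
  have hCB : phi ((Q1 h2) * shift F) (C, 1) ∈ B := eC ▸ hc
  have hJB : phi ((Q1 h2) * shift F) (J, cU) ∈ B := eJ ▸ hAB
  have eb' : b = J * C * J⁻¹ := eq_mul_inv_iff_mul_eq.2 (Units.ext (by
    show (!![-1 / 2, -(c * o.s) / 2; c * o.s / 2, -1 / 2] : Matrix (Fin 2) (Fin 2) F) * !![c, 0; 0, -1] =
      !![c, 0; 0, -1] * !![-1 / 2, o.s / 2; o.s / 2, -1 / 2]
    ext i j; fin_cases i <;> fin_cases j <;> simp [Matrix.mul_apply, Fin.sum_univ_two] <;>
      field_simp <;> first | ring1 | linear_combination hcc))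
  have hbB : b ∈ plane B ((Q1 h2) * shift F) := by
    rw [eb']
    exact mul_mem (mul_mem (mem_plane hJB) (mem_plane hCB)) (inv_mem (mem_plane hJB))
  have hC3 : C ^ 3 = 1 := Units.ext (by
    show (!![-1 / 2, o.s / 2; o.s / 2, -1 / 2] : Matrix (Fin 2) (Fin 2) F) ^ 3 = 1
    rw [pow_succ, pow_two]
    ext i j; fin_cases i <;> fin_cases j <;> simp [Matrix.mul_apply, Fin.sum_univ_two] <;>
      field_simp <;> first | linear_combination -3 * hss | linear_combination o.s * hss)
  have hb3' : b ^ 3 = 1 := by rw [eb', conj_pow, hC3, mul_one, mul_inv_cancel]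
  obtain ⟨hpow, -⟩ := small (p := p) hp2 (scal_of_no_transvection (p := p) hno ((Q1 h2) * shift F))
    (mem_plane hCB) hbB ⟨1, by rw [hC3, Units.val_one, one_smul]⟩ ⟨1, by rw [hb3', Units.val_one, one_smul]⟩
    (not_scal_comm fun k e => by
      have e00 := congrFun (congrFun e 0) 0
      have e01 := congrFun (congrFun e 0) 1
      simp [C, b, Matrix.mul_apply, Fin.sum_univ_two, Matrix.GeneralLinearGroup.mkOfDetNeZero] at e00 e01
      field_simp at e00 e01
      have hk1 : k = 1 := by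
        refine mul_right_cancel₀ (b := c - 1) (fun h => mul_ne_zero h2 one_ne_zero ?_) ?_
        · linear_combination hcc - (c + 1) * h
        · linear_combination -e01
      rw [hk1] at e00
      exact mul_ne_zero (mul_ne_zero h2 (pow_ne_zero 2 hs0)) hc0 (by linear_combination e00))
  obtain ⟨n, h1n, hn5, k, hk⟩ := hpow (J * C) (mul_mem (mem_plane hJB) (mem_plane hCB))
  rw [Units.val_pow_eq_pow_val, show (J * C).1 = !![-c / 2, c * o.s / 2; -o.s / 2, 1 / 2] by
    show (!![c, 0; 0, -1] : Matrix (Fin 2) (Fin 2) F) * !![-1 / 2, o.s / 2; o.s / 2, -1 / 2] = _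
    ext i j; fin_cases i <;> fin_cases j <;> simp [Matrix.mul_apply, Fin.sum_univ_two] <;> ring] at hk
  refine not_scal_pow (t := (1 - c) / 2) (d := -c) ?_ ?_ ?_ (neg_ne_zero.2 hc0) h2 h3 h1n hn5 ⟨k, hk⟩
  · ext i j; fin_cases i <;> fin_cases j <;> simp [Matrix.mul_apply, Fin.sum_univ_two] <;>
      field_simp <;> first | ring1 | linear_combination -hss | linear_combination -c * hss
  · simpa [hc0, h2] using hs0
  · field_simp; linear_combination hcc


set_option maxHeartbeats 800000 in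
omit hno in
include p in
/-- **The base in degree three.** -/
theorem _root_.CfsgLib.SympThree.le_normalizer_or_transvection (hp5 : 5 ≤ p) {B : Subgroup (GL (Fin 3) F)}
    (hc : clock o ∈ B) (hs : shift F ∈ B) (hf : four o ∈ B) (ht : tw o ∈ B) :
    B ≤ subgroupNormalizer (heis o) ∨
      ∃ t ∈ B, t ≠ 1 ∧ ((t : Matrix (Fin 3) (Fin 3) F) - 1) * ((t : Matrix (Fin 3) (Fin 3) F) - 1) = 0 := by
  classical
  refine or_iff_not_imp_right.2 fun hnt => ?_
  have hno : ∀ t ∈ B, ((t : Matrix (Fin 3) (Fin 3) F) - 1) * ((t : Matrix (Fin 3) (Fin 3) F) - 1) = 0 → t = 1 :=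
    fun t htB h => by_contra fun h1 => hnt ⟨t, htB, h1, h⟩
  have hp2 : p ≠ 2 := by omega
  have h2 : (2 : F) ≠ 0 := Ring.two_ne_zero (by rw [ringChar.eq F p]; exact hp2)
  have h3 := o.three
  have hw := o.sum
  have hw3 := o.cube
  have hw1 := o.ne_one
  have hw0 := o.ne_zero
  have hs0 := o.s_ne
  have hss := o.s_sq
  have hsd : o.s = o.w - o.w ^ 2 := rfl
  let wU : Fˣ := Units.mk0 o.w hw0
  let aW : GL (Fin 2) F := GeneralLinearGroup.mkOfDetNeZero !![1, 0; 0, o.w] (by simp [det_fin_two, hw0])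
  let bW : GL (Fin 2) F := GeneralLinearGroup.mkOfDetNeZero
    ((3 : F)⁻¹ • !![1 + 2 * o.w, 2 - 2 * o.w; 1 - o.w, 2 + o.w]) (by
      rw [det_smul, det_fin_two]; simp [h3]; intro h; exact mul_ne_zero (mul_ne_zero h3 h3) hw0 (by linear_combination h))
  let fW : GL (Fin 2) F := GeneralLinearGroup.mkOfDetNeZero (o.s⁻¹ • !![1, 2; 1, -1]) (by
    rw [det_smul, det_fin_two]; simp [hs0]; exact fun h => h3 (by linear_combination -h))
  have etw : phi (Q1 h2) (aW, wU) = tw o := phi_eq (by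
    show (!![1, 0, 0; 0, o.w, 0; 0, 0, o.w] : Matrix (Fin 3) (Fin 3) F) * !![1, 0, 0; 0, 1, 1; 0, 1, -1] =
      !![1, 0, 0; 0, 1, 1; 0, 1, -1] * blk !![1, 0; 0, o.w] o.w
    ext i j; fin_cases i <;> fin_cases j <;> simp [blk, Matrix.mul_apply, Fin.sum_univ_three])
  have efour : phi (Q1 h2) (fW, 1) = four o := phi_eq (by
    show (o.s⁻¹ • !![1, 1, 1; 1, o.w, o.w ^ 2; 1, o.w ^ 2, o.w]) * !![1, 0, 0; 0, 1, 1; 0, 1, -1] =
      !![1, 0, 0; 0, 1, 1; 0, 1, -1] * blk (o.s⁻¹ • !![1, 2; 1, -1]) 1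
    ext i j; fin_cases i <;> fin_cases j <;> simp [blk, Matrix.mul_apply, Fin.sum_univ_three] <;>
      field_simp <;> first | ring1 | linear_combination hw | linear_combination -hsd | linear_combination hsd)
  have ecent := phi_cent h2
  have eb : bW = fW * aW * fW⁻¹ := eq_mul_inv_iff_mul_eq.2 (Units.ext (by
    show ((3 : F)⁻¹ • !![1 + 2 * o.w, 2 - 2 * o.w; 1 - o.w, 2 + o.w]) * (o.s⁻¹ • !![1, 2; 1, -1]) =
      (o.s⁻¹ • !![1, 2; 1, -1]) * (!![1, 0; 0, o.w] : Matrix (Fin 2) (Fin 2) F)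
    ext i j; fin_cases i <;> fin_cases j <;> simp [Matrix.mul_apply, Fin.sum_univ_two] <;>
      field_simp <;> ring1))
  have ha : phi (Q1 h2) (aW, wU) ∈ B := etw ▸ ht
  have hb : phi (Q1 h2) (bW, wU) ∈ B := by
    have : ((bW, wU) : GL (Fin 2) F × Fˣ) = (fW, 1) * (aW, wU) * (fW, 1)⁻¹ :=
      Prod.ext eb (by simp)
    rw [this, map_mul, map_mul, map_inv, etw, efour]
    exact B.mul_mem (B.mul_mem hf ht) (B.inv_mem hf)
  have ha3 : aW ^ 3 = 1 := Units.ext (by
    show (!![1, 0; 0, o.w] : Matrix (Fin 2) (Fin 2) F) ^ 3 = 1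
    rw [pow_succ, pow_two]
    ext i j; fin_cases i <;> fin_cases j <;> simp [Matrix.mul_apply, Fin.sum_univ_two]
    linear_combination hw3)
  have hb3 : bW ^ 3 = 1 := by rw [eb, conj_pow, ha3, mul_one, mul_inv_cancel]
  obtain ⟨hpow1, hinv1⟩ := small (p := p) hp2 (scal_of_no_transvection (p := p) hno (Q1 h2)) (mem_plane ha) (mem_plane hb)
    ⟨1, by rw [ha3, Units.val_one, one_smul]⟩ ⟨1, by rw [hb3, Units.val_one, one_smul]⟩
    (not_scal_comm fun k e => by
      have e00 := congrFun (congrFun e 0) 0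
      have e10 := congrFun (congrFun e 1) 0
      simp [aW, bW, Matrix.mul_apply, Fin.sum_univ_two, Matrix.GeneralLinearGroup.mkOfDetNeZero] at e00 e10
      field_simp at e00 e10
      grind)
  have htwo := no_hom_three (p := p) o hno hp2 h2 hs hf
  have hthree := no_hom_four (p := p) o hno hp2 h2 hc
  -- the central involution is isolated
  set M := B ⊓ specialLinear (Fin 3) F
  have hmemM : ∀ {x : GL (Fin 3) F}, x ∈ B → (x : Matrix (Fin 3) (Fin 3) F).det = 1 → x ∈ M := fun hx hd =>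
    ⟨hx, mem_sl3.2 hd⟩
  have hMN : M ≤ subgroupNormalizer (heis o) := by
    refine le_normalizer_of_isolated o h2 (hmemM hc (det_clock o)) (hmemM hs det_shift)
      (hmemM hf (det_four o)) fun r hr hrr hcr => ?_
    -- the involution is block diagonal
    obtain ⟨A, l, hr'⟩ : ∃ A l, phi (Q1 h2) (A, l) = r := by
      have e : (Q1 h2)⁻¹ * r * (Q1 h2) * emb ((-1 : GL (Fin 2) F), (1 : Fˣ)) = emb ((-1 : GL (Fin 2) F), (1 : Fˣ)) * ((Q1 h2)⁻¹ * r * (Q1 h2)) := by
        have h := ecent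
        rw [phi_apply, mul_inv_eq_iff_eq_mul] at h
        calc (Q1 h2)⁻¹ * r * (Q1 h2) * emb ((-1 : GL (Fin 2) F), (1 : Fˣ)) = (Q1 h2)⁻¹ * r * ((Q1 h2) * emb ((-1 : GL (Fin 2) F), (1 : Fˣ))) := by group
          _ = (Q1 h2)⁻¹ * (r * cent) * (Q1 h2) := by rw [h]; group
          _ = (Q1 h2)⁻¹ * (cent * r) * (Q1 h2) := by rw [hcr]
          _ = (Q1 h2)⁻¹ * (cent * (Q1 h2)) * ((Q1 h2)⁻¹ * r * (Q1 h2)) := by group
          _ = emb ((-1 : GL (Fin 2) F), (1 : Fˣ)) * ((Q1 h2)⁻¹ * r * (Q1 h2)) := by rw [← h]; group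
      generalize hy : (Q1 h2)⁻¹ * r * (Q1 h2) = y at e
      have em := congrArg Units.val e
      rw [Units.val_mul, Units.val_mul, emb_val] at em
      have k02 := congrFun (congrFun em 0) 2
      have k12 := congrFun (congrFun em 1) 2
      have k20 := congrFun (congrFun em 2) 0
      have k21 := congrFun (congrFun em 2) 1
      simp [blk, Matrix.mul_apply, Fin.sum_univ_three] at k02 k12 k20 k21
      have z02 : y.1 0 2 = 0 := (mul_eq_zero.1 (show 2 * y.1 0 2 = 0 by linear_combination k02)).resolve_left h2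
      have z12 : y.1 1 2 = 0 := (mul_eq_zero.1 (show 2 * y.1 1 2 = 0 by linear_combination k12)).resolve_left h2
      have z20 : y.1 2 0 = 0 := (mul_eq_zero.1 (show 2 * y.1 2 0 = 0 by linear_combination -k20)).resolve_left h2
      have z21 : y.1 2 1 = 0 := (mul_eq_zero.1 (show 2 * y.1 2 1 = 0 by linear_combination -k21)).resolve_left h2
      have hyb : y.1 = blk !![y.1 0 0, y.1 0 1; y.1 1 0, y.1 1 1] (y.1 2 2) := by
        ext i j; fin_cases i <;> fin_cases j <;> simp [blk, z02, z12, z20, z21]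
      have hd := y.det_ne_zero
      rw [hyb, det_blk] at hd
      let A₀ : GL (Fin 2) F := GeneralLinearGroup.mkOfDetNeZero !![y.1 0 0, y.1 0 1; y.1 1 0, y.1 1 1]
        (left_ne_zero_of_mul hd)
      let l₀ : Fˣ := Units.mk0 (y.1 2 2) (right_ne_zero_of_mul hd)
      have ey : emb (A₀, l₀) = y := Units.ext hyb.symm
      refine ⟨A₀, l₀, ?_⟩
      rw [phi_apply, ey, ← hy]
      group
    have hAl : A * A = 1 ∧ l * l = 1 := by
      have h : ((A, l) : GL (Fin 2) F × Fˣ) * (A, l) = 1 := phi_injective (Q1 h2) (by rw [map_mul, map_one, hr', hrr])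
      exact ⟨congrArg Prod.fst h, congrArg Prod.snd h⟩
    have hAB : phi (Q1 h2) (A, l) ∈ B := hr' ▸ hr.1
    have hdet : A.1.det * l.1 = 1 := by
      have h : (r : Matrix (Fin 3) (Fin 3) F).det = 1 := by
        exact mem_sl3.1 hr.2
      rwa [← hr', phi_apply, Units.val_mul, Units.val_mul, det_units_conj, emb_val, det_blk] at h
    have hll : l.1 * l.1 = 1 := congrArg Units.val hAl.2
    have em : A.1 * A.1 = 1 := congrArg Units.val hAl.1
    have e00 := congrFun (congrFun em 0) 0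
    have e01 := congrFun (congrFun em 0) 1
    have e10 := congrFun (congrFun em 1) 0
    have e11 := congrFun (congrFun em 1) 1
    simp [Matrix.mul_apply, Fin.sum_univ_two] at e00 e01 e10 e11
    by_cases hsc : A.1 0 1 = 0 ∧ A.1 1 0 = 0 ∧ A.1 0 0 = A.1 1 1
    · obtain ⟨z1, z2, z3⟩ := hsc
      have hd : A.1.det = 1 := by rw [det_fin_two, z1, z3]; rw [z1] at e00; rw [z3] at e00; linear_combination e00
      rw [hd, one_mul] at hdet
      have hl : l = 1 := Units.ext hdet
      rcases mul_self_eq_one_iff.1 (show A.1 0 0 * A.1 0 0 = 1 by rw [z1] at e00; linear_combination e00) with h | h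
      · left
        rw [← hr', show A = 1 from Units.ext (by
          ext i j; fin_cases i <;> fin_cases j <;> simp [z1, z2, ← z3, h]), hl,
          show ((1 : GL (Fin 2) F), (1 : Fˣ)) = 1 from rfl, map_one]
      · right
        rw [← hr', ← ecent, hl, show A = -1 from Units.ext (by
          ext i j; fin_cases i <;> fin_cases j <;> simp [z1, z2, ← z3, h])]
    exfalso
    have htr : A.1 0 0 + A.1 1 1 = 0 := by
      by_contra h0
      have z1 : A.1 0 1 = 0 :=
        (mul_eq_zero.1 (show A.1 0 1 * (A.1 0 0 + A.1 1 1) = 0 by linear_combination e01)).resolve_right h0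
      have z2 : A.1 1 0 = 0 :=
        (mul_eq_zero.1 (show A.1 1 0 * (A.1 0 0 + A.1 1 1) = 0 by linear_combination e10)).resolve_right h0
      refine hsc ⟨z1, z2, sub_eq_zero.1 ((mul_eq_zero.1
        (show (A.1 0 0 - A.1 1 1) * (A.1 0 0 + A.1 1 1) = 0 by linear_combination e00 - e11)).resolve_right h0)⟩
    have hdA : A.1.det = -1 := by rw [det_fin_two]; linear_combination A.1 0 0 * htr - e00
    have hl : l.1 = -1 := by rw [hdA] at hdet; linear_combination -hdet
    rcases hinv1 A (mem_plane hAB) ⟨1, by rw [pow_two, hAl.1, Units.val_one, one_smul]⟩ with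
      ⟨q, hq, k, hk⟩ | ⟨n, hn, k, hk⟩
    · obtain ⟨ξ, hξ, hξ3, hq3⟩ : ∃ ξ : Fˣ, phi (Q1 h2) (q, ξ) ∈ B ∧ ξ ^ 3 = 1 ∧
          (GeneralLinearGroup.det q) ^ 3 = 1 := by
        have hgen : ∀ x ∈ Subgroup.closure ({aW, bW} : Set (GL (Fin 2) F)), ∃ ξ : Fˣ,
            phi (Q1 h2) (x, ξ) ∈ B ∧ ξ ^ 3 = 1 ∧ (GeneralLinearGroup.det x) ^ 3 = 1 := by
          intro x hx
          induction hx using Subgroup.closure_induction with
          | mem y hy =>
            rcases hy with rfl | rfl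
            · exact ⟨wU, ha, Units.ext (by simp [wU, hw3]), by rw [← map_pow, ha3, map_one]⟩
            · exact ⟨wU, hb, Units.ext (by simp [wU, hw3]), by rw [← map_pow, hb3, map_one]⟩
          | one => exact ⟨1, by rw [show ((1 : GL (Fin 2) F), (1 : Fˣ)) = 1 from rfl, map_one]; exact B.one_mem,
              one_pow _, by rw [map_one, one_pow]⟩
          | mul y z _ _ hy hz =>
            obtain ⟨u, hu, hu3, hy3⟩ := hy
            obtain ⟨v, hv, hv3, hz3⟩ := hz
            exact ⟨u * v, by rw [show (y * z, u * v) = (y, u) * (z, v) from rfl, map_mul]; exact B.mul_mem hu hv,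
              by rw [mul_pow, hu3, hv3, mul_one], by rw [map_mul, mul_pow, hy3, hz3, mul_one]⟩
          | inv y _ hy =>
            obtain ⟨u, hu, hu3, hy3⟩ := hy
            exact ⟨u⁻¹, by rw [show (y⁻¹, u⁻¹) = (y, u)⁻¹ from rfl, map_inv]; exact B.inv_mem hu,
              by rw [inv_pow, hu3, inv_one], by rw [map_inv, inv_pow, hy3, inv_one]⟩
        exact hgen q hq
      refine hthree ⟨k ^ 3, ?_, (A * q⁻¹) ^ 3, (l * ξ⁻¹) ^ 3, ?_, ?_, ?_⟩
      · have h := congrArg Units.val (show GeneralLinearGroup.det (A * q⁻¹) ^ 3 = GeneralLinearGroup.det A ^ 3 by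
          rw [map_mul, map_inv, mul_pow, inv_pow, hq3, inv_one, mul_one])
        rw [Units.val_pow_eq_pow_val, Units.val_pow_eq_pow_val, Matrix.GeneralLinearGroup.val_det_apply,
          Matrix.GeneralLinearGroup.val_det_apply, hk, hdA, det_smul, det_one, Fintype.card_fin] at h
        linear_combination h
      · rw [Units.val_pow_eq_pow_val, hk, smul_pow, one_pow]
      · rw [mul_pow, inv_pow, hξ3, inv_one, mul_one, Units.val_pow_eq_pow_val, hl]; norm_num
      · rw [show (((A * q⁻¹) ^ 3, (l * ξ⁻¹) ^ 3) : GL (Fin 2) F × Fˣ) = ((A, l) * (q, ξ)⁻¹) ^ 3 from rfl,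
          map_pow, map_mul, map_inv]
        exact B.pow_mem (B.mul_mem hAB (B.inv_mem hξ)) 3
    · obtain ⟨⟨n', m⟩, hm, rfl⟩ := hn
      change (n' * aW * n'⁻¹ * aW).1 = k • 1 at hk
      have ht1 : (n' * aW * n'⁻¹).1.trace = 1 + o.w := by
        rw [Units.val_mul, Units.val_mul, Matrix.trace_units_conj]
        show (!![1, 0; 0, o.w] : Matrix (Fin 2) (Fin 2) F).trace = _
        simp [Matrix.trace_fin_two]
      have hd1 : (n' * aW * n'⁻¹).1.det = o.w := by
        rw [Units.val_mul, Units.val_mul, det_units_conj]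
        show (!![1, 0; 0, o.w] : Matrix (Fin 2) (Fin 2) F).det = _
        simp [det_fin_two]
      rw [Units.val_mul (n' * aW * n'⁻¹), show aW.1 = !![1, 0; 0, o.w] from rfl] at hk
      generalize hy : n' * aW * n'⁻¹ = y at ht1 hd1 hk
      have k00 := congrFun (congrFun hk 0) 0
      have k01 := congrFun (congrFun hk 0) 1
      have k10 := congrFun (congrFun hk 1) 0
      have k11 := congrFun (congrFun hk 1) 1
      simp [Matrix.mul_apply, Fin.sum_univ_two] at k00 k01 k10 k11
      rw [Matrix.trace_fin_two] at ht1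
      rw [det_fin_two] at hd1
      have z01 : y.1 0 1 = 0 := k01.resolve_right hw0
      refine htwo ⟨aW * y, wU * (m * wU * m⁻¹), ?_, ?_, ?_⟩
      · rw [Units.val_mul, show aW.1 = !![1, 0; 0, o.w] from rfl]
        have hkw : k = o.w := by grind
        ext i j; fin_cases i <;> fin_cases j <;> simp [Matrix.mul_apply, Fin.sum_univ_two, z01, k10] <;> grind
      · simp [wU]; ring
      · rw [← hy, show ((aW * (n' * aW * n'⁻¹), wU * (m * wU * m⁻¹)) : GL (Fin 2) F × Fˣ) =
          (aW, wU) * ((n', m) * (aW, wU) * (n', m)⁻¹) from rfl, map_mul, map_mul, map_mul, map_inv]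
        exact B.mul_mem ha (B.mul_mem (B.mul_mem hm ha) (B.inv_mem hm))
  -- from the part of determinant one to the whole group
  intro g hg
  haveI : (specialLinear (Fin 3) F).Normal := MonoidHom.normal_ker _
  have hconj : ∀ b ∈ B, ∀ x ∈ M, b * x * b⁻¹ ∈ M := fun b hb' x hx =>
    ⟨B.mul_mem (B.mul_mem hb' hx.1) (B.inv_mem hb'), Subgroup.Normal.conj_mem inferInstance _ hx.2 b⟩
  refine mem_normalizer_of_normalises o hMN ?_ (hmemM hf (det_four o)) (hconj _ hg) fun x hx => ?_
  · rw [heis, Subgroup.closure_le]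
    rintro _ (rfl | rfl)
    exacts [hmemM hc (det_clock o), hmemM hs det_shift]
  · simpa using hconj _ (B.inv_mem hg) x hx

end CfsgLib.SympThree.Base
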