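import Cfsg.Agent.SympThree.TwoTop

/-!
# Overgroups in characteristic two
-/

set_option autoImplicit false
set_option linter.unusedSectionVars false

namespace CfsgLib.SympThree

open Matrix Cfsg.Geo CfsgLib.SLThree.Hessian
open scoped Kronecker

local notation:max "mat" => Units.val

variable {F : Type*} [Field F] [Fintype F] {σ : F ≃+* F} (o : Omega F)

theorem tt_apply (p q : Ix) :
    mat (tt : GL Ix F) p q = mat (cent : GL (Fin 3) F) p.1 q.1 * mat (cent : GL (Fin 3) F) p.2 q.2 := by
  rw [show (tt : GL Ix F) = kk (cent, cent) from rfl, kk_val, kroneckerMap_apply]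

theorem distinct_two (h2 : (2 : F) = 0) : Distinct F := by
  have hm : (-1 : F) = 1 := by linear_combination -h2
  refine ⟨fun h => ?_, fun h => ?_, fun g h => ?_⟩
  · have e := congrArg (fun x : GL (Fin 3) F => mat x 1 2) (cn_injective (h.trans (map_one cn).symm))
    simp [cent_apply, show (-2 : Fin 3) = 1 from rfl] at e
  · have e := congrArg (fun x : GL Ix F => mat x (0, 1) (0, 2)) h
    simp [tt_apply, cent_apply, show (-2 : Fin 3) = 1 from rfl] at e
  · let u : Fin 3 → F := ![0, 1, 1]
    let A : Matrix Ix (Fin 3) F := Matrix.of fun p j => if p.2 = j then u p.1 else 0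
    let B : Matrix (Fin 3) Ix F := Matrix.of fun j q => if j = q.2 then u q.1 else 0
    have hAB : mat (cn (cent : GL (Fin 3) F)) - 1 = A * B := by
      ext ⟨a, i⟩ ⟨b, k⟩
      rw [Matrix.mul_apply, Finset.sum_eq_single i (fun j _ hj => by simp [A, Ne.symm hj])
        (fun h' => absurd (Finset.mem_univ _) h'), Matrix.sub_apply, cn_val, kroneckerMap_apply, cent_apply]
      fin_cases a <;> fin_cases b <;> by_cases hik : i = k <;>
        simp [A, B, u, hik, hm, Matrix.one_apply, show (-1 : Fin 3) = 2 from rfl, show (-2 : Fin 3) = 1 from rfl] <;>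
        linear_combination h2
    let r : Fin 4 → Ix := ![(0, 1), (1, 0), (1, 1), (1, 2)]
    have hsub : (mat g * A).submatrix r id * (B * mat g⁻¹).submatrix id r = 1 := by
      rw [← Matrix.submatrix_mul _ _ r id r Function.bijective_id,
        show mat g * A * (B * mat g⁻¹) = mat g * (A * B) * mat g⁻¹ by simp only [Matrix.mul_assoc], ← hAB, mul_sub,
        sub_mul, mul_one, Units.mul_inv, ← Units.val_mul, ← Units.val_mul, h]
      ext i j
      rw [Matrix.submatrix_apply, Matrix.sub_apply, tt_apply, cent_apply, cent_apply]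
      fin_cases i <;> fin_cases j <;>
        simp [r, hm, Matrix.one_apply, show (-1 : Fin 3) = 2 from rfl, show (-2 : Fin 3) = 1 from rfl]
    have h4 : (1 : Matrix (Fin 4) (Fin 4) F).rank ≤ 3 := by
      rw [← hsub]
      exact (Matrix.rank_mul_le_left _ _).trans ((Matrix.rank_le_card_width _).trans (by simp))
    rw [Matrix.rank_one] at h4
    simp at h4

/-- **The dichotomy in characteristic two.** -/
theorem Over.le_normalizer_or_top_two {hw : σ o.w = o.w ^ 2} {M : Subgroup (GL Ix F)} (O : Over (suAmb o hw) M)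
    (hc : CfsgLib.AschbacherUnitary.IsConj 2 σ) (hF : Fintype.card F = 4) :
    M ≤ subgroupNormalizer (R₀ o) ∨ (suAmb o hw).G ≤ M := by
  have hσ : ∀ x, σ x = x ^ 2 := hc.eq_pow
  have hgood : Good o M := fun f hf i => mem_normalizer_two o hF hσ hw (O.mem_U hf i)
  by_cases hclaim : NoSupp o M
  · refine Or.inl (O.le_normalizer (distinct_two (two_zero_of_card hF)) (O.cent_inv_of_act
      (O.clockGood_aux hclaim hgood) fun h => mem_normalizer_two o hF hσ hw ?_))
    exact (suAmb o hw).bmap _ (O.le h.2.1).1 (mem_hS.1 h.2.2) _ rfl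
  · refine Or.inr ?_
    simp only [NoSupp, not_forall] at hclaim
    obtain ⟨z, hz, hzM, hne⟩ := hclaim
    obtain ⟨hclock, -, hcent⟩ := O.supported hz hzM hne
    exact top_two o hc hF hw M O.R₀_le O.sw_mem (O.cn_word (four_mem_words o)) hcent hclock

end CfsgLib.SympThree
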