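import Cfsg.Agent.SympThree.UnitaryRich
import Cfsg.Agent.SympThree.TwoMain
import Cfsg.Agent.SympType.Coords
import Cfsg.Agent.SUThree.Hessian.Standard
import Cfsg.Agent.SLThree.Hessian.Normal

/-!
# The normaliser of `3^(1+4)` is maximal in `SU₉ (p)`, `p ≡ 2 (mod 3)`
-/

set_option autoImplicit false
set_option linter.unusedSectionVars false

namespace CfsgLib.SympThree

open Matrix Cfsg.Geo CfsgLib.SLThree.Hessian CfsgLib.MaxSub CfsgLib.MaxSub.Circle

local notation:max "mat" => Units.val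

variable {F : Type*} [Field F] [Fintype F] {p : ℕ} {σ : F ≃+* F} (o : Omega F)

theorem mem_UG_R₀ (hw : σ o.w = o.w ^ 2) {x : GL Ix F} (hx : x ∈ R₀ o) : x ∈ UG σ Ix := by
  refine (Subgroup.closure_le (UG σ Ix)).2 ?_ (R₀_eq_closure o ▸ hx)
  rintro _ (rfl | rfl | rfl | rfl)
  · exact (bd_mem_UG _).2 fun _ => clock_mem_UG o hw
  · exact (bd_mem_UG _).2 fun _ => shift_mem_UG
  · exact bl_mem_UG (clock_mem_UG o hw)
  · exact bl_mem_UG shift_mem_UG

theorem map_smul_bar {κ : Type} [Fintype κ] [DecidableEq κ] (c : F) (X : Matrix κ κ F) :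
    (c • X).map σ = σ c • X.map σ := by
  ext i j
  simp

theorem map_map_involutive (hinv : ∀ a, σ (σ a) = a) {κ : Type} [Fintype κ] [DecidableEq κ] (X : Matrix κ κ F) :
    (X.map σ).map σ = X := by
  ext i j
  simp [hinv]

theorem herm_conj (hinv : ∀ a, σ (σ a) = a) {κ : Type} [Fintype κ] [DecidableEq κ] {H : Matrix κ κ F}
    (hH : Hᵀ = H.map σ) (X : Matrix κ κ F) : (Xᵀ * H * X.map σ)ᵀ = (Xᵀ * H * X.map σ).map σ := by
  rw [transpose_mul, transpose_mul, transpose_transpose, hH, Matrix.map_mul, Matrix.map_mul,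
    map_map_involutive hinv, ← transpose_map, mul_assoc]

set_option maxHeartbeats 800000 in
/-- **The unitary normal form.** -/
theorem exists_unitary_normal₉ (hb : IsBar p σ) (hp3 : p % 3 = 2) {R : Subgroup (GL Ix F)} (D : NFData R)
    (hsim : ∀ g ∈ R, ∃ c : F, (mat g)ᵀ * (mat g).map σ = c • 1) :
    ∃ Q ∈ UG σ Ix, ∀ g, g ∈ R ↔ Q⁻¹ * g * Q ∈ R₀ o := by
  classical
  have hw : σ o.w = o.w ^ 2 := CfsgLib.SUThree.Hessian.bar_w o hb hp3
  obtain ⟨P, hP⟩ := D.exists_normal_form o
  set H := (mat P)ᵀ * (mat P).map σ with hH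
  have hherm : Hᵀ = H.map σ := by
    rw [hH, transpose_mul, transpose_transpose, Matrix.map_mul, map_map_involutive hb.involutive, ← transpose_map]
  have hH0 : H ≠ 0 := fun h0 => by
    have := congrArg Matrix.det h0
    rw [hH, det_mul, det_transpose, ← RingEquiv.mapMatrix_apply, ← RingEquiv.map_det,
      det_zero] at this
    rcases mul_eq_zero.1 this with h | h
    · exact P.det_ne_zero h
    · exact P.det_ne_zero ((map_eq_zero σ).1 h)
  have hone : (1 : Matrix Ix Ix F).map σ = 1 := Matrix.map_one _ (map_zero σ) (map_one σ)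
  have hcomm : ∀ x ∈ R₀ o, H.map σ * mat x = mat x * H.map σ := by
    intro x hx
    obtain ⟨c, hc⟩ := hsim (P * x * P⁻¹) ((hP _).2 (by rwa [show P⁻¹ * (P * x * P⁻¹) * P = x by group]))
    have e : (mat x)ᵀ * H * (mat x).map σ = c • H := by
      have h' := congrArg (fun X => (mat P)ᵀ * X * (mat P).map σ) hc
      simp only [Units.val_mul, transpose_mul, Matrix.map_mul, mul_assoc] at h'
      rw [← mul_assoc (mat P)ᵀ (mat P⁻¹)ᵀ, ← transpose_mul, Units.inv_mul, transpose_one, one_mul,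
        ← Matrix.map_mul (L := mat P⁻¹) (M := mat P), Units.inv_mul, hone, mul_one, smul_mul_assoc, one_mul,
        mul_smul_comm] at h'
      rw [hH]
      simpa only [mul_assoc] using h'
    have hfix : σ c = c := by
      have h1 := herm_conj hb.involutive hherm (mat x)
      rw [e, transpose_smul, hherm, map_smul_bar] at h1
      have hne : H.map σ ≠ 0 := fun h0 => hH0 (by
        rw [← map_map_involutive hb.involutive H, h0, Matrix.map_zero _ (map_zero σ)])
      exact (smul_left_injective F hne h1).symm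
    have hx3 : mat x * (mat x * mat x) = 1 := by
      rw [← Units.val_mul, ← Units.val_mul, ← pow_three, cube_R₀ o hx, Units.val_one]
    have h3 : c ^ 3 = 1 := by
      have h1 := congrArg (fun X => (mat x)ᵀ * ((mat x)ᵀ * X * (mat x).map σ) * (mat x).map σ) e
      simp only [mul_smul_comm, smul_mul_assoc, e, smul_smul] at h1
      have hl : (mat x)ᵀ * ((mat x)ᵀ * ((mat x)ᵀ * H * (mat x).map σ) * (mat x).map σ) * (mat x).map σ = H := by
        calc _ = (mat x * (mat x * mat x))ᵀ * H * (mat x * (mat x * mat x)).map σ := by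
              simp only [transpose_mul, Matrix.map_mul, mul_assoc]
          _ = H := by rw [hx3, transpose_one, one_mul, hone, mul_one]
      rw [e] at hl
      simp only [mul_smul_comm, smul_mul_assoc, e, smul_smul] at hl
      exact smul_left_injective F hH0 (show c ^ 3 • H = (1 : F) • H by
        rw [one_smul]; refine Eq.trans ?_ hl; congr 1; ring)
    have hc1 : c = 1 := CfsgLib.SUThree.Hessian.fixed_cube_root hb hp3 hfix h3
    rw [hc1, one_smul] at e
    have hu := mem_UG.1 (mem_UG_R₀ o hw hx)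
    have hu' := mul_eq_one_comm.1 hu
    have e2 : H * (mat x).map σ = (mat x).map σ * H := by
      conv_rhs => rw [← e]
      rw [← mul_assoc, ← mul_assoc, hu', one_mul]
    have e3 := congrArg (fun X : Matrix Ix Ix F => X.map σ) e2
    simpa only [Matrix.map_mul, map_map_involutive hb.involutive] using e3
  -- the form is a scalar
  obtain ⟨l, hl⟩ : ∃ l : F, H = l • 1 := by
    obtain ⟨d, hd⟩ := D.abs (mat P * H.map σ * mat P⁻¹) fun y hy => by
      have h := hcomm _ ((hP y).1 hy)
      have hy' : mat y = mat P * mat (P⁻¹ * y * P) * mat P⁻¹ := by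
        rw [← Units.val_mul, ← Units.val_mul]; congr 1; group
      rw [hy']
      generalize P⁻¹ * y * P = x at h ⊢
      simp only [mul_assoc, Units.inv_mul_cancel_left]
      rw [← mul_assoc (H.map σ), h, mul_assoc]
    refine ⟨σ d, ?_⟩
    have h := congrArg (fun X => mat P⁻¹ * X * mat P) hd
    simp only [mul_assoc, Units.inv_mul_cancel_left, Units.inv_mul, mul_one, mul_smul_comm, smul_mul_assoc,
      one_mul] at h
    have h' := congrArg (fun X : Matrix Ix Ix F => X.map σ) h
    simp only [map_map_involutive hb.involutive, map_smul_bar, hone] at h'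
    exact h'
  have hl0 : l ≠ 0 := fun h0 => hH0 (by rw [hl, h0, zero_smul])
  have hlfix : σ l = l := by
    have h := hherm
    rw [hl, transpose_smul, transpose_one, map_smul_bar, hone] at h
    simpa using (congrFun (congrFun h ((0, 0) : Ix)) ((0, 0) : Ix)).symm
  obtain ⟨z, hz⟩ := CfsgLib.SUThree.exists_norm_eq hb (show σ l⁻¹ = l⁻¹ by rw [map_inv₀, hlfix])
  have hz0 : z ≠ 0 := fun h0 => by rw [h0, zero_mul] at hz; exact inv_ne_zero hl0 hz.symm
  let u : GL Ix F := Units.map (Matrix.scalar Ix : F →+* Matrix Ix Ix F).toMonoidHom (Units.mk0 z hz0)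
  have huv : mat u = z • 1 := by simp [u, Matrix.smul_one_eq_diagonal]
  refine ⟨P * u, ?_, fun g => ?_⟩
  · rw [mem_UG, Units.val_mul, huv, mul_smul_comm, mul_one, transpose_smul, map_smul_bar,
      smul_mul_assoc, mul_smul_comm, smul_smul, hz, ← hH, hl, smul_smul, inv_mul_cancel₀ hl0, one_smul]
  · rw [hP]
    have hc : ∀ y : GL Ix F, u⁻¹ * y * u = y := fun y => by
      rw [mul_assoc, inv_mul_eq_iff_eq_mul]
      exact Units.ext (by rw [Units.val_mul, Units.val_mul, huv, mul_smul_comm, mul_one, smul_mul_assoc, one_mul])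
    rw [show (P * u)⁻¹ * g * (P * u) = u⁻¹ * (P⁻¹ * g * P) * u by group, hc]

/-- The gate for the standard group. -/
theorem isMaximalIn_R₀_su (hw : σ o.w = o.w ^ 2)
    (hdich : ∀ M, Over (suAmb o hw) M → M ≤ subgroupNormalizer (R₀ o) ∨ (suAmb o hw).G ≤ M) :
    IsMaximalIn (UG σ Ix ⊓ specialLinear Ix F)
      (subgroupNormalizer (R₀ o) ⊓ (UG σ Ix ⊓ specialLinear Ix F)) := by
  refine isMaximalIn_of inf_le_right ?_ fun M hHM hMK g hg hg' => ?_
  · refine ⟨sg cent, ⟨(bd_mem_UG _).2 fun i => ?_, mem_sl.2 ?_⟩, fun h => ?_⟩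
    · rw [MonoidHom.mulSingle_apply, Pi.mulSingle_apply]
      split_ifs
      exacts [cent_mem_UG, Subgroup.one_mem _]
    · rw [sg, MonoidHom.comp_apply, det_bd]
      refine Finset.prod_eq_one fun i _ => ?_
      rw [MonoidHom.mulSingle_apply, Pi.mulSingle_apply]
      split_ifs
      exacts [det_cent, by simp]
    · obtain ⟨S, hS⟩ := exists_acts_of_bd o h.1
      have h2 := hS 2
      have h0 := hS 0
      simp only [MonoidHom.mulSingle_apply, Pi.mulSingle_eq_same] at h2
      rw [MonoidHom.mulSingle_apply, Pi.mulSingle_eq_of_ne (show (0 : Fin 3) ≠ 2 by decide)] at h0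
      have e := (h2.unique o (acts_cent o)).symm.trans (h0.unique o (acts_one o))
      exact absurd e (by decide)
  · rcases hdich M ⟨hMK, hHM⟩ with h | h
    · exact absurd ⟨h hg, hMK hg⟩ hg'
    · exact h

/-- **The normaliser of `3^(1+4)` is maximal in `SU₉ (p)`.** -/
theorem isMaximalIn_symplecticType_su₉ (hF : Fintype.card F = p ^ 2) (hp : p.Prime) (hp3 : p % 3 = 2)
    {R : Subgroup (GL (Fin 9) F)} (hR : IsSymplecticTypeGroup 3 R) (habs : ActsAbsolutelyIrreducibly (matrixSet R))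
    (hsim : R ≤ similarityGroup (Cfsg.hermForm 9 F p))
    (hbase : 5 ≤ p → ∀ o : Omega F, ∀ B : Subgroup (GL (Fin 3) F), clock o ∈ B → shift F ∈ B → four o ∈ B →
      tw o ∈ B → B ≤ subgroupNormalizer (heis o) ∨ ∃ t ∈ B, t ≠ 1 ∧ (mat t - 1) * (mat t - 1) = 0) :
    IsMaximalIn (Cfsg.GU 9 F p ⊓ specialLinear (Fin 9) F)
      (subgroupNormalizer R ⊓ (Cfsg.GU 9 F p ⊓ specialLinear (Fin 9) F)) := by
  obtain ⟨σ, hne, hinv, hσ⟩ := exists_conjEquiv hF
  have hb : IsBar p σ := ⟨hσ, hF, hne, hinv⟩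
  have hc : CfsgLib.AschbacherUnitary.IsConj p σ := ⟨hne, hinv, hσ⟩
  obtain ⟨o⟩ := CfsgLib.SLThree.Hessian.exists_omega (F := F) (by rw [hF, Nat.pow_mod, hp3])
  have hw : σ o.w = o.w ^ 2 := CfsgLib.SUThree.Hessian.bar_w o hb hp3
  have hdich : ∀ M, Over (suAmb o hw) M → M ≤ subgroupNormalizer (R₀ o) ∨ (suAmb o hw).G ≤ M := by
    intro M O
    rcases eq_or_ne p 2 with rfl | h2
    · exact O.le_normalizer_or_top_two o hc (by rw [hF]; norm_num)
    · have hp5 : 5 ≤ p := by
        by_contra h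
        have := hp.two_le
        interval_cases p <;> first | omega | exact absurd hp (by decide)
      exact O.le_normalizer_or_top (suRich o hb hp hp5 hw (hbase hp5 o))
  let e : Ix ≃ Fin 9 := finProdFinEquiv
  have hsim' : ∀ g ∈ R.comap (glReindex e).toMonoidHom, ∃ c : F, (mat g)ᵀ * (mat g).map σ = c • 1 := by
    intro g hg
    obtain ⟨c, hc'⟩ := hsim (Subgroup.mem_comap.1 hg)
    have h := hc.sesq.gram_of_eq (c := (c : F)) (g := mat (glReindex e g)) hc'
    rw [hc.gram_eq_one, mul_one] at h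
    refine ⟨c, (Matrix.reindexAlgEquiv F F e).injective ?_⟩
    rw [map_mul, map_smul, map_one]
    exact h
  obtain ⟨Q, hQ, hQR⟩ := exists_unitary_normal₉ o hb hp3 ((NFData.of_symplecticType hR habs).reindex e) hsim'
  let φ : GL Ix F ≃* GL (Fin 9) F := (MulAut.conj Q).trans (glReindex e)
  have hφS : (Cfsg.GU 9 F p ⊓ specialLinear (Fin 9) F).comap φ.toMonoidHom = UG σ Ix ⊓ specialLinear Ix F := by
    ext x
    show glReindex e (Q * x * Q⁻¹) ∈ Cfsg.GU 9 F p ⊓ specialLinear (Fin 9) F ↔ _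
    rw [Subgroup.mem_inf, Subgroup.mem_inf, mem_GU_iff hc, reindex_mem_UG, mem_sl, mem_sl,
      show mat (glReindex e (Q * x * Q⁻¹)) = Matrix.reindex e e (mat (Q * x * Q⁻¹)) from rfl, det_reindex_self,
      Units.val_mul, Units.val_mul, det_units_conj]
    refine and_congr_left fun _ => ⟨fun h => ?_, fun h =>
      (UG σ Ix).mul_mem ((UG σ Ix).mul_mem hQ h) ((UG σ Ix).inv_mem hQ)⟩
    have := (UG σ Ix).mul_mem ((UG σ Ix).mul_mem ((UG σ Ix).inv_mem hQ) h) hQ
    rwa [show Q⁻¹ * (Q * x * Q⁻¹) * Q = x by group] at this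
  have hφR : R.comap φ.toMonoidHom = R₀ o := by
    ext x
    show glReindex e (Q * x * Q⁻¹) ∈ R ↔ x ∈ R₀ o
    have h := hQR (Q * x * Q⁻¹)
    rw [show Q⁻¹ * (Q * x * Q⁻¹) * Q = x by group] at h
    exact h
  refine SympType.isMaximalIn_of_comap φ ?_
  have hN : (subgroupNormalizer R).comap φ.toMonoidHom = subgroupNormalizer (R₀ o) := by
    rw [← hφR]
    exact Subgroup.comap_normalizer_eq_of_surjective R φ.surjective
  have h := isMaximalIn_R₀_su o hw hdich
  rw [← hφS, ← hN, ← Subgroup.comap_inf] at h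
  exact h

end CfsgLib.SympThree
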