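import Cfsg.Agent.DicksonPSL2.CoprimeCase
import Cfsg.Agent.DicksonPSL2.ElementOrders
import Mathlib.FieldTheory.Finite.Extension
import Mathlib.GroupTheory.Perm.Cycle.Basic

/-!
# Subgroups of `GL₂` of order prime to the characteristic with two elements of order three

Up to scalars such a group is `A₄`, `S₄` or `A₅`.
-/

set_option autoImplicit false
set_option linter.unusedSectionVars false
set_option linter.style.haveILetI false

namespace CfsgLib.SympThree.Base

open Matrix CfsgLib.DicksonPSL2 CfsgLib.SL2Trace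
open scoped MatrixGroups

/-- Scalar matrices among the invertible ones. -/
def Scal {F : Type*} [Field F] (g : GL (Fin 2) F) : Prop :=
  ∃ c : F, (g : Matrix (Fin 2) (Fin 2) F) = c • 1

/-- A projective representation of `GL₂` inside `PSL₂` of a quadratic extension. -/
theorem exists_proj_hom (F : Type*) [Field F] [Fintype F] {p : ℕ} [Fact p.Prime] [CharP F p] (hp : p ≠ 2) :
    ∃ (K : Type) (_ : Field K) (_ : Fintype K) (_ : CharP K p) (φ : GL (Fin 2) F →* PSL(2, K)),
      ∀ g, φ g = 1 ↔ Scal g := by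
  let ι : F →+* FiniteField.Extension F p 2 := algebraMap F _
  letI : Fintype (FiniteField.Extension F p 2) := Fintype.ofFinite _
  haveI : CharP (FiniteField.Extension F p 2) p := charP_of_injective_ringHom ι.injective p
  have hcardK : Fintype.card (FiniteField.Extension F p 2) = Fintype.card F ^ 2 := by
    rw [← Nat.card_eq_fintype_card, FiniteField.natCard_extension, Nat.card_eq_fintype_card]
  have hsq : ∀ a : F, ∃ r : FiniteField.Extension F p 2, r * r = ι a := by
    intro a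
    rcases eq_or_ne a 0 with rfl | ha
    · exact ⟨0, by simp⟩
    have hι : ι a ≠ 0 := (map_ne_zero ι).2 ha
    have hodd : Fintype.card F % 2 = 1 :=
      FiniteField.odd_card_of_char_ne_two (by rw [ringChar.eq F p]; exact hp)
    obtain ⟨m, hm⟩ : ∃ m, Fintype.card F = 2 * m + 1 := ⟨Fintype.card F / 2, by omega⟩
    have h1 : a ^ (2 * m) = 1 := by
      have := FiniteField.pow_card_sub_one_eq_one a ha
      rwa [hm, Nat.add_sub_cancel] at this
    obtain ⟨r, hr⟩ : IsSquare (ι a) := by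
      rw [FiniteField.isSquare_iff (by rw [ringChar.eq _ p]; exact hp) hι, hcardK, hm,
        show (2 * m + 1) ^ 2 / 2 = 2 * m * (m + 1) by
          rw [show (2 * m + 1) ^ 2 = 2 * (2 * m * (m + 1)) + 1 by ring]; omega,
        ← map_pow, pow_mul, h1, one_pow, map_one]
    exact ⟨r, hr.symm⟩
  choose r hr using hsq
  have hdet : ∀ g : GL (Fin 2) F, g.1.det ≠ 0 := fun g =>
    ((Matrix.isUnit_iff_isUnit_det _).1 g.isUnit).ne_zero
  have hr0 : ∀ g : GL (Fin 2) F, r g.1.det ≠ 0 := fun g h => by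
    have := hr g.1.det
    rw [h, zero_mul, eq_comm, map_eq_zero] at this
    exact hdet g this
  have hdm : ∀ M : Matrix (Fin 2) (Fin 2) F, (M.map ι).det = ι M.det := fun M =>
    (RingHom.map_det ι M).symm
  have hone : (1 : Matrix (Fin 2) (Fin 2) F).map ι = 1 := Matrix.map_one _ (map_zero _) (map_one _)
  let lift : GL (Fin 2) F → SL(2, FiniteField.Extension F p 2) := fun g =>
    ⟨(r g.1.det)⁻¹ • g.1.map ι, by
      rw [det_smul, hdm, Fintype.card_fin, ← hr, pow_two, mul_mul_mul_comm, inv_mul_cancel₀ (hr0 g),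
        one_mul]⟩
  have hprop : ∀ {A B : SL(2, FiniteField.Extension F p 2)} {c : FiniteField.Extension F p 2},
      A.1 = c • B.1 → proj A = proj B := by
    intro A B c h
    have h' := congrArg Matrix.det h
    rw [det_smul, A.2, B.2, Fintype.card_fin, mul_one] at h'
    rcases sq_eq_one_iff.1 h'.symm with rfl | rfl
    · exact congrArg proj (Subtype.ext (by rw [h, one_smul]))
    · rw [show A = -B from Subtype.ext (by rw [h, neg_one_smul]; simp), proj_neg]
  let φ : GL (Fin 2) F →* PSL(2, FiniteField.Extension F p 2) :=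
    { toFun := fun g => proj (lift g)
      map_one' := by
        show proj (lift 1) = proj 1
        refine hprop (c := (r (1 : Matrix (Fin 2) (Fin 2) F).det)⁻¹) ?_
        show _ • (((1 : GL (Fin 2) F) : Matrix (Fin 2) (Fin 2) F).map ι) =
          _ • (1 : Matrix (Fin 2) (Fin 2) (FiniteField.Extension F p 2))
        rw [Units.val_one, hone]
      map_mul' := fun g h => by
        rw [← DicksonPSL2.proj_mul]
        refine hprop (c := (r (g * h).1.det)⁻¹ * (r g.1.det * r h.1.det)) ?_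
        show _ • ((g.1 * h.1).map ι) = _ • ((_ • g.1.map ι) * (_ • h.1.map ι))
        rw [Matrix.map_mul, smul_mul_assoc, mul_smul_comm, smul_smul, smul_smul]
        congr 1
        have := hr0 g
        have := hr0 h
        field_simp }
  refine ⟨FiniteField.Extension F p 2, inferInstance, inferInstance, inferInstance, φ, fun g => ?_⟩
  show proj (lift g) = 1 ↔ _
  rw [proj_eq_one_iff]
  constructor
  · intro h
    obtain ⟨c, hc⟩ : ∃ c : FiniteField.Extension F p 2,
        g.1.map ι = c • (1 : Matrix (Fin 2) (Fin 2) (FiniteField.Extension F p 2)) := by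
      rcases h with h | h
      · refine ⟨r g.1.det, ?_⟩
        have := congrArg Subtype.val h
        rw [show (lift g).1 = (r g.1.det)⁻¹ • g.1.map ι from rfl] at this
        rw [← Matrix.SpecialLinearGroup.coe_one, ← this, smul_inv_smul₀ (hr0 g)]
      · refine ⟨-r g.1.det, ?_⟩
        have := congrArg Subtype.val h
        rw [show (lift g).1 = (r g.1.det)⁻¹ • g.1.map ι from rfl] at this
        have := congrArg (fun M : Matrix (Fin 2) (Fin 2) (FiniteField.Extension F p 2) => r g.1.det • M) this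
        simp only [smul_inv_smul₀ (hr0 g)] at this
        rw [this]
        simp
    have e := fun i j => congrFun (congrFun hc i) j
    have e00 := e 0 0; have e01 := e 0 1; have e10 := e 1 0; have e11 := e 1 1
    simp at e00 e01 e10 e11
    refine ⟨g.1 0 0, ?_⟩
    ext i j
    fin_cases i <;> fin_cases j
    · simp
    · simpa using e01
    · simpa using e10
    · simpa using ι.injective (e11.trans e00.symm)
  · rintro ⟨c, hc⟩
    refine (proj_eq_one_iff _).1 ?_
    refine hprop (B := 1) (c := (r g.1.det)⁻¹ * ι c) ?_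
    show _ • g.1.map ι = _ • (1 : Matrix (Fin 2) (Fin 2) (FiniteField.Extension F p 2))
    rw [hc, Matrix.map_smul' _ _ _ (map_mul ι), hone, smul_smul]

set_option synthInstance.maxSize 2048 in
set_option synthInstance.maxHeartbeats 400000 in
theorem alt_four_words : ∀ a b : alternatingGroup (Fin 4), a ^ 3 = 1 → b ^ 3 = 1 → a * b ≠ b * a →
    ∀ t : alternatingGroup (Fin 4), t ^ 2 = 1 → t = 1 ∨ t = a * b ∨ t = b * a ∨ t = a * b * (b * a) ∨
      t = a * a * b ∨ t = a * b * b ∨ t = a * a * b * (a * b * b) := by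
  decide +kernel

theorem perm_four_inverting : ∀ a : Equiv.Perm (Fin 4), a ^ 3 = 1 → ∃ n, n * a * n⁻¹ * a = 1 := by
  decide +kernel

theorem alt_five_inverting : ∀ a : alternatingGroup (Fin 5), a ^ 3 = 1 → ∃ n, n * a * n⁻¹ * a = 1 := by
  decide +kernel

variable {F : Type*} [Field F] [Fintype F]

/-- **The two consequences of Dickson's list.** -/
theorem small {p : ℕ} [Fact p.Prime] [CharP F p] (hp : p ≠ 2) {X : Subgroup (GL (Fin 2) F)}
    (hno : ∀ g ∈ X, ∀ β : F, (g.1 - β • 1) * (g.1 - β • 1) = 0 → Scal g) {a b : GL (Fin 2) F}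
    (ha : a ∈ X) (hb : b ∈ X) (ha3 : Scal (a ^ 3)) (hb3 : Scal (b ^ 3))
    (hab : ¬ Scal (a * b * a⁻¹ * b⁻¹)) :
    (∀ g ∈ X, ∃ n, 1 ≤ n ∧ n ≤ 5 ∧ Scal (g ^ n)) ∧
      ∀ g ∈ X, Scal (g ^ 2) →
        (∃ q ∈ Subgroup.closure ({a, b} : Set (GL (Fin 2) F)), Scal (g * q⁻¹)) ∨
          ∃ n ∈ X, Scal (n * a * n⁻¹ * a) := by
  classical
  obtain ⟨K, iK, jK, kK, φ, hφ⟩ := exists_proj_hom F (p := p) hp
  set H := X.map φ with hH
  have haH : φ a ∈ H := ⟨a, ha, rfl⟩
  have hbH : φ b ∈ H := ⟨b, hb, rfl⟩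
  have ha' : φ a ^ 3 = 1 := by rw [← map_pow]; exact (hφ _).2 ha3
  have hb' : φ b ^ 3 = 1 := by rw [← map_pow]; exact (hφ _).2 hb3
  have hncomm : φ a * φ b ≠ φ b * φ a := fun e => hab ((hφ _).1 (by
    rw [map_mul, map_mul, map_mul, map_inv, map_inv, e]; group))
  have hcop : ¬ p ∣ Nat.card H := by
    intro hdvd
    obtain ⟨x, hx⟩ := exists_prime_orderOf_dvd_card' (G := H) p hdvd
    obtain ⟨g, hg, hgx⟩ := Subgroup.mem_map.1 x.2
    rw [orderOf_eq_iff (Fact.out : p.Prime).pos] at hx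
    obtain ⟨β, hβ⟩ := (hφ (g ^ p)).1 (by
      have h := congrArg Subtype.val hx.1
      rw [SubmonoidClass.coe_pow, Subgroup.coe_one, ← hgx] at h
      rwa [map_pow])
    rw [Units.val_pow_eq_pow_val] at hβ
    obtain ⟨γ, hγ⟩ : ∃ γ : F, γ ^ p = β := by
      haveI : PerfectRing F p := inferInstance
      exact (frobeniusEquiv F p).surjective β
    have hnil : IsNilpotent (g.1 - γ • 1) := ⟨p, by
      rw [sub_pow_char_of_commute p ((Commute.one_right _).smul_right γ), hβ, smul_pow, one_pow, hγ,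
        sub_self]⟩
    have hsq : (g.1 - γ • 1) * (g.1 - γ • 1) = 0 := by
      have h1 := Matrix.isNilpotent_charpoly_sub_pow_of_isNilpotent hnil
      rw [isNilpotent_iff_eq_zero, sub_eq_zero, Fintype.card_fin] at h1
      have := (g.1 - γ • 1).aeval_self_charpoly
      rw [h1] at this
      simpa [pow_two] using this
    have h := hx.2 1 (Fact.out : p.Prime).one_lt one_pos
    rw [pow_one] at h
    exact h (Subtype.ext (by rw [← hgx, Subgroup.coe_one, hφ]; exact hno g hg γ hsq))
  have hA : (⟨φ a, haH⟩ : H) ^ 3 = 1 := Subtype.ext (by simpa using ha')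
  have hB : (⟨φ b, hbH⟩ : H) ^ 3 = 1 := Subtype.ext (by simpa using hb')
  have hinv : ∀ {Γ : Type} [Group Γ], (∀ x : Γ, x ^ 3 = 1 → ∃ n, n * x * n⁻¹ * x = 1) → (H ≃* Γ) →
      ∃ n ∈ X, Scal (n * a * n⁻¹ * a) := by
    intro Γ _ hΓ e
    obtain ⟨m, hm⟩ := hΓ (e ⟨φ a, haH⟩) (by rw [← map_pow, hA, map_one])
    obtain ⟨n, hn, hne⟩ := Subgroup.mem_map.1 (e.symm m).2
    refine ⟨n, hn, (hφ _).1 ?_⟩
    have : e.symm m * ⟨φ a, haH⟩ * (e.symm m)⁻¹ * ⟨φ a, haH⟩ = 1 := e.injective (by simpa using hm)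
    simpa [← hne] using congrArg Subtype.val this
  have hexp : ∀ {Γ : Type} [Group Γ],
      (∀ x : Γ, x ^ 2 = 1 ∨ x ^ 3 = 1 ∨ x ^ 4 = 1 ∨ x ^ 5 = 1) → (H ≃* Γ) →
      ∀ g ∈ X, ∃ n, 1 ≤ n ∧ n ≤ 5 ∧ Scal (g ^ n) := by
    intro Γ _ hΓ e g hg
    have key : ∀ n, e ⟨φ g, g, hg, rfl⟩ ^ n = 1 → Scal (g ^ n) := fun n h => (hφ _).1 (by
      have : (⟨φ g, g, hg, rfl⟩ : H) ^ n = 1 := e.injective (by rw [map_pow, h, map_one])
      simpa using congrArg Subtype.val this)
    rcases hΓ (e ⟨φ g, g, hg, rfl⟩) with h | h | h | h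
    exacts [⟨2, by norm_num, by norm_num, key 2 h⟩, ⟨3, by norm_num, by norm_num, key 3 h⟩,
      ⟨4, by norm_num, by norm_num, key 4 h⟩, ⟨5, by norm_num, by norm_num, key 5 h⟩]
  rcases DicksonPSL2.coprime_case p hcop with hbot | ⟨x, hx, hle⟩ | ⟨-, -, ⟨e⟩⟩ | ⟨-, -, ⟨e⟩⟩ | ⟨-, -, ⟨e⟩⟩
  · rw [hbot] at haH hbH
    exact absurd (by rw [Subgroup.mem_bot.1 haH, Subgroup.mem_bot.1 hbH]) hncomm
  · exfalso
    have hT : ∀ y ∈ H, y ^ 3 = 1 → y ∈ torus x := by
      intro y hy hy3
      rcases mem_or_inverts hx ((Subgroup.mem_normalizer_iff.1 (hle hy) x).1 (self_mem_torus x)) with h | ⟨h, -⟩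
      · exact h
      · rw [← pow_two] at h
        rw [pow_succ, h, one_mul] at hy3
        rw [hy3]
        exact (torus x).one_mem
    exact hncomm (torus_comm hx (hT _ haH ha') (hT _ hbH hb'))
  · refine ⟨hexp (fun x => (alt_four_pow x).imp id Or.inl) e, fun g hg hg2 => Or.inl ?_⟩
    have hgg : (e ⟨φ g, g, hg, rfl⟩) ^ 2 = 1 := by
      rw [← map_pow, show (⟨φ g, g, hg, rfl⟩ : H) ^ 2 = 1 from Subtype.ext (by
        simpa using (map_pow φ g 2).symm.trans ((hφ _).2 hg2)), map_one]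
    have hne : e ⟨φ a, haH⟩ * e ⟨φ b, hbH⟩ ≠ e ⟨φ b, hbH⟩ * e ⟨φ a, haH⟩ := fun h => hncomm (by
      rw [← map_mul, ← map_mul] at h
      exact congrArg Subtype.val (e.injective h))
    have hw := alt_four_words _ _ (by rw [← map_pow, hA, map_one]) (by rw [← map_pow, hB, map_one])
      hne _ hgg
    simp only [← map_mul, e.injective.eq_iff, MulEquiv.map_eq_one_iff] at hw
    have ka : a ∈ Subgroup.closure ({a, b} : Set (GL (Fin 2) F)) := Subgroup.subset_closure (by simp)
    have kb : b ∈ Subgroup.closure ({a, b} : Set (GL (Fin 2) F)) := Subgroup.subset_closure (by simp)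
    have fin : ∀ q ∈ Subgroup.closure ({a, b} : Set (GL (Fin 2) F)), φ g = φ q →
        ∃ q ∈ Subgroup.closure ({a, b} : Set (GL (Fin 2) F)), Scal (g * q⁻¹) := fun q hq h =>
      ⟨q, hq, (hφ _).1 (by rw [map_mul, map_inv, h, mul_inv_cancel])⟩
    rcases hw with h | h | h | h | h | h | h <;>
      have h' := congrArg Subtype.val h
    · exact fin 1 (one_mem _) (by simpa using h')
    · exact fin _ (mul_mem ka kb) (by simpa using h')
    · exact fin _ (mul_mem kb ka) (by simpa using h')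
    · exact fin _ (mul_mem (mul_mem ka kb) (mul_mem kb ka)) (by simpa using h')
    · exact fin _ (mul_mem (mul_mem ka ka) kb) (by simpa using h')
    · exact fin _ (mul_mem (mul_mem ka kb) kb) (by simpa using h')
    · exact fin _ (mul_mem (mul_mem (mul_mem ka ka) kb) (mul_mem (mul_mem ka kb) kb)) (by simpa using h')
  · exact ⟨hexp (fun x => (perm_four_pow x).elim (Or.inr ∘ Or.inl) (Or.inr ∘ Or.inr ∘ Or.inl)) e,
      fun g _ _ => Or.inr (hinv perm_four_inverting e)⟩
  · exact ⟨hexp (fun x => (alt_five_pow x).imp id (Or.imp id Or.inr)) e,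
      fun g _ _ => Or.inr (hinv alt_five_inverting e)⟩

end CfsgLib.SympThree.Base
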