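import Cfsg.Agent.SympThree.UnitaryModel
import Cfsg.Agent.MaxSub.RationalSubspace

/-!
# Subgroups containing the stabiliser of a coordinate decomposition
-/

set_option autoImplicit false
set_option linter.unusedSectionVars false

namespace CfsgLib.SympThree

open Matrix Cfsg.Geo CfsgLib.MaxSub

local notation:max "mat" => Units.val

variable {F : Type*} [Field F] [Fintype F] {t : ℕ}

/-- A matrix permuting the blocks of coordinates. -/
def BlockPerm (φ : Ix → Fin t) (h : GL Ix F) : Prop :=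
  ∃ π : Equiv.Perm (Fin t), ∀ p r, mat h p r ≠ 0 → φ p = π (φ r)

variable (F) in
/-- The blocks of coordinates, renamed. -/
def blockSub (e : Ix ≃ Fin 9) (φ : Ix → Fin t) (i : Fin t) : Submodule F (Fin 9 → F) :=
  coordSub (Finset.univ.filter fun s => φ (e.symm s) = i)

theorem mem_blockSub {e : Ix ≃ Fin 9} {φ : Ix → Fin t} {i : Fin t} {v : Fin 9 → F} :
    v ∈ blockSub F e φ i ↔ ∀ s, φ (e.symm s) ≠ i → v s = 0 := by
  show (∀ s, s ∉ Finset.univ.filter (fun s => φ (e.symm s) = i) → v s = 0) ↔ _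
  simp

theorem single_mem_blockSub (e : Ix ≃ Fin 9) (φ : Ix → Fin t) (r : Ix) :
    (Pi.single (e r) 1 : Fin 9 → F) ∈ blockSub F e φ (φ r) :=
  mem_blockSub.2 fun s hs => Pi.single_eq_of_ne (fun h => hs (by rw [h, Equiv.symm_apply_apply])) _

theorem isNondeg_blockSub {q : ℕ} {σ : F ≃+* F} (hc : CfsgLib.AschbacherUnitary.IsConj q σ) (e : Ix ≃ Fin 9)
    {φ : Ix → Fin t} {k : ℕ} (ht : 2 ≤ t) (hk : 0 < k)
    (hcard : ∀ i, (Finset.univ.filter fun p : Ix => φ p = i).card = k) :
    IsNondegenerateMDecomposition (Cfsg.hermForm 9 F q) k (blockSub F e φ) := by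
  classical
  refine ⟨⟨ht, hk, fun i => ?_, ?_, ?_⟩, fun i => ?_, fun i j hij => ?_⟩
  · rw [blockSub, finrank_coordSub, ← hcard i, ← Finset.card_map e.toEmbedding]
    congr 1
    ext s
    simp only [Finset.mem_map_equiv, Finset.mem_filter, Finset.mem_univ, true_and]
  · rw [iSupIndep_def]
    intro i
    rw [Submodule.disjoint_def]
    intro v hv hv'
    have key : ∀ w ∈ ⨆ (j) (_ : j ≠ i), blockSub F e φ j, ∀ s, φ (e.symm s) = i → w s = 0 := by
      intro w hw
      induction hw using Submodule.iSup_induction' with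
      | mem j w hw =>
        intro s hs
        by_cases hj : j = i
        · simp only [hj, ne_eq, not_true_eq_false, iSup_false, Submodule.mem_bot] at hw
          simp [hw]
        · simp only [ne_eq, hj, not_false_eq_true, iSup_pos] at hw
          exact mem_blockSub.1 hw s (fun h => hj (h.symm.trans hs))
      | zero => simp
      | add a b _ _ ha hb => intro s hs; rw [Pi.add_apply, ha s hs, hb s hs, add_zero]
    funext s
    by_cases hs : φ (e.symm s) = i
    · exact key v hv' s hs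
    · exact mem_blockSub.1 hv s hs
  · refine eq_top_iff.2 fun v _ => ?_
    rw [← Finset.univ_sum_single v]
    refine Submodule.sum_mem _ fun s _ => ?_
    refine Submodule.mem_iSup_of_mem (φ (e.symm s)) (mem_blockSub.2 fun s' hs' => ?_)
    exact Pi.single_eq_of_ne (by rintro rfl; exact hs' rfl) _
  · intro w hw hw0
    obtain ⟨s, hs⟩ := Function.ne_iff.1 hw0
    have hsi : φ (e.symm s) = i := by_contra fun h => hs (mem_blockSub.1 hw s h)
    have hmem : (Pi.single s 1 : Fin 9 → F) ∈ blockSub F e φ i :=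
      mem_blockSub.2 fun s' hs' => Pi.single_eq_of_ne (by rintro rfl; exact hs' hsi) _
    have h1 : ∀ a b : Fin 9 → F, Cfsg.hermForm 9 F q a b = ∑ l, a l * σ (b l) := hc.herm_eq
    refine ⟨⟨_, hmem, ?_⟩, ⟨_, hmem, ?_⟩⟩
    · rw [h1, Finset.sum_eq_single s (fun l _ hl => by rw [Pi.single_eq_of_ne hl, zero_mul])
        (fun h => absurd (Finset.mem_univ _) h), Pi.single_eq_same, one_mul]
      exact (map_ne_zero σ).2 hs
    · rw [h1, Finset.sum_eq_single s (fun l _ hl => by rw [Pi.single_eq_of_ne hl, map_zero, mul_zero])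
        (fun h => absurd (Finset.mem_univ _) h), Pi.single_eq_same, map_one, mul_one]
      exact hs
  · intro u hu v hv
    rw [hc.herm_eq]
    refine Finset.sum_eq_zero fun s _ => ?_
    by_cases hs : φ (e.symm s) = i
    · rw [mem_blockSub.1 hv s (by rw [hs]; exact hij), map_zero, mul_zero]
    · rw [mem_blockSub.1 hu s hs, zero_mul]

theorem blockPerm_of_mem {e : Ix ≃ Fin 9} {φ : Ix → Fin t} {h : GL Ix F}
    (hs : glReindex e h ∈ decompositionStabilizer (blockSub F e φ)) : BlockPerm φ h := by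
  obtain ⟨π, hπ⟩ := hs
  refine ⟨π, fun p r hne => by_contra fun hp => hne ?_⟩
  have hm : mat (glReindex e h) *ᵥ Pi.single (e r) 1 ∈ blockSub F e φ (π (φ r)) :=
    hπ (φ r) ▸ Submodule.mem_map_of_mem (f := Matrix.toLin' (mat (glReindex e h))) (single_mem_blockSub e φ r)
  have := mem_blockSub.1 hm (e p) (by rwa [Equiv.symm_apply_apply])
  rw [Matrix.mulVec_single_one, show mat (glReindex e h) = Matrix.reindex e e (mat h) from rfl] at this
  simpa using this

/-- **A subgroup with the block stabiliser and one more element is everything.** -/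
theorem top_of_blocks {q : ℕ} {σ : F ≃+* F} (hc : CfsgLib.AschbacherUnitary.IsConj q σ) {e : Ix ≃ Fin 9}
    {φ : Ix → Fin t}
    (hmax : IsMaximalIn (Cfsg.GU 9 F q ⊓ specialLinear (Fin 9) F)
      (decompositionStabilizer (blockSub F e φ) ⊓ (Cfsg.GU 9 F q ⊓ specialLinear (Fin 9) F)))
    {M : Subgroup (GL Ix F)} (hblock : ∀ h ∈ UG σ Ix ⊓ specialLinear Ix F, BlockPerm φ h → h ∈ M) {x : GL Ix F}
    (hx : x ∈ M) (hxG : x ∈ UG σ Ix ⊓ specialLinear Ix F) (hxn : ¬ BlockPerm φ x) :
    UG σ Ix ⊓ specialLinear Ix F ≤ M := by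
  have hG : ∀ g : GL Ix F, glReindex e g ∈ Cfsg.GU 9 F q ⊓ specialLinear (Fin 9) F ↔
      g ∈ UG σ Ix ⊓ specialLinear Ix F := fun g => by
    rw [Subgroup.mem_inf, Subgroup.mem_inf, mem_GU_iff hc, reindex_mem_UG, mem_sl, mem_sl,
      show mat (glReindex e g) = Matrix.reindex e e (mat g) from rfl, det_reindex_self]
  set M' := (M ⊓ (UG σ Ix ⊓ specialLinear Ix F)).map (glReindex e).toMonoidHom
  rcases hmax.2 M' (fun y hy => by
      obtain ⟨h, rfl⟩ := (glReindex e).surjective y
      have hh := (hG h).1 hy.2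
      exact ⟨h, ⟨hblock h hh (blockPerm_of_mem hy.1), hh⟩, rfl⟩)
    (by rintro _ ⟨h, ⟨-, hh⟩, rfl⟩; exact (hG h).2 hh) with h | h
  · exfalso
    have hmem : glReindex e x ∈ M' := ⟨x, ⟨hx, hxG⟩, rfl⟩
    rw [h] at hmem
    exact hxn (blockPerm_of_mem hmem.1)
  · intro g hg
    have hmem : glReindex e g ∈ M' := by rw [h]; exact (hG g).2 hg
    obtain ⟨g', ⟨hg', -⟩, he⟩ := hmem
    exact (glReindex e).injective he ▸ hg'

end CfsgLib.SympThree
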