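import Cfsg.Agent.SympThree.Over

/-!
# The centraliser of a block element in an overgroup
-/

set_option autoImplicit false
set_option linter.unusedSectionVars false

namespace CfsgLib.SympThree

open Matrix Cfsg.Geo CfsgLib.SLThree.Hessian
open scoped Kronecker commutatorElement

local notation:max "mat" => Units.val

variable {F : Type*} [Field F] [Finite F] {o : Omega F} {A : Amb o} {M : Subgroup (GL Ix F)}

/-! ### Some component is outside the normaliser -/

theorem Over.shift_family (O : Over A M) {f : Fin 3 → GL (Fin 3) F} (h : bd f ∈ M) :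
    bd (fun i => f (i - 1)) ∈ M := by
  have hP := O.bl_heis (shift_mem o)
  rw [← shift_conj_bd]
  exact M.mul_mem (M.mul_mem hP h) (M.inv_mem hP)

theorem Over.exists_bad (O : Over A M) {f : Fin 3 → GL (Fin 3) F} (h : bd f ∈ M) {j : Fin 3}
    (hj : f j ∉ subgroupNormalizer (heis o)) (i : Fin 3) :
    ∃ g, bd g ∈ M ∧ g i ∉ subgroupNormalizer (heis o) := by
  rcases (show ∀ i j : Fin 3, j = i ∨ j = i - 1 ∨ j = i - 1 - 1 by decide) i j with e | e | e
  · exact ⟨f, h, e ▸ hj⟩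
  · exact ⟨_, O.shift_family h, e ▸ hj⟩
  · exact ⟨_, O.shift_family (O.shift_family h), e ▸ hj⟩

/-- The image of a subgroup in one block. -/
def comp (M : Subgroup (GL Ix F)) (i : Fin 3) : Subgroup (GL (Fin 3) F) :=
  (M.comap bd).map (Pi.evalMonoidHom (fun _ : Fin 3 => GL (Fin 3) F) i)

theorem mem_comp {i : Fin 3} {x : GL (Fin 3) F} : x ∈ comp M i ↔ ∃ f, bd f ∈ M ∧ f i = x := Iff.rfl

theorem Over.cn_comp (O : Over A M) {n : GL (Fin 3) F} (hn : cn n ∈ M) (i : Fin 3) : n ∈ comp M i :=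
  mem_comp.2 ⟨dg n, hn, rfl⟩

theorem clock_not_scalar : clock o ∉ scalars (Fin 3) F := fun h => by
  obtain ⟨c, hc⟩ := (mem_scalars_iff _).1 h
  have := pr_mono_inj o (u := (1, 0)) (v := 0)
    (by rw [mono_fst, mono_zero, map_one]; exact pr_eq_one.2 ⟨c, hc⟩)
  exact absurd this (by decide)

theorem Amb.clock_mem_G₃ (A : Amb o) : clock o ∈ A.U ⊓ specialLinear (Fin 3) F :=
  ⟨A.clock_mem, mem_sl.2 (det_clock o)⟩

/-- From the statement for subgroups of determinant one. -/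
theorem Amb.base_of_det_one (A : Amb o) {B : Subgroup (GL (Fin 3) F)} (hBU : B ≤ A.U)
    (hbase : ∀ M₀ ≤ A.U ⊓ specialLinear (Fin 3) F, clock o ∈ M₀ → shift F ∈ M₀ → (∀ k, quat o k ∈ M₀) →
      M₀ ≤ subgroupNormalizer (heis o) ∨ A.U ⊓ specialLinear (Fin 3) F ≤ M₀)
    (hc : clock o ∈ B) (hs : shift F ∈ B) (h4 : four o ∈ B) (ht : tw o ∈ B) :
    B ≤ subgroupNormalizer (heis o) ∨ A.U ⊓ specialLinear (Fin 3) F ≤ B := by
  set M₀ := B ⊓ specialLinear (Fin 3) F
  have hc' : clock o ∈ M₀ := ⟨hc, mem_sl.2 (det_clock o)⟩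
  have hs' : shift F ∈ M₀ := ⟨hs, mem_sl.2 det_shift⟩
  have hq' : ∀ k, quat o k ∈ M₀ := fun k =>
    ⟨B.mul_mem (B.mul_mem (B.pow_mem ht k) h4) (B.inv_mem (B.pow_mem ht k)), mem_sl.2 (det_quat o k)⟩
  refine (hbase M₀ (fun x hx => ⟨hBU hx.1, hx.2⟩) hc' hs' hq').imp (fun hle g hg => ?_) (fun h x hx => (h hx).1)
  haveI : (specialLinear (Fin 3) F).Normal := MonoidHom.normal_ker _
  have hconj : ∀ b ∈ B, ∀ x ∈ M₀, b * x * b⁻¹ ∈ M₀ := fun b hb x hx =>
    ⟨B.mul_mem (B.mul_mem hb hx.1) (B.inv_mem hb), Subgroup.Normal.conj_mem inferInstance _ hx.2 b⟩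
  refine mem_normalizer_of_normalises o hle ?_ (by simpa [quat] using hq' 0) (hconj _ hg) fun x hx => ?_
  · rw [heis, Subgroup.closure_le]
    rintro _ (rfl | rfl)
    exacts [hc', hs']
  · simpa using hconj _ (B.inv_mem hg) x hx

theorem Over.comp_big (O : Over A M) (hR : Rich A) {f : Fin 3 → GL (Fin 3) F} (h : bd f ∈ M) {j : Fin 3}
    (hj : f j ∉ subgroupNormalizer (heis o)) (i : Fin 3) : A.U ⊓ specialLinear (Fin 3) F ≤ comp M i := by
  obtain ⟨g, hg, hgi⟩ := O.exists_bad h hj i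
  refine (hR.base (comp M i) (by rintro _ ⟨f', hf', rfl⟩; exact O.mem_U hf' i)
    (O.cn_comp (O.cn_heis (clock_mem o)) i) (O.cn_comp (O.cn_heis (shift_mem o)) i)
    (O.cn_comp (O.cn_word (four_mem_words o)) i) (O.cn_comp (O.cn_word (tw_mem_words o)) i)).resolve_left
    fun hle => hgi (hle (mem_comp.2 ⟨g, hg, rfl⟩))

/-- **If some component is outside, the overgroup is everything.** -/
theorem Over.top_of_bad (O : Over A M) (hR : Rich A) {f : Fin 3 → GL (Fin 3) F} (h : bd f ∈ M) {j : Fin 3}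
    (hj : f j ∉ subgroupNormalizer (heis o)) : A.G ≤ M := by
  have hbig := O.comp_big hR h hj 2
  -- the last components of the elements trivial in a given block
  have hK : ∀ (k : Fin 3) (r : Fin 3 → GL (Fin 3) F), bd r ∈ M → r k = 1 →
      r 2 ∈ A.U ⊓ specialLinear (Fin 3) F → r 2 ∉ scalars (Fin 3) F →
      ∀ a ∈ A.U ⊓ specialLinear (Fin 3) F, ∃ g, bd g ∈ M ∧ g k = 1 ∧ g 2 = a := by
    intro k r hr hrk hr2 hrs a ha
    let K := ((M.comap bd) ⊓ (Pi.evalMonoidHom (fun _ : Fin 3 => GL (Fin 3) F) k).ker).map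
      (Pi.evalMonoidHom (fun _ : Fin 3 => GL (Fin 3) F) 2)
    have hKle : A.U ⊓ specialLinear (Fin 3) F ≤ K := by
      refine hR.normalized K ?_ (r 2) ⟨r, ⟨hr, hrk⟩, rfl⟩ hr2 hrs
      rintro b hb _ ⟨g, ⟨hg, hgk⟩, rfl⟩ -
      obtain ⟨f', hf', rfl⟩ := hbig hb
      refine ⟨f' * g * f'⁻¹, ⟨?_, ?_⟩, rfl⟩
      · show bd _ ∈ M
        rw [map_mul, map_mul, map_inv]
        exact M.mul_mem (M.mul_mem hf' hg) (M.inv_mem hf')
      · show f' k * g k * (f' k)⁻¹ = 1
        rw [show g k = 1 from hgk, mul_one, mul_inv_cancel]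
    obtain ⟨g, ⟨hg, hgk⟩, e⟩ := hKle ha
    exact ⟨g, hg, hgk, e⟩
  have hclock := clock_mem o
  have hc0 : bd (fun i : Fin 3 => clock o ^ i.val) ∈ M := O.gt_mem hclock
  have hns : clock o ^ 2 ∉ scalars (Fin 3) F := fun h' => clock_not_scalar (o := o) (by
    have := Subgroup.mul_mem _ h' h'
    rwa [← pow_add, pow_eq_pow_mod _ (clock_pow_three o), pow_one] at this)
  have h0 := hK 0 _ hc0 (pow_zero _) (Subgroup.pow_mem _ A.clock_mem_G₃ 2) hns
  have hc1 : bd (fun i : Fin 3 => clock o ^ i.val * (clock o)⁻¹) ∈ M := by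
    have := M.mul_mem hc0 (M.inv_mem (O.cn_heis hclock))
    rwa [← map_inv, cn, MonoidHom.comp_apply, ← map_mul] at this
  have e2 : clock o ^ (2 : Fin 3).val * (clock o)⁻¹ = clock o := by
    rw [show (2 : Fin 3).val = 2 from rfl, pow_two, mul_inv_cancel_right]
  have h1 := hK 1 _ hc1 (by show clock o ^ 1 * _ = 1; simp)
    (by rw [e2]; exact A.clock_mem_G₃) (by rw [e2]; exact clock_not_scalar)
  -- the elements supported on the last block
  let K2 := M.comap (bd.comp (MonoidHom.mulSingle (fun _ : Fin 3 => GL (Fin 3) F) 2))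
  have hK2 : A.U ⊓ specialLinear (Fin 3) F ≤ K2 := by
    refine hR.normalized K2 (fun b hb k hk _ => ?_) ⁅clock o, four o⁆ ?_ ?_ ?_
    · obtain ⟨f', hf', rfl⟩ := hbig hb
      show bd (Pi.mulSingle 2 (f' 2 * k * (f' 2)⁻¹)) ∈ M
      have := M.mul_mem (M.mul_mem hf' (show bd (Pi.mulSingle 2 k) ∈ M from hk)) (M.inv_mem hf')
      rw [← map_inv, ← map_mul, ← map_mul] at this
      convert this using 2
      funext i
      rcases eq_or_ne i 2 with rfl | hne <;> simp [*]
    · obtain ⟨g, hg, hg1, hg2⟩ := h1 _ A.clock_mem_G₃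
      obtain ⟨g', hg', hg0, hg2'⟩ := h0 (four o) ⟨A.four_mem, mem_sl.2 (det_four o)⟩
      show bd (Pi.mulSingle 2 ⁅clock o, four o⁆) ∈ M
      have : bd ⁅g, g'⁆ ∈ M := by
        rw [map_commutatorElement, commutatorElement_def]
        exact M.mul_mem (M.mul_mem (M.mul_mem hg hg') (M.inv_mem hg)) (M.inv_mem hg')
      convert this using 2
      funext i
      simp only [commutatorElement_def, Pi.mul_apply, Pi.inv_apply]
      fin_cases i
      · simp [show g' 0 = 1 from hg0]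
      · simp [show g 1 = 1 from hg1]
      · simp [← hg2, ← hg2']
    · have h4 : four o ∈ A.U ⊓ specialLinear (Fin 3) F := ⟨A.four_mem, mem_sl.2 (det_four o)⟩
      rw [commutatorElement_def]
      exact Subgroup.mul_mem _ (Subgroup.mul_mem _ (Subgroup.mul_mem _ A.clock_mem_G₃ h4)
        (Subgroup.inv_mem _ A.clock_mem_G₃)) (Subgroup.inv_mem _ h4)
    · intro h'
      obtain ⟨c, hc⟩ := (mem_scalars_iff _).1 h'
      have e : pr (⁅clock o, four o⁆) = pr (mono o (1, 1)) := by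
        rw [commutatorElement_def, show clock o * four o * (clock o)⁻¹ * (four o)⁻¹ =
          clock o * (four o * clock o * (four o)⁻¹)⁻¹ by group, conj_four_clock, inv_inv, mono]
        simp [ZMod.val_one]
      have := pr_mono_inj o (u := (1, 1)) (v := 0) (by rw [← e, mono_zero, map_one]; exact pr_eq_one.2 ⟨c, hc⟩)
      exact absurd this (by decide)
  exact hR.top M O.R₀_le O.sw_mem fun a ha => hK2 ha

end CfsgLib.SympThree
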