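import Cfsg.Agent.SympThree.Supported

/-!
# The centraliser of a block element normalises the extraspecial group
-/

set_option autoImplicit false
set_option linter.unusedSectionVars false

namespace CfsgLib.SympThree

open Matrix Cfsg.Geo CfsgLib.SLThree.Hessian
open scoped Kronecker

local notation:max "mat" => Units.val

variable {F : Type*} [Field F] [Finite F] {o : Omega F}

/-- The inverse of a matrix of determinant one. -/
def adj (S : Mat2) : Mat2 := ((S.2.2, -S.1.2), (-S.2.1, S.1.1))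

theorem cmp_adj {S : Mat2} (h : dt S.1 S.2 = 1) : cmp S (adj S) = id2 := by
  simp only [dt] at h
  simp only [cmp, ap, adj, id2, Prod.mk.injEq]
  exact ⟨⟨by linear_combination h, by ring⟩, by ring, by linear_combination h⟩

theorem Acts.inv {g : GL (Fin 3) F} {S : Mat2} (h : Acts o g S) : Acts o g⁻¹ (adj S) := by
  obtain ⟨T, hT⟩ := exists_acts o ((subgroupNormalizer (heis o)).inv_mem (h.mem_normalizer o))
  have h1 : cmp T S = id2 := by
    have := hT.mul o h
    rw [inv_mul_cancel] at this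
    exact this.unique o (acts_one o)
  have h2 : T = adj S := by
    have e := cmp_adj (h.dt_eq o)
    refine Prod.ext ?_ ?_
    · calc T.1 = ap T (1, 0) := by simp [ap]
        _ = ap T (ap (cmp S (adj S)) (1, 0)) := by rw [e, ap_id2]
        _ = ap (cmp T S) (ap (adj S) (1, 0)) := by rw [ap_cmp, ap_cmp]
        _ = (adj S).1 := by rw [h1, ap_id2]; simp [ap]
    · calc T.2 = ap T (0, 1) := by simp [ap]
        _ = ap T (ap (cmp S (adj S)) (0, 1)) := by rw [e, ap_id2]
        _ = ap (cmp T S) (ap (adj S) (0, 1)) := by rw [ap_cmp, ap_cmp]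
        _ = (adj S).2 := by rw [h1, ap_id2]; simp [ap]
  exact h2 ▸ hT

/-- `2 - S`. -/
def two2 (S : Mat2) : Mat2 :=
  ((2 - S.1.1, -S.1.2), (-S.2.1, 2 - S.2.2))

theorem two_linear : ∀ S : Mat2, dt S.1 S.2 = 1 → dt (two2 S).1 (two2 S).2 = 1 →
    (cmp (two2 S) (two2 (cmp fourS (cmp S (adj fourS)))) = two2 (cmp S (cmp fourS (cmp S (adj fourS))))) →
    (cmp (two2 S) (two2 (cmp (cmp twS fourS) (cmp S (adj (cmp twS fourS))))) =
      two2 (cmp S (cmp (cmp twS fourS) (cmp S (adj (cmp twS fourS)))))) → S = id2 := by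
  decide

theorem pr_mono_sub (u v : Pnt) : pr (mono o u) * (pr (mono o v))⁻¹ = pr (mono o (u - v)) := by
  rw [mul_inv_eq_iff_eq_mul, ← pr_mono_add, sub_add_cancel]

theorem eq_scalar_pow {x : GL (Fin 3) F} (hx : x ∈ heis o) (h : pr x = 1) : ∃ k : ℕ, x = sc o ^ k := by
  obtain ⟨c, hc⟩ := pr_eq_one.1 h
  have hc3 : c ^ 3 = 1 := by
    have h1 := congrArg Units.val (cube_of_mem o hx)
    rw [Units.val_pow_eq_pow_val, hc, smul_pow, one_pow, Units.val_one] at h1
    simpa using congrFun (congrFun h1 0) 0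
  rcases mul_eq_zero.1 (show (c - 1) * (c - o.w) * (c - o.w ^ 2) = 0 by
    linear_combination hc3 - c * (c - o.w) * o.sum - o.cube) with h | h
  · rcases mul_eq_zero.1 h with h | h
    · exact ⟨0, Units.ext (by rw [sc_pow, hc, sub_eq_zero.1 h, pow_zero])⟩
    · exact ⟨1, Units.ext (by rw [sc_pow, hc, sub_eq_zero.1 h, pow_one])⟩
  · exact ⟨2, Units.ext (by rw [sc_pow, hc, sub_eq_zero.1 h])⟩

/-- No element of the Heisenberg group off the centre is supported on one block. -/
def NoSupp (o : Omega F) (M : Subgroup (GL Ix F)) : Prop :=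
  ∀ z ∈ heis o, sg z ∈ M → pr z = 1

variable {A : Amb o} {M : Subgroup (GL Ix F)}

/-- **Linearity.** -/
theorem Over.linear (O : Over A M) (hclaim : NoSupp o M) (hgood : Good o M) {y : Fin 3 → GL (Fin 3) F}
    (hy : bd y ∈ M) (hH : ∀ i, y i ∈ heis o) (h0 : pr (y 0) = 1) : pr (y 2 * y 1) = 1 := by
  obtain ⟨k, hk⟩ := eq_scalar_pow (hH 0) h0
  set e := (y 0)⁻¹ * y 1
  have he : e ∈ heis o := (heis o).mul_mem ((heis o).inv_mem (hH 0)) (hH 1)
  set z := (y 0)⁻¹ * y 2 * (e ^ 2)⁻¹
  have hz : z ∈ heis o :=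
    (heis o).mul_mem ((heis o).mul_mem ((heis o).inv_mem (hH 0)) (hH 2)) ((heis o).inv_mem ((heis o).pow_mem he 2))
  have hM : sg z ∈ M := by
    have := M.mul_mem (M.mul_mem (M.inv_mem (O.cn_heis (hH 0))) hy) (M.inv_mem (O.gt_mem he))
    simp only [gt, cn, MonoidHom.comp_apply, ← map_inv, ← map_mul] at this
    rw [sg, MonoidHom.comp_apply]
    convert this using 2
    funext i
    fin_cases i <;> simp [dg, z, e]
  have := hclaim _ hz hM
  simp only [z, e, map_mul, map_inv, map_pow, h0, inv_one, one_mul, mul_inv_eq_one] at this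
  rw [map_mul, this, ← pow_succ, ← map_pow, cube_of_mem o (hH 1), map_one]

/-- The action in the second block is determined by the first. -/
theorem Over.acts_two (O : Over A M) (hclaim : NoSupp o M) (hgood : Good o M) {f : Fin 3 → GL (Fin 3) F}
    (hf : bd f ∈ M) {S : Mat2} (h0 : Acts o (f 0) id2) (h1 : Acts o (f 1) S) : Acts o (f 2) (two2 S) := by
  obtain ⟨T, hT⟩ := exists_acts o (hgood f hf 2)
  have key : ∀ v : Pnt, ap T v - v + (ap S v - v) = 0 := by
    intro v
    set x := mono o v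
    have hy : bd (f * dg x * f⁻¹ * (dg x)⁻¹) ∈ M := by
      rw [map_mul, map_mul, map_mul, map_inv, map_inv]
      exact M.mul_mem (M.mul_mem (M.mul_mem hf (O.cn_heis (mono_mem o v))) (M.inv_mem hf))
        (M.inv_mem (O.cn_heis (mono_mem o v)))
    have hH : ∀ i, (f * dg x * f⁻¹ * (dg x)⁻¹) i ∈ heis o := fun i =>
      (heis o).mul_mem ((Subgroup.mem_normalizer_iff.1 (hgood f hf i) x).1 (mono_mem o v))
        ((heis o).inv_mem (mono_mem o v))
    have hp : ∀ (i : Fin 3) (U : Mat2), Acts o (f i) U →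
        pr ((f * dg x * f⁻¹ * (dg x)⁻¹) i) = pr (mono o (ap U v - v)) := by
      intro i U hU
      show pr (f i * x * (f i)⁻¹ * x⁻¹) = _
      rw [map_mul, map_mul, map_mul, map_inv, map_inv, ← pr_mono_sub, ← hU.sends o v]
    have := O.linear hclaim hgood hy hH (by rw [hp 0 _ h0, ap_id2, sub_self, mono_zero, map_one])
    rw [map_mul, hp 2 _ hT, hp 1 _ h1, ← pr_mono_add, ← map_one pr, ← mono_zero o] at this
    exact pr_mono_inj o this
  have e : T = two2 S := by
    have a := key (1, 0)
    have b := key (0, 1)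
    simp only [ap, Prod.ext_iff, Prod.fst_add, Prod.snd_add, Prod.fst_sub, Prod.snd_sub, Prod.fst_zero,
      Prod.snd_zero, one_mul, zero_mul, add_zero, zero_add, sub_zero] at a b
    simp only [two2, Prod.ext_iff]
    refine ⟨⟨?_, ?_⟩, ?_, ?_⟩
    · linear_combination a.1
    · linear_combination a.2
    · linear_combination b.1
    · linear_combination b.2
  exact e ▸ hT

theorem Over.acts_one_eq (O : Over A M) (hclaim : NoSupp o M) (hgood : Good o M) {f : Fin 3 → GL (Fin 3) F}
    (hf : bd f ∈ M) {S : Mat2} (h0 : Acts o (f 0) id2) (h1 : Acts o (f 1) S) : S = id2 := by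
  have hf2 := O.acts_two hclaim hgood hf h0 h1
  have step : ∀ n ∈ words o, ∀ U : Mat2, Acts o n U →
      cmp (two2 S) (two2 (cmp U (cmp S (adj U)))) = two2 (cmp S (cmp U (cmp S (adj U)))) := by
    intro n hn U hU
    have hc : ∀ (g : GL (Fin 3) F) (V : Mat2), Acts o g V → Acts o (n * g * n⁻¹) (cmp U (cmp V (adj U))) :=
      fun g V hg => by rw [mul_assoc]; exact hU.mul o (hg.mul o hU.inv)
    set g := dg n * f * (dg n)⁻¹
    have hg : bd g ∈ M := by
      rw [map_mul, map_mul, map_inv]
      exact M.mul_mem (M.mul_mem (O.cn_word hn) hf) (M.inv_mem (O.cn_word hn))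
    have g0 : Acts o (g 0) id2 := by
      have e : cmp U (cmp id2 (adj U)) = id2 := by
        rw [show cmp id2 (adj U) = adj U from Prod.ext (ap_id2 _) (ap_id2 _)]
        exact cmp_adj (hU.dt_eq o)
      exact e ▸ hc _ _ h0
    have g1 : Acts o (g 1) (cmp U (cmp S (adj U))) := hc _ _ h1
    have g2 := O.acts_two hclaim hgood hg g0 g1
    have hfg : bd (f * g) ∈ M := by rw [map_mul]; exact M.mul_mem hf hg
    have p0 : Acts o ((f * g) 0) id2 := by
      have := h0.mul o g0
      rwa [show cmp id2 id2 = id2 by decide] at this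
    exact (hf2.mul o g2).unique o (O.acts_two hclaim hgood hfg p0 (h1.mul o g1))
  exact two_linear S (h1.dt_eq o) (hf2.dt_eq o) (step _ (four_mem_words o) _ (acts_four o))
    (step _ ((words o).mul_mem (tw_mem_words o) (four_mem_words o)) _ ((acts_tw o).mul o (acts_four o)))

/-- All components act alike. -/
theorem Over.same_action (O : Over A M) (hclaim : NoSupp o M) (hgood : Good o M) {f : Fin 3 → GL (Fin 3) F}
    (hf : bd f ∈ M) : ∃ n ∈ words o, ∀ i, Acts o (n⁻¹ * f i) id2 := by
  obtain ⟨S, hS⟩ := exists_acts o (hgood f hf 0)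
  obtain ⟨n, hn, hnS⟩ := exists_word o (hS.dt_eq o)
  refine ⟨n, hn, ?_⟩
  set g := (dg n)⁻¹ * f
  have hg : bd g ∈ M := by
    rw [map_mul, map_inv]; exact M.mul_mem (M.inv_mem (O.cn_word hn)) hf
  have g0 : Acts o (g 0) id2 := by
    have h1 := hnS.inv.mul o hS
    have h3 := hnS.inv.mul o hnS
    rw [inv_mul_cancel] at h3
    exact h3.unique o (acts_one o) ▸ h1
  obtain ⟨U, hU⟩ := exists_acts o (hgood g hg 1)
  have hU1 := O.acts_one_eq hclaim hgood hg g0 hU
  subst hU1
  have g2 := O.acts_two hclaim hgood hg g0 hU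
  rw [show two2 id2 = id2 by decide] at g2
  intro i
  fin_cases i
  exacts [g0, hU, g2]

theorem Over.good_mem (O : Over A M) (hclaim : NoSupp o M) (hgood : Good o M) {f : Fin 3 → GL (Fin 3) F}
    (hf : bd f ∈ M) : bd f ∈ subgroupNormalizer (R₀ o) := by
  obtain ⟨n, hn, hn1⟩ := O.same_action hclaim hgood hf
  choose v hv using fun i => exists_mono_of_acts_one o (hn1 i)
  set x := mono o (v 0)
  set e := mono o (v 1 - v 0)
  -- remove the linear part
  set d := (fun i : Fin 3 => e ^ i.val)⁻¹ * ((dg x)⁻¹ * ((dg n)⁻¹ * f))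
  have hd : bd d ∈ M := by
    rw [map_mul, map_mul, map_mul, map_inv, map_inv, map_inv]
    exact M.mul_mem (M.inv_mem (O.gt_mem (mono_mem o _)))
      (M.mul_mem (M.inv_mem (O.cn_heis (mono_mem o _))) (M.mul_mem (M.inv_mem (O.cn_word hn)) hf))
  have hp : ∀ i : Fin 3, pr (d i) = ((pr e) ^ i.val)⁻¹ * ((pr x)⁻¹ * pr (mono o (v i))) := fun i => by
    rw [← hv i]
    simp only [d, dg, Pi.mul_apply, Pi.inv_apply, MonoidHom.coe_mk, OneHom.coe_mk, map_mul, map_inv, map_pow]
  have hx' : ∀ u, (pr x)⁻¹ * pr (mono o u) = pr (mono o (u - v 0)) := fun u => by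
    rw [inv_mul_eq_iff_eq_mul, ← pr_mono_add, add_sub_cancel]
  have d0 : pr (d 0) = 1 := by simp [hp, x]
  have d1 : pr (d 1) = 1 := by
    rw [hp, hx', show (1 : Fin 3).val = 1 from rfl, pow_one, inv_mul_cancel]
  obtain ⟨t, hd2'⟩ : ∃ t, pr (d 2) = pr (mono o t) :=
    ⟨(v 2 - v 0) - ((v 1 - v 0) + (v 1 - v 0)), by
      rw [hp, hx', show (2 : Fin 3).val = 2 from rfl, pow_two, ← pr_mono_add, inv_mul_eq_iff_eq_mul, ← pr_mono_add,
        add_sub_cancel]⟩
  -- the last block has to be scalar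
  have d2 : pr (d 2) = 1 := by
    set q := dg (four o) * d * (dg (four o))⁻¹ * d⁻¹
    have hq : bd q ∈ M := by
      rw [map_mul, map_mul, map_mul, map_inv, map_inv]
      exact M.mul_mem (M.mul_mem (M.mul_mem (O.cn_word (four_mem_words o)) hd) (M.inv_mem (O.cn_word (four_mem_words o))))
        (M.inv_mem hd)
    have hcen : ∀ i : Fin 3, pr (d i) = 1 → q i = 1 := fun i hi => by
      obtain ⟨c, hc⟩ := pr_eq_one.1 hi
      show four o * d i * (four o)⁻¹ * (d i)⁻¹ = 1
      rw [show four o * d i = d i * four o from Units.ext (by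
        rw [Units.val_mul, Units.val_mul, hc, smul_mul_assoc, one_mul, mul_smul_comm, mul_one]),
        mul_inv_cancel_right, mul_inv_cancel]
    have hq2 : q 2 ∈ heis o := by
      obtain ⟨c, hc⟩ := pr_eq.1 hd2'
      have hN := (acts_four o).mem_normalizer o
      have e2 : q 2 = four o * mono o t * (four o)⁻¹ * (mono o t)⁻¹ := by
        show four o * d 2 * (four o)⁻¹ * (d 2)⁻¹ = _
        set z := d 2 * (mono o t)⁻¹
        have hz : ∀ a, z * a = a * z := fun a => Units.ext (by
          have hzv : mat z = c • 1 := by rw [Units.val_mul, hc, smul_mul_assoc, Units.mul_inv]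
          rw [Units.val_mul z a, Units.val_mul a z, hzv, smul_mul_assoc, one_mul, mul_smul_comm, mul_one])
        calc four o * d 2 * (four o)⁻¹ * (d 2)⁻¹
            = four o * z * mono o t * (four o)⁻¹ * (mono o t)⁻¹ * z⁻¹ := by simp only [z]; group
          _ = z * (four o * mono o t * (four o)⁻¹ * (mono o t)⁻¹) * z⁻¹ := by rw [← hz (four o)]; group
          _ = _ := by rw [hz, mul_inv_cancel_right]
      rw [e2]
      exact (heis o).mul_mem ((Subgroup.mem_normalizer_iff.1 hN _).1 (mono_mem o t)) ((heis o).inv_mem (mono_mem o t))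
    have hsg : sg (q 2) ∈ M := by
      rw [sg, MonoidHom.comp_apply]
      convert hq using 2
      funext i
      fin_cases i
      · simp [hcen 0 d0]
      · simp [hcen 1 d1]
      · simp
    have h1 := hclaim _ hq2 hsg
    have h3 : pr (q 2) = pr (mono o (ap fourS t - t)) := by
      show pr (four o * d 2 * (four o)⁻¹ * (d 2)⁻¹) = _
      rw [map_mul, map_mul, map_mul, map_inv, map_inv, hd2', ← pr_mono_sub, ← (acts_four o).sends o t]
    rw [h3, ← map_one pr, ← mono_zero o] at h1
    have ht := (show ∀ t : Pnt, ap fourS t - t = 0 → t = 0 by decide) t (pr_mono_inj o h1)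
    rw [hd2', ht, mono_zero, map_one]
  -- all blocks are scalar
  have hsc : ∀ i, ∃ c : F, mat (d i) = c • 1 := fun i => pr_eq_one.1 (by fin_cases i; exacts [d0, d1, d2])
  choose c hc using hsc
  have hc0 : ∀ i, c i ≠ 0 := fun i h => (d i).ne_zero (by rw [hc i, h, zero_smul])
  let dd : GL (Fin 3) F :=
    { val := Matrix.diagonal c
      inv := Matrix.diagonal fun i => (c i)⁻¹
      val_inv := by rw [diagonal_mul_diagonal, ← diagonal_one]; congr 1; funext i; exact mul_inv_cancel₀ (hc0 i)
      inv_val := by rw [diagonal_mul_diagonal, ← diagonal_one]; congr 1; funext i; exact inv_mul_cancel₀ (hc0 i) }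
  have hdd : bd d = bl dd := Units.ext (by
    rw [bl_val, bd_val]
    ext ⟨a, i⟩ ⟨b, k⟩
    rw [blockDiagonal_apply, kroneckerMap_apply, hc i, Matrix.smul_apply, smul_eq_mul]
    show _ = (1 : Matrix (Fin 3) (Fin 3) F) a b * Matrix.diagonal c i k
    rw [Matrix.diagonal_apply]
    split_ifs with h
    · rw [mul_comm]
    · rw [mul_zero])
  have h4 := four_mem_words o
  have hE : cn (four o * dd * (four o)⁻¹) ∈ M := by
    rw [← sw_bl, map_mul, map_mul, map_inv]
    exact M.mul_mem (M.mul_mem O.sw_mem (M.mul_mem (M.mul_mem (O.bl_word h4) (hdd ▸ hd)) (M.inv_mem (O.bl_word h4))))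
      (M.inv_mem O.sw_mem)
  have hN := hgood (dg (four o * dd * (four o)⁻¹)) hE 0
  have hddN : dd ∈ subgroupNormalizer (heis o) := by
    have hN4 := (acts_four o).mem_normalizer o
    have h5 := Subgroup.mul_mem _ (Subgroup.mul_mem _ (Subgroup.inv_mem _ hN4) hN) hN4
    rwa [show (four o)⁻¹ * dg (four o * dd * (four o)⁻¹) (0 : Fin 3) * four o = dd by
      show (four o)⁻¹ * (four o * dd * (four o)⁻¹) * four o = dd
      group] at h5
  have hf' : bd f = cn n * (cn x * (gt e * bd d)) := by
    rw [gt, cn, MonoidHom.comp_apply, MonoidHom.comp_apply, ← map_mul, ← map_mul, ← map_mul]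
    congr 1
    simp only [d, mul_inv_cancel_left]
  rw [hf']
  exact Subgroup.mul_mem _ (cn_mem_normalizer o (words_le_normalizer hn))
    (Subgroup.mul_mem _ (cn_mem_normalizer o (heis_le_normalizer o (mono_mem o _)))
      (Subgroup.mul_mem _ (gt_mem_normalizer o (mono_mem o _)) (hdd ▸ bl_mem_normalizer o hddN)))

theorem Over.clockGood_aux (O : Over A M) (hclaim : NoSupp o M) (hgood : Good o M) :
    ∀ g ∈ M, g * bl (clock o) = bl (clock o) * g → g ∈ subgroupNormalizer (R₀ o) := fun g hg hc => by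
  obtain ⟨f, rfl⟩ := exists_bd o hc
  exact O.good_mem hclaim hgood hg

/-- **The centraliser of the block element.** -/
theorem Over.cent_clock (O : Over A M) (hR : Rich A) :
    (∀ g ∈ M, g * bl (clock o) = bl (clock o) * g → g ∈ subgroupNormalizer (R₀ o)) ∨ A.G ≤ M := by
  by_cases hgood : Good o M
  · exact Or.inl (O.clockGood_aux (fun z hz hM => O.claim hR.two_ne hgood hz hM) hgood)
  · refine Or.inr ?_
    simp only [Good, not_forall] at hgood
    obtain ⟨f, hf, j, hj⟩ := hgood
    exact O.top_of_bad hR hf hj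

end CfsgLib.SympThree
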