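import Cfsg.Agent.SympThree.Kernel
import Mathlib.Dynamics.PeriodicPts.Defs

/-!
# The centraliser of the involution normalises the extraspecial group
-/

set_option autoImplicit false
set_option linter.unusedSectionVars false

namespace CfsgLib.SympThree

open Matrix Cfsg.Geo CfsgLib.SLThree.Hessian
open scoped Kronecker

local notation:max "mat" => Units.val

variable {F : Type*} [Field F] [Finite F] {o : Omega F} {A : Amb o} {M : Subgroup (GL Ix F)}

/-- An element of prime-power order permuting at most three points fixes them when the prime is at least five. -/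
theorem fixed_of_three {X : Type*} [DecidableEq X] (T : Finset X) (hT : T.card ≤ 3) {σ : X → X}
    (hσ : ∀ x ∈ T, σ x ∈ T) {p a : ℕ} (hp : p.Prime) (h5 : 5 ≤ p) (hn : ∀ x ∈ T, σ^[p ^ a] x = x) {x : X}
    (hx : x ∈ T) : σ x = x := by
  have hper : Function.IsPeriodicPt σ (p ^ a) x := hn x hx
  obtain ⟨j, -, hj⟩ := (Nat.dvd_prime_pow hp).1 hper.minimalPeriod_dvd
  have hmem : ∀ k : ℕ, σ^[k] x ∈ T := fun k => by
    induction k with
    | zero => exact hx
    | succ k ih => rw [Function.iterate_succ_apply']; exact hσ _ ih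
  have hle : Function.minimalPeriod σ x ≤ T.card := by
    rw [← Finset.card_range (Function.minimalPeriod σ x)]
    refine Finset.card_le_card_of_injOn (fun k => σ^[k] x) (fun k _ => hmem k) ?_
    intro k hk l hl e
    simp only [Finset.coe_range, Set.mem_Iio] at hk hl
    exact (Function.iterate_eq_iterate_iff_of_lt_minimalPeriod hk hl).1 e
  have hper1 : Function.minimalPeriod σ x = 1 := by
    rw [hj]
    rcases Nat.eq_zero_or_pos j with rfl | hj0
    · rw [pow_zero]
    · have := Nat.le_self_pow hj0.ne' p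
      omega
  exact Function.minimalPeriod_eq_one_iff_isFixedPt.1 hper1

theorem four_table : ∀ S : Mat2, dt S.1 S.2 = 1 → Pm (cmp S S) → Pm S ∨ Pm (cmp S (adj fourS)) ∨
    Pm (cmp S (adj (cmp twS (cmp fourS (adj twS))))) ∨
    Pm (cmp S (adj (cmp (cmp twS twS) (cmp fourS (adj (cmp twS twS)))))) := by
  decide +kernel

theorem comm_table : ∀ S : Mat2, dt S.1 S.2 = 1 → cmp S fourS = cmp fourS S →
    cmp S (cmp twS (cmp fourS (adj twS))) = cmp (cmp twS (cmp fourS (adj twS))) S → Pm S := by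
  decide +kernel

theorem acts_quat_one : Acts o (quat o 1) (cmp twS (cmp fourS (adj twS))) := by
  rw [quat, pow_one, mul_assoc]
  exact (acts_tw o).mul o ((acts_four o).mul o (acts_tw o).inv)

theorem acts_quat_two : Acts o (quat o 2) (cmp (cmp twS twS) (cmp fourS (adj (cmp twS twS)))) := by
  rw [quat, pow_two, mul_assoc]
  exact ((acts_tw o).mul o (acts_tw o)).mul o ((acts_four o).mul o ((acts_tw o).mul o (acts_tw o)).inv)

theorem scalar_comm {z g : GL Ix F} {c : F} (hz : mat z = c • 1) : z * g = g * z :=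
  Units.ext (by rw [Units.val_mul, Units.val_mul, hz, smul_mul_assoc, one_mul, mul_smul_comm, mul_one])

/-- Elements of odd order with trivial action fix the two quaternion involutions. -/
theorem Over.commutes_factor (O : Over A M) (hC : ClockGood o M) (h2 : (2 : F) ≠ 0) {h : hS (F := F)}
    (hh : (h : GL Ix F) ∈ M) {p a : ℕ} (hp : p.Prime) (h5 : 5 ≤ p) (hord : (h : GL Ix F) ^ p ^ a = 1) :
    ∀ k : ℕ, k < 2 → (h : GL Ix F) * cn (quat o k) = cn (quat o k) * (h : GL Ix F) := by
  classical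
  intro k hk
  set c := h
  let Q : ℕ → GL (Fin 3) F := fun j => quat o j
  have hJmem : ∀ j, cn (Q j) ∈ M ∧ cn (Q j) ∈ hS (F := F) := fun j =>
    ⟨O.cn_word (quat_mem_words o j), cn_mem_hS.2 (words_comm_cent o (quat_mem_words o j))⟩
  -- classes modulo the centre of the situation
  let Zg : Subgroup (GL Ix F) := scalars Ix F ⊔ Subgroup.zpowers (cn cent)
  let Cls : GL Ix F → ℕ → Prop := fun g j => g * (cn (Q j))⁻¹ ∈ Zg
  have hZc : ∀ z ∈ Zg, ∀ g ∈ hS (F := F), z * g = g * z := by
    intro z hz g hg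
    obtain ⟨d, hd | hd⟩ := sup_cases hz
    · exact scalar_comm hd
    · refine Units.ext ?_
      rw [Units.val_mul, Units.val_mul, hd, smul_mul_assoc, mul_smul_comm]
      congr 1
      exact (congrArg (fun y : GL Ix F => mat y) (mem_hS.1 hg)).symm
  have hImg : ∀ j, j < 3 → ∃ i, i < 3 ∧ Cls (c * cn (Q j) * (c : GL Ix F)⁻¹) i := by
    intro j _
    let g : hS (F := F) := c * ⟨_, (hJmem j).2⟩ * c⁻¹
    have hgM : (g : GL Ix F) ∈ M := M.mul_mem (M.mul_mem hh (hJmem j).1) (M.inv_mem hh)
    have hgb : pr (bh g) = 1 := by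
      rw [map_mul, map_mul, map_inv, map_mul, map_mul, map_inv,
        pr_eq_one.2 ⟨_, bh_cn (hJmem j).2⟩, mul_one, mul_inv_cancel]
    obtain ⟨n, hn, hnN, hnc⟩ := O.kernel hC hgM hgb
    obtain ⟨S, hS'⟩ := exists_acts o hnN
    obtain ⟨T, hT⟩ := exists_acts o (quat_mem_normalizer o j)
    have hqq : cn (Q j * Q j) ∈ Zg := by
      refine Subgroup.mem_sup_right ?_
      rw [show Q j * Q j = cent from ?_]
      · exact Subgroup.mem_zpowers _
      · show quat o j * quat o j = cent
        have h' : Commute (tw o ^ j) cent := (show Commute (tw o) cent from tw_comm_cent o).pow_left j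
        calc quat o j * quat o j = tw o ^ j * (four o * four o) * (tw o ^ j)⁻¹ := by rw [quat]; group
          _ = cent := by rw [four_sq, h'.eq, mul_inv_cancel_right]
    have hsq : Pm (cmp S S) := by
      refine pm_of_sup (hS'.mul o hS') ?_
      rw [map_mul, ← hn]
      show ((c : GL Ix F) * cn (Q j) * (c : GL Ix F)⁻¹) * ((c : GL Ix F) * cn (Q j) * (c : GL Ix F)⁻¹) ∈ Zg
      have e : (c : GL Ix F) * cn (Q j) * (c : GL Ix F)⁻¹ * ((c : GL Ix F) * cn (Q j) * (c : GL Ix F)⁻¹) =
          (c : GL Ix F) * cn (Q j * Q j) * (c : GL Ix F)⁻¹ := by rw [map_mul]; group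
      rw [e, ← hZc _ hqq _ c.2, mul_inv_cancel_right]
      exact hqq
    have cls : ∀ (i : ℕ) (U : Mat2), Acts o (quat o i) U → Pm (cmp S (adj U)) →
        Cls ((c : GL Ix F) * cn (Q j) * (c : GL Ix F)⁻¹) i := by
      intro i U hU hp'
      show _ * _ ∈ Zg
      have := sup_of_pm (hS'.mul o hU.inv) hp' ((show Commute n cent from hnc).mul_left
        (show Commute (quat o i) cent from words_comm_cent o (quat_mem_words o i)).inv_left).eq
      rw [map_mul, map_inv, ← hn] at this
      exact this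
    rcases four_table S (hS'.dt_eq o) hsq with p' | p' | p' | p'
    · exfalso
      have hz := sup_of_pm hS' p' hnc
      rw [← hn] at hz
      have hz' : cn (Q j) ∈ Zg := by
        have e : cn (Q j) = (g : GL Ix F) := by
          have h1 := hZc _ hz _ (hS.inv_mem c.2)
          show cn (Q j) = (c : GL Ix F) * cn (Q j) * (c : GL Ix F)⁻¹
          change (c : GL Ix F) * cn (Q j) * (c : GL Ix F)⁻¹ * (c : GL Ix F)⁻¹ =
            (c : GL Ix F)⁻¹ * ((c : GL Ix F) * cn (Q j) * (c : GL Ix F)⁻¹) at h1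
          calc cn (Q j) = (c : GL Ix F)⁻¹ * ((c : GL Ix F) * cn (Q j) * (c : GL Ix F)⁻¹) * (c : GL Ix F) := by group
            _ = _ := by rw [← h1]; group
        rw [e]; exact hz
      have hT' := pm_of_sup hT hz'
      have h4 : ∀ i, ∀ U, Acts o (quat o i) U → Pm U → False := by
        intro i U hU hp''
        have h5' : Acts o (four o) (cmp (adj ((cmp twS)^[i] id2)) (cmp U ((cmp twS)^[i] id2))) := by
          rw [show four o = (tw o ^ i)⁻¹ * (quat o i * tw o ^ i) by rw [quat]; group]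
          exact ((acts_tw o).pow o i).inv.mul o (hU.mul o ((acts_tw o).pow o i))
        have e1 := h5'.unique o (acts_four o)
        have hd := ((acts_tw o).pow o i).dt_eq o
        generalize (cmp twS)^[i] id2 = V at e1 hd
        revert e1 hd
        rcases hp'' with rfl | rfl <;> revert V <;> decide +kernel
      exact h4 j T hT hT'
    · exact ⟨0, by norm_num, cls 0 _ (by simpa [quat] using acts_four o) p'⟩
    · exact ⟨1, by norm_num, cls 1 _ acts_quat_one p'⟩
    · exact ⟨2, by norm_num, cls 2 _ acts_quat_two p'⟩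
  have key : ∀ j, j < 3 → Cls ((c : GL Ix F) * cn (Q j) * (c : GL Ix F)⁻¹) j := by
    let HS : Subgroup (GL Ix F) := hS
    let Zh : Subgroup HS := Zg.subgroupOf HS
    haveI : Zh.Normal := ⟨fun z hz x => by
      have : x * z * x⁻¹ = z := Subtype.ext (by
        show (x : GL Ix F) * (z : GL Ix F) * (x : GL Ix F)⁻¹ = _
        rw [← hZc _ (Subgroup.mem_subgroupOf.1 hz) _ x.2, mul_inv_cancel_right])
      rwa [this]⟩
    let q := QuotientGroup.mk' Zh
    let cl : ℕ → HS ⧸ Zh := fun j => q ⟨_, (hJmem j).2⟩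
    let σ : HS ⧸ Zh → HS ⧸ Zh := fun x => q c * x * (q c)⁻¹
    have hmem : ∀ x ∈ (Finset.range 3).image cl, σ x ∈ (Finset.range 3).image cl := by
      intro x hx
      obtain ⟨j, hj, rfl⟩ := Finset.mem_image.1 hx
      obtain ⟨i, hi, hcls⟩ := hImg j (Finset.mem_range.1 hj)
      refine Finset.mem_image.2 ⟨i, Finset.mem_range.2 hi, ?_⟩
      show cl i = q c * q _ * (q c)⁻¹
      rw [eq_comm, ← map_inv, ← map_mul, ← map_mul, ← mul_inv_eq_one, ← map_inv, ← map_mul]
      exact (QuotientGroup.eq_one_iff _).2 (Subgroup.mem_subgroupOf.2 hcls)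
    have hit : ∀ (i : ℕ) x, σ^[i] x = q (c ^ i) * x * (q (c ^ i))⁻¹ := by
      intro i x
      induction i with
      | zero => simp
      | succ i ih =>
        rw [Function.iterate_succ_apply', ih]
        show q c * _ * (q c)⁻¹ = _
        rw [pow_succ', map_mul]; group
    have hpa : (c : HS) ^ p ^ a = 1 := Subtype.ext hord
    intro j hj
    have := fixed_of_three ((Finset.range 3).image cl) (Finset.card_image_le.trans (by simp)) hmem hp h5
      (fun x _ => by rw [hit, hpa, map_one, one_mul, inv_one, mul_one])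
      (Finset.mem_image.2 ⟨j, Finset.mem_range.2 hj, rfl⟩)
    change q c * q _ * (q c)⁻¹ = q _ at this
    rw [← map_inv, ← map_mul, ← map_mul, ← mul_inv_eq_one, ← map_inv, ← map_mul] at this
    exact Subgroup.mem_subgroupOf.1 ((QuotientGroup.eq_one_iff _).1 this)
  -- remove the central factor
  set J := cn (Q k) with hJ
  set z := (c : GL Ix F) * J * (c : GL Ix F)⁻¹ * J⁻¹
  have hzZ : z ∈ Zg := key k (by omega)
  have hzH : z ∈ hS (F := F) :=
    Subgroup.mul_mem _ (Subgroup.mul_mem _ (Subgroup.mul_mem _ c.2 (hJmem k).2) (Subgroup.inv_mem _ c.2))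
      (Subgroup.inv_mem _ (hJmem k).2)
  have hB : bh ⟨z, hzH⟩ = 1 := by
    obtain ⟨d, hd⟩ : ∃ d : F, mat (bh ⟨J, (hJmem k).2⟩) = d • 1 := ⟨_, bh_cn (hJmem k).2⟩
    rw [show (⟨z, hzH⟩ : hS (F := F)) = c * ⟨J, (hJmem k).2⟩ * c⁻¹ * (⟨J, (hJmem k).2⟩)⁻¹ from rfl, map_mul,
      map_mul, map_mul, map_inv, map_inv,
      show bh c * bh ⟨J, (hJmem k).2⟩ = bh ⟨J, (hJmem k).2⟩ * bh c from Units.ext (by
        rw [Units.val_mul, Units.val_mul, hd, mul_smul_comm, mul_one, smul_mul_assoc, one_mul]),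
      mul_inv_cancel_right, mul_inv_cancel]
  have hz2 : z = 1 ∨ z = cn cent := by
    have hB' : bmat (mat z) = 1 := congrArg (fun x : GL (Fin 3) F => mat x) hB
    obtain ⟨d, hd | hd⟩ := sup_cases hzZ
    · left
      rw [hd] at hB'
      have := congrFun (congrFun hB' 0) 0
      simp [bmat, Matrix.one_apply, Prod.ext_iff] at this
      exact Units.ext (by simp [hd, this])
    · right
      rw [hd, cn_val] at hB'
      have := congrFun (congrFun hB' 0) 0
      simp only [bmat, Matrix.of_apply, Matrix.smul_apply, kroneckerMap_apply, smul_eq_mul, ← mul_sub, ← sub_mul,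
        cent_lam, one_mul, Matrix.one_apply_eq, mul_one] at this
      exact Units.ext (by rw [hd, this, one_smul])
  have hcz : z * (c : GL Ix F) = (c : GL Ix F) * z := hZc z hzZ _ c.2
  have hit : ∀ i : ℕ, (c : GL Ix F) ^ i * J * ((c : GL Ix F) ^ i)⁻¹ = z ^ i * J := by
    intro i
    induction i with
    | zero => simp
    | succ i ih =>
      have h1 : Commute z (c : GL Ix F) := hcz
      calc (c : GL Ix F) ^ (i + 1) * J * ((c : GL Ix F) ^ (i + 1))⁻¹
          = (c : GL Ix F) * ((c : GL Ix F) ^ i * J * ((c : GL Ix F) ^ i)⁻¹) * (c : GL Ix F)⁻¹ := by rw [pow_succ']; group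
        _ = z ^ i * ((c : GL Ix F) * J * (c : GL Ix F)⁻¹) := by
          rw [ih, ← mul_assoc, ((h1.pow_left i).symm).eq]; group
        _ = z ^ (i + 1) * J := by
          rw [pow_succ, mul_assoc (z ^ i), show z * J = (c : GL Ix F) * J * (c : GL Ix F)⁻¹ by simp [z]]
  have hzn : z ^ (p ^ a) = 1 := by
    have := hit (p ^ a)
    rw [hord, one_mul, inv_one, mul_one] at this
    exact mul_eq_right.1 this.symm
  have hz1 : z = 1 := by
    refine hz2.resolve_right fun e => ?_
    have hodd : Odd (p ^ a) := (hp.odd_of_ne_two (by omega)).pow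
    obtain ⟨t, ht⟩ := hodd
    rw [ht, pow_succ, pow_mul, e, pow_two, ← map_mul, cent_mul_self, map_one, one_pow, one_mul] at hzn
    have h1 := congrArg (fun x : GL (Fin 3) F => mat x 0 0) (cn_injective (hzn.trans (map_one cn).symm))
    simp [cent] at h1
    exact h2 (by linear_combination -h1)
  exact mul_inv_eq_iff_eq_mul.1 (mul_inv_eq_one.1 hz1)

/-- **The centraliser of the involution, when the fixed space sees the normaliser only.** -/
theorem Over.cent_inv_of_act (O : Over A M) (hC : ClockGood o M)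
    (hB : ∀ h : (M ⊓ hS : Subgroup (GL Ix F)), bh (Subgroup.inclusion inf_le_right h) ∈ subgroupNormalizer (heis o)) :
    ∀ g ∈ M, g * cn cent = cn cent * g → g ∈ subgroupNormalizer (R₀ o) := by
  classical
  have hblN : ∀ n ∈ words o, ∀ x ∈ heis o, bl (n * x) ∈ subgroupNormalizer (R₀ o) := fun n hn x hx =>
    bl_mem_normalizer o ((subgroupNormalizer (heis o)).mul_mem (words_le_normalizer hn) (heis_le_normalizer o hx))
  let H : Subgroup (GL Ix F) := M ⊓ hS
  let bH : H →* GL (Fin 3) F := bh.comp (Subgroup.inclusion inf_le_right)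
  intro g hg hc
  let g₀ : hS (F := F) := ⟨g, mem_hS.2 hc⟩
  obtain ⟨S, hS'⟩ := exists_acts o (hB ⟨g, hg, g₀.2⟩)
  obtain ⟨n, hn, hnS⟩ := exists_word o (hS'.dt_eq o)
  have h1 : Acts o (n⁻¹ * bH ⟨g, hg, g₀.2⟩) id2 := by
    have h3 := hnS.inv.mul o hnS
    rw [inv_mul_cancel] at h3
    exact h3.unique o (acts_one o) ▸ hnS.inv.mul o hS'
  obtain ⟨v, hv⟩ := exists_mono_of_acts_one o h1
  have hmem : bl (n * mono o v) ∈ M := by
    rw [map_mul]; exact M.mul_mem (O.bl_word hn) (O.bl_heis (mono_mem o v))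
  set g' : hS (F := F) := (⟨bl (n * mono o v), bl_mem_hS _⟩ : hS (F := F))⁻¹ * g₀
  obtain ⟨m, hm, hmN, -⟩ := O.kernel hC (g := g') (M.mul_mem (M.inv_mem hmem) hg) (by
    rw [map_mul, map_inv, bh_bl, map_mul, map_inv, map_mul, _root_.mul_inv_rev, mul_assoc, ← map_inv pr n,
      ← map_mul]
    change (pr (mono o v))⁻¹ * pr (n⁻¹ * bH ⟨g, hg, g₀.2⟩) = 1
    rw [hv, inv_mul_cancel])
  have e : g = bl (n * mono o v) * cn m := by
    rw [← hm]; show g = _ * ((bl (n * mono o v))⁻¹ * g); rw [mul_inv_cancel_left]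
  rw [e]
  exact Subgroup.mul_mem _ (hblN n hn _ (mono_mem o v)) (cn_mem_normalizer o hmN)

/-- **The centraliser of the involution.** -/
theorem Over.cent_inv (O : Over A M) (hR : Rich A) (hC : ClockGood o M) :
    ∀ g ∈ M, g * cn cent = cn cent * g → g ∈ subgroupNormalizer (R₀ o) := by
  classical
  have h2 := hR.two_ne
  let H : Subgroup (GL Ix F) := M ⊓ hS
  let bH : H →* GL (Fin 3) F := bh.comp (Subgroup.inclusion inf_le_right)
  have hblH : ∀ n, bl n ∈ M → ∃ h : H, bH h = n := fun n hn =>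
    ⟨⟨bl n, hn, bl_mem_hS n⟩, bh_bl (bl_mem_hS n)⟩
  refine O.cent_inv_of_act hC fun g₁ => ?_
  by_contra hg₁
  have hBU : bH.range ≤ A.U := by
    rintro _ ⟨h, rfl⟩
    exact A.bmap _ (O.le h.2.1).1 (mem_hS.1 h.2.2) _ rfl
  have hbig := (hR.base bH.range hBU (hblH _ (O.bl_heis (clock_mem o))) (hblH _ (O.bl_heis (shift_mem o)))
    (hblH _ (O.bl_word (four_mem_words o))) (hblH _ (O.bl_word (tw_mem_words o)))).resolve_left
      fun hle => hg₁ (hle ⟨g₁, rfl⟩)
  obtain ⟨p, hp, h5, t, ht, htp, hts⟩ := hR.pElem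
  haveI := Fact.mk hp
  let HJ : Subgroup H := (Subgroup.centralizer {cn (quat o 0), cn (quat o 1)}).subgroupOf H
  have hJ : A.U ⊓ specialLinear (Fin 3) F ≤ HJ.map bH := by
    set K : Subgroup (GL (Fin 3) F) :=
      Subgroup.closure {x | ∃ u ∈ A.U ⊓ specialLinear (Fin 3) F, x = u * t * u⁻¹}
    have hK : A.U ⊓ specialLinear (Fin 3) F ≤ K := by
      refine hR.normalized K (fun u hu k hk _ => ?_) t (Subgroup.subset_closure ⟨1, Subgroup.one_mem _, by group⟩) ht hts
      have : K.map (MulAut.conj u).toMonoidHom ≤ K := by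
        rw [MonoidHom.map_closure, Subgroup.closure_le]
        rintro _ ⟨_, ⟨u', hu', rfl⟩, rfl⟩
        refine Subgroup.subset_closure ⟨u * u', Subgroup.mul_mem _ hu hu', ?_⟩
        simp only [MulEquiv.coe_toMonoidHom, MulAut.conj_apply]
        group
      exact this ⟨k, hk, rfl⟩
    refine hK.trans ((Subgroup.closure_le _).2 ?_)
    rintro _ ⟨u, hu, rfl⟩
    set t' := u * t * u⁻¹
    have htp' : t' ^ p = 1 := by rw [conj_pow, htp, mul_one, mul_inv_cancel]
    obtain ⟨h, hh⟩ := hbig (show t' ∈ A.U ⊓ specialLinear (Fin 3) F from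
      Subgroup.mul_mem _ (Subgroup.mul_mem _ hu ht) (Subgroup.inv_mem _ hu))
    have ho : orderOf h ≠ 0 := (orderOf_pos h).ne'
    obtain ⟨a, m, hm, hcard⟩ := Nat.exists_eq_pow_mul_and_not_dvd ho p hp.ne_one
    obtain ⟨j, -, hj⟩ := Nat.exists_mul_mod_eq_one_of_coprime ((hp.coprime_iff_not_dvd.2 hm).symm) hp.one_lt
    set h' : H := h ^ (m * j) with hh'
    have hBh' : bH h' = t' := by rw [hh', map_pow, hh, pow_eq_pow_mod _ htp', hj, pow_one]
    have hord : (h' : GL Ix F) ^ p ^ a = 1 := by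
      rw [← SubmonoidClass.coe_pow, hh', ← pow_mul,
        show m * j * p ^ a = orderOf h * j by rw [hcard]; ring, pow_mul, pow_orderOf_eq_one, one_pow]
      rfl
    refine ⟨h', ?_, hBh'⟩
    refine Subgroup.mem_subgroupOf.2 (Subgroup.mem_centralizer_iff.2 ?_)
    rintro x (rfl | rfl)
    · exact (O.commutes_factor hC h2 (h := ⟨(h' : GL Ix F), h'.2.2⟩) h'.2.1 hp h5 hord 0 (by norm_num)).symm
    · exact (O.commutes_factor hC h2 (h := ⟨(h' : GL Ix F), h'.2.2⟩) h'.2.1 hp h5 hord 1 (by norm_num)).symm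
  obtain ⟨g, hgJ, hgd⟩ := hJ (show flipTwo ∈ A.U ⊓ specialLinear (Fin 3) F from ⟨hR.flip_mem, mem_sl.2 (by
    show (!![-1, 0, 0; 0, -1, 0; 0, 0, 1] : Matrix (Fin 3) (Fin 3) F).det = 1
    rw [det_fin_three]; simp)⟩)
  have hgJ' : ∀ k, k < 2 → (g : GL Ix F) * cn (quat o k) = cn (quat o k) * (g : GL Ix F) := by
    intro k hk
    refine (Subgroup.mem_centralizer_iff.1 (Subgroup.mem_subgroupOf.1 hgJ) _ ?_).symm
    interval_cases k <;> simp
  let Cc : H := ⟨bl (clock o), O.bl_heis (clock_mem o), bl_mem_hS _⟩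
  set kc : H := Cc * g * Cc⁻¹ * g⁻¹
  have hkb : bH kc = 1 := by
    simp only [kc, map_mul, map_inv, hgd]
    rw [show bH Cc = clock o from bh_bl (bl_mem_hS _), ← flipTwo_comm, mul_inv_cancel_right, mul_inv_cancel]
  obtain ⟨n, hn, hnN, hnc⟩ := O.kernel hC (g := ⟨(kc : GL Ix F), kc.2.2⟩) kc.2.1
    (show pr (bH kc) = 1 by rw [hkb, map_one])
  obtain ⟨S, hS'⟩ := exists_acts o hnN
  have hncomm : ∀ k, k < 2 → n * quat o k = quat o k * n := by
    intro k hk
    apply cn_injective
    rw [map_mul, map_mul, ← hn]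
    have h1 : Commute (g : GL Ix F) (cn (quat o k)) := hgJ' k hk
    have h2' : Commute (Cc : GL Ix F) (cn (quat o k)) := (cn_bl_comm (quat o k) (clock o)).symm
    exact (((h2'.mul_left h1).mul_left h2'.inv_left).mul_left h1.inv_left).eq
  have hpm : Pm S := by
    refine comm_table S (hS'.dt_eq o) ?_ ?_
    · have e := hncomm 0 (by norm_num)
      simp only [quat, pow_zero, one_mul, inv_one, mul_one] at e
      have h3 := hS'.mul o (acts_four o)
      rw [e] at h3
      exact h3.unique o ((acts_four o).mul o hS')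
    · have h3 := hS'.mul o (acts_quat_one (o := o))
      rw [hncomm 1 (by norm_num)] at h3
      exact h3.unique o ((acts_quat_one (o := o)).mul o hS')
  have hz := sup_of_pm hS' hpm hnc
  rw [← hn] at hz
  have hk2 : (kc : GL Ix F) = 1 ∨ (kc : GL Ix F) = cn cent := by
    have hB' : bmat (mat (kc : GL Ix F)) = 1 := congrArg (fun x : GL (Fin 3) F => mat x) hkb
    obtain ⟨d, hd | hd⟩ := sup_cases hz
    · left
      change mat (kc : GL Ix F) = _ at hd
      rw [hd] at hB'
      have := congrFun (congrFun hB' 0) 0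
      simp [bmat, Matrix.one_apply, Prod.ext_iff] at this
      exact Units.ext (by simp [hd, this])
    · right
      change mat (kc : GL Ix F) = _ at hd
      rw [hd, cn_val] at hB'
      have := congrFun (congrFun hB' 0) 0
      simp only [bmat, Matrix.of_apply, Matrix.smul_apply, kroneckerMap_apply, smul_eq_mul, ← mul_sub, ← sub_mul,
        cent_lam, one_mul, Matrix.one_apply_eq, mul_one] at this
      exact Units.ext (by rw [hd, this, one_smul])
  have hk1 : (kc : GL Ix F) = 1 := by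
    refine hk2.resolve_right fun e => ?_
    have hC3 : (Cc : GL Ix F) ^ 3 = 1 := cube_R₀ o (_root_.CfsgLib.SympThree.bl_mem o (clock_mem o))
    have hcomm : Commute (cn (cent : GL (Fin 3) F)) (Cc : GL Ix F) := cn_bl_comm cent (clock o)
    have e' : (Cc : GL Ix F) * (g : GL Ix F) * (Cc : GL Ix F)⁻¹ = cn cent * (g : GL Ix F) := by
      rw [← e]; simp [kc]
    have hit : ∀ i : ℕ, (Cc : GL Ix F) ^ i * (g : GL Ix F) * ((Cc : GL Ix F) ^ i)⁻¹ = cn cent ^ i * (g : GL Ix F) := by
      intro i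
      induction i with
      | zero => simp
      | succ i ih =>
        calc (Cc : GL Ix F) ^ (i + 1) * (g : GL Ix F) * ((Cc : GL Ix F) ^ (i + 1))⁻¹
            = (Cc : GL Ix F) * ((Cc : GL Ix F) ^ i * (g : GL Ix F) * ((Cc : GL Ix F) ^ i)⁻¹) * (Cc : GL Ix F)⁻¹ := by
              rw [pow_succ']; group
          _ = cn cent ^ i * ((Cc : GL Ix F) * (g : GL Ix F) * (Cc : GL Ix F)⁻¹) := by
              rw [ih, ← mul_assoc, ((hcomm.pow_left i).symm).eq]; group
          _ = _ := by rw [e', ← mul_assoc, ← pow_succ]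
    have h3 := hit 3
    rw [hC3, one_mul, inv_one, mul_one] at h3
    have h4 := mul_eq_right.1 h3.symm
    rw [pow_succ, pow_two, ← map_mul, cent_mul_self, map_one, one_mul] at h4
    have h1 := congrArg (fun x : GL (Fin 3) F => mat x 0 0) (cn_injective (h4.trans (map_one cn).symm))
    simp [cent] at h1
    exact h2 (by linear_combination -h1)
  have hgC : (g : GL Ix F) * bl (clock o) = bl (clock o) * (g : GL Ix F) :=
    (mul_inv_eq_iff_eq_mul.1 (mul_inv_eq_one.1 hk1)).symm
  have hfin := bh_mem_normalizer o (g := ⟨(g : GL Ix F), g.2.2⟩) (hC _ g.2.1 hgC)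
  change bH g ∈ _ at hfin
  rw [hgd] at hfin
  exact flipTwo_not_mem o h2 hfin

end CfsgLib.SympThree
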