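import Cfsg.Agent.SympThree.Model
import Cfsg.Agent.Aschbacher.Basic

/-!
# Ambient groups and overgroups

`Amb` abstracts what is used about `GL` or `GU` in degrees three and nine, so that one argument serves the
linear and the unitary case.
-/

set_option autoImplicit false
set_option linter.unusedSectionVars false

namespace CfsgLib.SympThree

open Matrix Cfsg.Geo CfsgLib.SLThree.Hessian
open scoped Kronecker

local notation:max "mat" => Units.val

variable {F : Type*} [Field F]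

theorem mem_sl {κ : Type} [Fintype κ] [DecidableEq κ] {g : GL κ F} :
    g ∈ specialLinear κ F ↔ (mat g).det = 1 :=
  CfsgLib.Aschbacher.mem_specialLinear_iff

theorem det_bd (f : Fin 3 → GL (Fin 3) F) : (mat (bd f)).det = ∏ i, (mat (f i)).det := by
  rw [bd_val, det_blockDiagonal]

theorem det_bl (y : GL (Fin 3) F) : (mat (bl y)).det = (mat y).det ^ 3 := by
  rw [bl_val, det_kronecker, det_one, one_pow, one_mul, Fintype.card_fin]

theorem det_cn (x : GL (Fin 3) F) : (mat (cn x)).det = (mat x).det ^ 3 := by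
  rw [cn_val, det_kronecker, det_one, one_pow, mul_one, Fintype.card_fin]

theorem det_sw : (mat (sw : GL Ix F)).det = 1 := by
  have e : mat (sw : GL Ix F) = -(Equiv.Perm.permMatrix F (Equiv.prodComm (Fin 3) (Fin 3) : Equiv.Perm Ix)) := by
    show -(Matrix.of fun p q : Ix => if p = q.swap then (1 : F) else 0) = _
    congr 1
    ext ⟨a, i⟩ ⟨b, k⟩
    simp [PEquiv.toMatrix, Equiv.toPEquiv, Prod.ext_iff, and_comm, eq_comm]
  rw [e, det_neg, det_permutation,
    show Equiv.Perm.sign (Equiv.prodComm (Fin 3) (Fin 3) : Equiv.Perm Ix) = -1 by decide]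
  norm_num

variable (o : Omega F)

/-- `diag (-1, -1, 1)`. -/
def flipTwo : GL (Fin 3) F where
  val := !![-1, 0, 0; 0, -1, 0; 0, 0, 1]
  inv := !![-1, 0, 0; 0, -1, 0; 0, 0, 1]
  val_inv := by ext i j; fin_cases i <;> fin_cases j <;> simp [Matrix.mul_apply, Fin.sum_univ_three]
  inv_val := by ext i j; fin_cases i <;> fin_cases j <;> simp [Matrix.mul_apply, Fin.sum_univ_three]

/-- The matrix of the action on the fixed space of the central involution. -/
def bmat (g : Matrix Ix Ix F) : Matrix (Fin 3) (Fin 3) F :=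
  Matrix.of fun i k => g (1, i) (1, k) - g (1, i) (2, k)

/-- The ambient groups. -/
structure Amb where
  /-- degree three -/
  U : Subgroup (GL (Fin 3) F)
  /-- degree nine -/
  W : Subgroup (GL Ix F)
  bd_mem : ∀ f : Fin 3 → GL (Fin 3) F, bd f ∈ W ↔ ∀ i, f i ∈ U
  bl_mem : ∀ n ∈ U, bl n ∈ W
  sw_mem : (sw : GL Ix F) ∈ W
  clock_mem : clock o ∈ U
  shift_mem : shift F ∈ U
  four_mem : four o ∈ U
  tw_mem : tw o ∈ U
  bmap : ∀ g ∈ W, g * cn cent = cn cent * g → ∀ u : GL (Fin 3) F, mat u = bmat (mat g) → u ∈ U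

/-- What is used about the ambient groups when they are far from soluble. -/
structure Rich {o : Omega F} (A : Amb o) : Prop where
  normalized : ∀ K : Subgroup (GL (Fin 3) F),
    (∀ h ∈ A.U ⊓ specialLinear (Fin 3) F, ∀ k ∈ K, k ∈ A.U ⊓ specialLinear (Fin 3) F → h * k * h⁻¹ ∈ K) →
    ∀ r ∈ K, r ∈ A.U ⊓ specialLinear (Fin 3) F → r ∉ scalars (Fin 3) F → A.U ⊓ specialLinear (Fin 3) F ≤ K
  base : ∀ B : Subgroup (GL (Fin 3) F), B ≤ A.U → clock o ∈ B → shift F ∈ B → four o ∈ B → tw o ∈ B →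
    B ≤ subgroupNormalizer (heis o) ∨ A.U ⊓ specialLinear (Fin 3) F ≤ B
  flip_mem : flipTwo ∈ A.U
  pElem : ∃ p : ℕ, p.Prime ∧ 5 ≤ p ∧ ∃ t ∈ A.U ⊓ specialLinear (Fin 3) F, t ^ p = 1 ∧ t ∉ scalars (Fin 3) F
  two_ne : (2 : F) ≠ 0
  top : ∀ M : Subgroup (GL Ix F), R₀ o ≤ M → (sw : GL Ix F) ∈ M →
    (∀ a ∈ A.U ⊓ specialLinear (Fin 3) F, bd (Pi.mulSingle 2 a) ∈ M) → A.W ⊓ specialLinear Ix F ≤ M

variable {o} (A : Amb o)

/-- The ambient group in degree nine. -/
abbrev Amb.G : Subgroup (GL Ix F) := A.W ⊓ specialLinear Ix F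

theorem Amb.words_le : words o ≤ A.U := by
  rw [words, Subgroup.closure_le]
  rintro _ (rfl | rfl)
  exacts [A.four_mem, A.tw_mem]

theorem Amb.heis_le : heis o ≤ A.U := by
  rw [heis, Subgroup.closure_le]
  rintro _ (rfl | rfl)
  exacts [A.clock_mem, A.shift_mem]

theorem Amb.quat_mem (k : ℕ) : quat o k ∈ A.U :=
  A.U.mul_mem (A.U.mul_mem (A.U.pow_mem A.tw_mem k) A.four_mem) (A.U.inv_mem (A.U.pow_mem A.tw_mem k))

theorem det_heis {x : GL (Fin 3) F} (hx : x ∈ heis o) : (mat x).det = 1 :=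
  mem_sl.1 (by
    refine (Subgroup.closure_le (K := specialLinear (Fin 3) F)).2 ?_ hx
    rintro _ (rfl | rfl)
    exacts [mem_sl.2 (det_clock o), mem_sl.2 det_shift])

theorem det_words {n : GL (Fin 3) F} (hn : n ∈ words o) : (mat n).det ^ 3 = 1 := by
  induction hn using Subgroup.closure_induction with
  | mem y hy =>
    rcases hy with rfl | rfl
    · rw [det_four, one_pow]
    · show (!![1, 0, 0; 0, o.w, 0; 0, 0, o.w] : Matrix (Fin 3) (Fin 3) F).det ^ 3 = 1
      rw [det_fin_three]; simp [mul_pow, o.cube]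
  | one => simp
  | mul a b _ _ ha hb => rw [Units.val_mul, det_mul, mul_pow, ha, hb, one_mul]
  | inv a _ ha =>
    have h := congrArg (fun X : Matrix (Fin 3) (Fin 3) F => X.det ^ 3) (Units.inv_mul a)
    simpa [det_mul, mul_pow, ha] using h

theorem words_le_normalizer [Finite F] : words o ≤ subgroupNormalizer (heis o) := by
  rw [words, Subgroup.closure_le]
  rintro _ (rfl | rfl)
  exacts [(acts_four o).mem_normalizer o, (acts_tw o).mem_normalizer o]

/-- An overgroup of the normaliser. -/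
structure Over (M : Subgroup (GL Ix F)) : Prop where
  le : M ≤ A.G
  ge : subgroupNormalizer (R₀ o) ⊓ A.G ≤ M

variable {A} {M : Subgroup (GL Ix F)} [Finite F]

theorem Over.cn_mem (O : Over A M) {n : GL (Fin 3) F} (hU : n ∈ A.U) (hN : n ∈ subgroupNormalizer (heis o))
    (hd : (mat n).det ^ 3 = 1) : cn n ∈ M :=
  O.ge ⟨cn_mem_normalizer o hN, (A.bd_mem _).2 fun _ => hU, mem_sl.2 (by rw [det_cn, hd])⟩

theorem Over.bl_mem (O : Over A M) {n : GL (Fin 3) F} (hU : n ∈ A.U) (hN : n ∈ subgroupNormalizer (heis o))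
    (hd : (mat n).det ^ 3 = 1) : bl n ∈ M :=
  O.ge ⟨bl_mem_normalizer o hN, A.bl_mem n hU, mem_sl.2 (by rw [det_bl, hd])⟩

theorem Over.cn_word (O : Over A M) {n : GL (Fin 3) F} (hn : n ∈ words o) : cn n ∈ M :=
  O.cn_mem (A.words_le hn) (words_le_normalizer hn) (det_words hn)

theorem Over.bl_word (O : Over A M) {n : GL (Fin 3) F} (hn : n ∈ words o) : bl n ∈ M :=
  O.bl_mem (A.words_le hn) (words_le_normalizer hn) (det_words hn)

theorem Over.cn_heis (O : Over A M) {x : GL (Fin 3) F} (hx : x ∈ heis o) : cn x ∈ M :=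
  O.cn_mem (A.heis_le hx) (heis_le_normalizer o hx) (by rw [det_heis hx, one_pow])

theorem Over.bl_heis (O : Over A M) {x : GL (Fin 3) F} (hx : x ∈ heis o) : bl x ∈ M :=
  O.bl_mem (A.heis_le hx) (heis_le_normalizer o hx) (by rw [det_heis hx, one_pow])

theorem Over.R₀_le (O : Over A M) : R₀ o ≤ M := fun g hg => by
  obtain ⟨a, ha, b, hb, rfl⟩ := (mem_R₀ o).1 hg
  exact M.mul_mem (O.cn_heis ha) (O.bl_heis hb)

theorem Over.sw_mem (O : Over A M) : (sw : GL Ix F) ∈ M :=
  O.ge ⟨sw_mem_normalizer o, A.sw_mem, mem_sl.2 det_sw⟩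

theorem Over.gt_mem (O : Over A M) {x : GL (Fin 3) F} (hx : x ∈ heis o) : gt x ∈ M :=
  O.ge ⟨gt_mem_normalizer o hx, (A.bd_mem _).2 fun i => A.U.pow_mem (A.heis_le hx) _, mem_sl.2 (by
    rw [gt, det_bd]
    exact Finset.prod_eq_one fun i _ => by rw [Units.val_pow_eq_pow_val, det_pow, det_heis hx, one_pow])⟩

theorem Over.zb_mem (O : Over A M) : zb o ∈ M :=
  O.ge ⟨zb_mem_normalizer o, (A.bd_mem _).2 fun i => by
      split_ifs
      exacts [A.heis_le (sc_mem o), A.U.one_mem],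
    mem_sl.2 (by
      rw [zb, det_bd]
      exact Finset.prod_eq_one fun i _ => by
        split_ifs
        exacts [det_heis (sc_mem o), by simp])⟩

theorem Over.mem_U (O : Over A M) {f : Fin 3 → GL (Fin 3) F} (h : bd f ∈ M) (i : Fin 3) : f i ∈ A.U :=
  (A.bd_mem f).1 (O.le h).1 i

end CfsgLib.SympThree
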