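import Cfsg.Agent.SympThree.Points
import Cfsg.Agent.SympThree.Over

/-!
# Involutions of the normaliser

An involution of the normaliser of determinant one is trivial, a conjugate of `cn cent`, or inverts all points;
in the last case it is a conjugate of `cn cent * bl cent` under the extraspecial group.
-/

set_option autoImplicit false
set_option linter.unusedSectionVars false

namespace CfsgLib.SympThree

open Matrix Cfsg.Geo CfsgLib.SLThree.Hessian
open scoped Kronecker

local notation:max "mat" => Units.val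

variable {F : Type*} [Field F] [Finite F] {o : Omega F} {A : Amb o} {M : Subgroup (GL Ix F)}

/-- All points inverted. -/
def Inv4 (o : Omega F) (g : GL Ix F) : Prop := ∀ v, Sends4 o g v (-v)

/-- The second type of involution. -/
def tt : GL Ix F := cn cent * bl cent

/-- The available normalising elements. -/
def nM (o : Omega F) (M : Subgroup (GL Ix F)) : Subgroup (GL Ix F) := subgroupNormalizer (R₀ o) ⊓ M

theorem tt_mul_self : (tt : GL Ix F) * tt = 1 := by
  rw [tt, (cn_bl_comm cent cent).symm.mul_mul_mul_comm, ← map_mul, ← map_mul, cent_mul_self, map_one, map_one,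
    one_mul]

theorem inv4_tt : Inv4 o (tt : GL Ix F) := fun v => by
  have h := (sends4_cn o (acts_cent o) (v.1, ap neg2 v.2)).comp o (sends4_bl o (acts_cent o) v)
  rwa [show ((ap neg2 v.1, ap neg2 v.2) : Pnt4) = -v from
    Prod.ext ((show ∀ u : Pnt, ap neg2 u = -u by decide) _) ((show ∀ u : Pnt, ap neg2 u = -u by decide) _)] at h

/-- A central multiple with trivial cube. -/
theorem eq_of_commutes {g x : GL Ix F} (hg : g * g = 1) (hx : x ^ 3 = 1)
    (h : p9 g * p9 x * (p9 g)⁻¹ = p9 x) : g * x = x * g := by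
  rw [← map_mul, ← map_inv, ← map_mul] at h
  obtain ⟨c, hc⟩ := p9_eq.1 h
  have hgi : g⁻¹ = g := inv_eq_of_mul_eq_one_right hg
  have e2 : mat (g * (g * x * g⁻¹) * g⁻¹) = (c * c) • mat x := by
    rw [Units.val_mul, Units.val_mul, hc, mul_smul_comm, smul_mul_assoc, ← Units.val_mul, ← Units.val_mul, hc,
      smul_smul]
  rw [show g * (g * x * g⁻¹) * g⁻¹ = x by rw [hgi, show g * (g * x * g) * g = (g * g) * x * (g * g) by group, hg, one_mul, mul_one]] at e2
  have hne : mat x ≠ 0 := Units.ne_zero _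
  have hc2 : c * c = 1 := (smul_left_injective F hne (by simpa using e2)).symm
  have e3 : (1 : Matrix Ix Ix F) = c ^ 3 • 1 := by
    have h' : mat ((g * x * g⁻¹) ^ 3) = c ^ 3 • mat (x ^ 3) := by
      rw [Units.val_pow_eq_pow_val, hc, smul_pow, Units.val_pow_eq_pow_val]
    rwa [conj_pow, hx, mul_one, mul_inv_cancel, Units.val_one] at h'
  have hc3 : c ^ 3 = 1 := by
    have := congrFun (congrFun e3 (0, 0)) (0, 0)
    simpa using this.symm
  have hc1 : c = 1 := by
    have e4 : c ^ 3 = c * (c * c) := by ring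
    rw [hc3, hc2, mul_one] at e4
    exact e4.symm
  rw [hc1, one_smul] at hc
  exact mul_inv_eq_iff_eq_mul.1 (Units.ext hc)

/-- An element of determinant one with trivial ninth power of its scalar. -/
theorem scalar_eq_one {c : F} {n : ℕ} (h9 : c ^ 9 = 1) (h2n : c ^ (2 ^ n) = 1) : c = 1 := by
  have h : c ^ Nat.gcd 9 (2 ^ n) = 1 := pow_gcd_eq_one.2 ⟨h9, h2n⟩
  rwa [show Nat.gcd 9 (2 ^ n) = 1 from Nat.Coprime.pow_right n (by norm_num), pow_one] at h

theorem det_smul9 {g h : GL Ix F} {c : F} (e : mat g = c • mat h) (hg : (mat g).det = 1) (hh : (mat h).det = 1) :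
    c ^ 9 = 1 := by
  rw [e, det_smul, hh, mul_one] at hg
  simpa using hg

theorem det_R₀ {x : GL Ix F} (hx : x ∈ R₀ o) : (mat x).det = 1 := by
  obtain ⟨a, ha, b, hb, rfl⟩ := (mem_R₀ o).1 hx
  rw [Units.val_mul, det_mul, det_cn, det_bl, det_heis ha, det_heis hb, one_pow, one_mul]

theorem det_tt : (mat (tt : GL Ix F)).det = 1 := by
  have h : (mat (cent : GL (Fin 3) F)).det = 1 := by
    show (!![-1, 0, 0; 0, 0, -1; 0, -1, 0] : Matrix (Fin 3) (Fin 3) F).det = 1
    rw [det_fin_three]; simp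
  rw [tt, Units.val_mul, det_mul, det_cn, det_bl, h, one_pow, one_mul]

/-- An element fixing all four basic points exactly commutes is a scalar. -/
theorem scalar_of_commutes {g : GL Ix F} (h1 : g * cn (clock o) = cn (clock o) * g)
    (h2 : g * cn (shift F) = cn (shift F) * g) (h3 : g * bl (clock o) = bl (clock o) * g)
    (h4 : g * bl (shift F) = bl (shift F) * g) : ∃ c : F, mat g = c • 1 := by
  obtain ⟨f, rfl⟩ := exists_bd o h3
  have hs := shift_conj_bd (F := F) f
  rw [← h4, mul_inv_cancel_right] at hs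
  have hf := bd_injective hs
  have h0 : ∀ i, f i = f 0 := by
    intro i
    have e := fun i => congrFun hf i
    have e1 : f 1 = f 0 := by simpa [show (1 - 1 : Fin 3) = 0 from rfl] using e 1
    have e2 : f 2 = f 1 := by simpa [show (2 - 1 : Fin 3) = 1 from rfl] using e 2
    fin_cases i
    exacts [rfl, e1, e2.trans e1]
  have hcomm : ∀ x, bd f * cn x = cn x * bd f → f 0 * x = x * f 0 := fun x h => by
    rw [cn, MonoidHom.comp_apply, ← map_mul, ← map_mul] at h
    exact congrFun (bd_injective h) 0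
  have hA : Acts o (f 0) id2 := by
    constructor <;> show pr _ * pr _ * (pr _)⁻¹ = pr _
    · rw [← map_mul, ← map_inv, ← map_mul, show (id2.1 : Pnt) = (1, 0) from rfl, mono_fst, hcomm _ h1,
        mul_inv_cancel_right]
    · rw [← map_mul, ← map_inv, ← map_mul, show (id2.2 : Pnt) = (0, 1) from rfl, mono_snd, hcomm _ h2,
        mul_inv_cancel_right]
  obtain ⟨v, hv⟩ := exists_mono_of_acts_one o hA
  obtain ⟨c, hc⟩ := pr_eq.1 hv
  have hc0 : c ≠ 0 := fun e => (f 0).ne_zero (by rw [hc, e, zero_smul])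
  have hv0 : v = 0 := by
    have key : ∀ u, f 0 * mono o u = mono o u * f 0 → dt v u = 0 := by
      intro u hu
      have e := congrArg (fun x : GL (Fin 3) F => mat x) hu
      simp only [Units.val_mul, hc, smul_mul_assoc, mul_smul_comm] at e
      have e' := smul_right_injective _ hc0 e
      rw [mono_swap] at e'
      have hne : mat (mono o u) * mat (mono o v) ≠ 0 := by rw [← Units.val_mul]; exact Units.ne_zero _
      have h5 := smul_left_injective F hne (show o.w ^ (dt v u).val • (mat (mono o u) * mat (mono o v)) =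
        (1 : F) • (mat (mono o u) * mat (mono o v)) by rw [one_smul]; exact e')
      exact (show ∀ x : ZMod 3, x.val % 3 = 0 % 3 → x = 0 by decide) _ (o.pow_inj (h5.trans (pow_zero _).symm))
    have a := key (1, 0) (by rw [mono_fst]; exact hcomm _ h1)
    have b := key (0, 1) (by rw [mono_snd]; exact hcomm _ h2)
    exact (show ∀ v : Pnt, dt v (1, 0) = 0 → dt v (0, 1) = 0 → v = 0 by decide) v a b
  refine ⟨c, ?_⟩
  rw [hv0, mono_zero, Units.val_one] at hc
  rw [bd_val]
  ext ⟨a, i⟩ ⟨b, k⟩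
  rw [blockDiagonal_apply, h0 i, hc]
  clear * -
  simp only [Matrix.smul_apply, smul_eq_mul, Matrix.one_apply, Prod.mk.injEq]
  split_ifs <;> simp_all

/-- An element fixing all points is a point up to scalars. -/
theorem exists_point_of_fix {g : GL Ix F} (h : ∀ v, Sends4 o g v v) : ∃ u, p9 g = p9 (e4 o u) := by
  have hex : ∀ v, ∃ k : ZMod 3, mat (g * e4 o v * g⁻¹) = o.w ^ k.val • mat (e4 o v) := by
    intro v
    obtain ⟨c, hc⟩ := p9_eq.1 (show p9 (g * e4 o v * g⁻¹) = p9 (e4 o v) by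
      rw [map_mul, map_mul, map_inv]; exact h v)
    have e3 : (1 : Matrix Ix Ix F) = c ^ 3 • 1 := by
      have h' : mat ((g * e4 o v * g⁻¹) ^ 3) = c ^ 3 • mat (e4 o v ^ 3) := by
        rw [Units.val_pow_eq_pow_val, hc, smul_pow, Units.val_pow_eq_pow_val]
      rwa [conj_pow, cube_R₀ o (e4_mem o v), mul_one, mul_inv_cancel, Units.val_one] at h'
    have hc3 : c ^ 3 = 1 := by simpa using (congrFun (congrFun e3 (0, 0)) (0, 0)).symm
    obtain ⟨i, hi⟩ : ∃ i : Fin 3, c = o.w ^ (i : ℕ) := by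
      rcases mul_eq_zero.1 (show (c - 1) * (c - o.w) * (c - o.w ^ 2) = 0 by
        linear_combination hc3 - c * (c - o.w) * o.sum - o.cube) with h' | h'
      · rcases mul_eq_zero.1 h' with h' | h'
        · exact ⟨0, by simpa using sub_eq_zero.1 h'⟩
        · exact ⟨1, by simpa using sub_eq_zero.1 h'⟩
      · exact ⟨2, sub_eq_zero.1 h'⟩
    exact ⟨i, by rw [hc, hi]; rfl⟩
  obtain ⟨a, ha⟩ := hex ((1, 0), 0)
  obtain ⟨b, hb⟩ := hex ((0, 1), 0)
  obtain ⟨c, hc⟩ := hex (0, (1, 0))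
  obtain ⟨d, hd⟩ := hex (0, (0, 1))
  set u : Pnt4 := ((b, -a), (d, -c))
  refine ⟨u, ?_⟩
  have key : ∀ (w : Pnt4) (k : ZMod 3), dt4 u w = k → mat (g * e4 o w * g⁻¹) = o.w ^ k.val • mat (e4 o w) →
      ((e4 o u)⁻¹ * g) * e4 o w = e4 o w * ((e4 o u)⁻¹ * g) := by
    intro w k hk hw
    have h1 : mat (e4 o u * e4 o w * (e4 o u)⁻¹) = o.w ^ k.val • mat (e4 o w) := by
      rw [Units.val_mul, Units.val_mul, e4_swap, hk, smul_mul_assoc, Units.mul_inv_cancel_right]
    have h2 : g * e4 o w * g⁻¹ = e4 o u * e4 o w * (e4 o u)⁻¹ := Units.ext (hw.trans h1.symm)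
    calc (e4 o u)⁻¹ * g * e4 o w = (e4 o u)⁻¹ * (g * e4 o w * g⁻¹) * g := by group
      _ = e4 o w * ((e4 o u)⁻¹ * g) := by rw [h2]; group
  have hu1 : dt4 u ((1, 0), 0) = a := by simp [u, dt4, dt]
  have hu2 : dt4 u ((0, 1), 0) = b := by simp [u, dt4, dt]
  have hu3 : dt4 u (0, (1, 0)) = c := by simp [u, dt4, dt]
  have hu4 : dt4 u (0, (0, 1)) = d := by simp [u, dt4, dt]
  have k1 := key _ _ hu1 ha
  have k2 := key _ _ hu2 hb
  have k3 := key _ _ hu3 hc
  have k4 := key _ _ hu4 hd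
  rw [e4_fst, mono_fst] at k1
  rw [e4_fst, mono_snd] at k2
  rw [e4_snd, mono_fst] at k3
  rw [e4_snd, mono_snd] at k4
  obtain ⟨s, hs⟩ := scalar_of_commutes k1 k2 k3 k4
  have e := p9_eq_one.2 ⟨s, hs⟩
  rw [map_mul, map_inv] at e
  exact (inv_mul_eq_one.1 e).symm

/-- **An involution inverting all points.** -/
theorem conj_tt_of_inv {y : GL Ix F} (hy2 : y * y = 1) (hdet : (mat y).det = 1) (hy : Inv4 o y) :
    ∃ q ∈ R₀ o, y = q * tt * q⁻¹ := by
  have hfix : ∀ v, Sends4 o (y * tt) v v := fun v => by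
    have := (hy (-v)).comp o (inv4_tt v)
    rwa [neg_neg] at this
  obtain ⟨u, hu⟩ := exists_point_of_fix hfix
  set q := e4 o (u + u)
  refine ⟨q, e4_mem o _, ?_⟩
  have hp : p9 y = p9 (q * tt * q⁻¹) := by
    have e1 : p9 (tt : GL Ix F) * (p9 q)⁻¹ * (p9 (tt : GL Ix F))⁻¹ = p9 q := by
      have := inv4_tt (o := o) (u + u)
      rw [Sends4] at this
      have hneg : p9 (e4 o (-(u + u))) = (p9 q)⁻¹ := eq_inv_of_mul_eq_one_left (by
        rw [← p9_e4_add, neg_add_cancel, e4_zero, map_one])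
      rw [hneg] at this
      calc p9 (tt : GL Ix F) * (p9 q)⁻¹ * (p9 (tt : GL Ix F))⁻¹
          = (p9 (tt : GL Ix F) * p9 q * (p9 (tt : GL Ix F))⁻¹)⁻¹ := by group
        _ = p9 q := by rw [this, inv_inv]
    have e2 : p9 q * p9 q = p9 (e4 o u) := by
      rw [← p9_e4_add, (show ∀ u : Pnt4, u + u + (u + u) = u by decide) u]
    rw [map_mul] at hu
    calc p9 y = p9 (e4 o u) * (p9 (tt : GL Ix F))⁻¹ := eq_mul_inv_of_mul_eq hu
      _ = p9 q * p9 q * p9 (tt : GL Ix F) := by
        rw [e2, ← map_inv, inv_eq_of_mul_eq_one_right tt_mul_self]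
      _ = p9 q * (p9 (tt : GL Ix F) * (p9 q)⁻¹ * (p9 (tt : GL Ix F))⁻¹) * p9 (tt : GL Ix F) := by rw [e1]
      _ = p9 (q * tt * q⁻¹) := by rw [map_mul, map_mul, map_inv]; group
  obtain ⟨d, hd⟩ := p9_eq.1 hp
  have hcd : (mat (q * tt * q⁻¹)).det = 1 := by rw [Units.val_mul, Units.val_mul, det_units_conj, det_tt]
  have hd2 : d ^ (2 ^ 1) = 1 := by
    have e : mat (y * y) = (d * d) • mat ((q * tt * q⁻¹) * (q * tt * q⁻¹)) := by
      rw [Units.val_mul y, Units.val_mul (q * tt * q⁻¹), hd, smul_mul_assoc, mul_smul_comm, smul_smul]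
    rw [hy2, show q * tt * q⁻¹ * (q * tt * q⁻¹) = 1 by
      rw [show q * tt * q⁻¹ * (q * tt * q⁻¹) = q * (tt * tt) * q⁻¹ by group, tt_mul_self]; group] at e
    have := congrFun (congrFun e (0, 0)) (0, 0)
    simp at this
    rw [pow_one, pow_two]; exact this.symm
  rw [scalar_eq_one (det_smul9 hd hdet hcd) hd2, one_smul] at hd
  exact Units.ext hd

theorem Over.e4_mem_nM (O : Over A M) (v : Pnt4) : e4 o v ∈ nM o M :=
  ⟨Subgroup.le_normalizer (e4_mem o v), O.R₀_le (e4_mem o v)⟩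

theorem Over.cn_mem_nM (O : Over A M) {n : GL (Fin 3) F} (hn : n ∈ words o) : cn n ∈ nM o M :=
  ⟨cn_mem_normalizer o (words_le_normalizer hn), O.cn_word hn⟩

theorem Over.bl_mem_nM (O : Over A M) {n : GL (Fin 3) F} (hn : n ∈ words o) : bl n ∈ nM o M :=
  ⟨bl_mem_normalizer o (words_le_normalizer hn), O.bl_word hn⟩

theorem Over.gt_mem_nM (O : Over A M) {x : GL (Fin 3) F} (hx : x ∈ heis o) : gt x ∈ nM o M :=
  ⟨gt_mem_normalizer o hx, O.gt_mem hx⟩

/-- Transitivity on the non-zero points. -/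
theorem Over.exists_to_clock (O : Over A M) {v : Pnt4} (hv : v ≠ 0) :
    ∃ n ∈ nM o M, Sends4 o n v (0, (1, 0)) := by
  have h1 : ∀ u : Pnt, ∃ n ∈ words o, ∃ S, Acts o n S ∧ (u ≠ 0 → ap S u = (1, 0)) := fun u => by
    by_cases hu : u = 0
    · exact ⟨1, (words o).one_mem, id2, acts_one o, fun h => absurd hu h⟩
    · obtain ⟨n, hn, hs⟩ := exists_word_sends o hu
      obtain ⟨S, hS⟩ := exists_acts o (words_le_normalizer hn)
      exact ⟨n, hn, S, hS, fun _ => (hS.sends o u).unique o hs⟩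
  obtain ⟨n, hn, S, hS, hSv⟩ := h1 v.1
  obtain ⟨m, hm, T, hT, hTv⟩ := h1 v.2
  have hboth : Sends4 o (cn n * bl m) v (ap S v.1, ap T v.2) :=
    (sends4_cn o hS (v.1, ap T v.2)).comp o (sends4_bl o hT v)
  have hmem : cn n * bl m ∈ nM o M := Subgroup.mul_mem _ (O.cn_mem_nM hn) (O.bl_mem_nM hm)
  by_cases h1' : v.1 = 0
  · have h2' : v.2 ≠ 0 := fun h => hv (Prod.ext h1' h)
    rw [hTv h2', h1', show ap S 0 = 0 by simp [ap]] at hboth
    exact ⟨_, hmem, hboth⟩
  rw [hSv h1'] at hboth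
  have hsw : (sw : GL Ix F) ∈ nM o M := ⟨sw_mem_normalizer o, O.sw_mem⟩
  by_cases h2' : v.2 = 0
  · rw [h2', show ap T 0 = 0 by simp [ap]] at hboth
    exact ⟨_, Subgroup.mul_mem _ hsw hmem, (sends4_sw o (((1, 0), 0) : Pnt4)).comp o hboth⟩
  rw [hTv h2'] at hboth
  have hg : Sends4 o (gt (mono o (0, 1))) (((1, 0), (1, 0)) : Pnt4) ((1, 0), 0) := by
    have := (sends4_gt_cn o (0, 1) (1, 0)).add o (sends4_gt_clock o (0, 1))
    convert this using 1
    all_goals decide
  exact ⟨_, Subgroup.mul_mem _ hsw (Subgroup.mul_mem _ (O.gt_mem_nM (mono_mem o _)) hmem),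
    (sends4_sw o (((1, 0), 0) : Pnt4)).comp o (hg.comp o hboth)⟩

/-- Transitivity on non-orthogonal pairs, up to the choice of the second point. -/
theorem Over.exists_to_pair (O : Over A M) {a b : Pnt4} (h : dt4 a b ≠ 0) :
    ∃ n ∈ nM o M, ∃ l : ZMod 3, Sends4 o n a (0, (1, 0)) ∧ Sends4 o n (l • b) (0, (0, 1)) := by
  have ha : a ≠ 0 := by rintro rfl; exact h (by simp [dt4, dt])
  obtain ⟨n, hn, hna⟩ := O.exists_to_clock ha
  obtain ⟨b', hb'⟩ := exists_sends4 o hn.1 b
  obtain ⟨⟨x, y⟩, ⟨k, l⟩⟩ := b'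
  have hl : l ≠ 0 := by
    intro hl0
    refine h ?_
    rw [← hna.dt_eq o hb', hl0]
    simp [dt4, dt]
  have hll : l * l = 1 := (show ∀ l : ZMod 3, l ≠ 0 → l * l = 1 by decide) l hl
  have hb'' := hb'.smul o l
  simp only [Prod.smul_mk, smul_eq_mul, hll] at hb''
  -- undo
  set S : Mat2 := ((1, 0), (l * k, 1))
  obtain ⟨w, hw, hwS⟩ := exists_word o (S := S) (by simp [S, dt])
  set N' := gt (mono o (l * x, l * y)) * bl w
  have hC : Sends4 o N' (0, (1, 0)) (0, (1, 0)) := by
    have h1 := sends4_bl o hwS (0, (1, 0))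
    rw [show ap S ((1, 0) : Pnt) = (1, 0) by simp [S, ap]] at h1
    exact (sends4_gt_clock o _).comp o h1
  have hP : Sends4 o N' (0, (0, 1)) ((l * x, l * y), (l * k, 1)) := by
    have h1 := sends4_bl o hwS (0, (0, 1))
    rw [show ap S ((0, 1) : Pnt) = (l * k, 1) by simp [S, ap]] at h1
    have h2 : Sends4 o (gt (mono o (l * x, l * y))) (0, (l * k, 1)) ((l * x, l * y), (l * k, 1)) := by
      have := ((sends4_gt_clock o (l * x, l * y)).smul o (l * k)).add o (sends4_gt_shift o (l * x, l * y))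
      simpa using this
    exact h2.comp o h1
  have hN' : N' ∈ nM o M := Subgroup.mul_mem _ (O.gt_mem_nM (mono_mem o _)) (O.bl_mem_nM hw)
  exact ⟨N'⁻¹ * n, Subgroup.mul_mem _ (Subgroup.inv_mem _ hN') hn, l, (hC.inv o).comp o hna, (hP.inv o).comp o hb''⟩

/-- **Involutions of the normaliser.** -/
theorem Over.involution (O : Over A M) {y : GL Ix F} (hy : y ∈ nM o M) (hy2 : y * y = 1) (hy1 : y ≠ 1) :
    (∃ n ∈ nM o M, y = n * cn cent * n⁻¹) ∨ Inv4 o y := by
  by_cases hinv : Inv4 o y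
  · exact Or.inr hinv
  refine Or.inl ?_
  simp only [Inv4, not_forall] at hinv
  obtain ⟨v, hv⟩ := hinv
  obtain ⟨u, hu⟩ := exists_sends4 o hy.1 v
  have hback : ∀ {p r : Pnt4}, Sends4 o y p r → Sends4 o y r p := fun {p r} h => by
    have := h.inv o
    rwa [inv_eq_of_mul_eq_one_right hy2] at this
  set a := v + u
  have haf : Sends4 o y a a := by
    have := hu.add o (hback hu)
    rwa [add_comm u v] at this
  have ha0 : a ≠ 0 := fun e => hv (by rwa [← eq_neg_of_add_eq_zero_right e])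
  obtain ⟨z, hz⟩ : ∃ z, dt4 a z ≠ 0 := by
    rcases exists_dt4_ne a ha0 with h | h | h | h <;> exact ⟨_, h⟩
  obtain ⟨z', hz'⟩ := exists_sends4 o hy.1 z
  set b := z + z'
  have hbf : Sends4 o y b b := by
    have := hz'.add o (hback hz')
    rwa [add_comm z' z] at this
  have hab : dt4 a b ≠ 0 := by
    rw [dt4_add_right, haf.dt_eq o hz']
    exact (show ∀ x : ZMod 3, x ≠ 0 → x + x ≠ 0 by decide) _ hz
  obtain ⟨n, hn, l, hna, hnb⟩ := O.exists_to_pair hab
  set y' := n * y * n⁻¹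
  have hy'2 : y' * y' = 1 := by
    rw [show n * y * n⁻¹ * (n * y * n⁻¹) = n * (y * y) * n⁻¹ by group, hy2]; group
  have hfix : ∀ {p r : Pnt4}, Sends4 o y p p → Sends4 o n p r → Sends4 o y' r r := fun {p r} h1 h2 =>
    (h2.comp o h1).comp o (h2.inv o)
  have hC := hfix haf hna
  have hP := hfix (hbf.smul o l) hnb
  have hC' : y' * bl (clock o) = bl (clock o) * y' := by
    have := eq_of_commutes (x := e4 o (0, (1, 0))) hy'2 (cube_R₀ o (e4_mem o _)) hC
    rwa [e4_snd, mono_fst] at this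
  have hP' : y' * bl (shift F) = bl (shift F) * y' := by
    have := eq_of_commutes (x := e4 o (0, (0, 1))) hy'2 (cube_R₀ o (e4_mem o _)) hP
    rwa [e4_snd, mono_snd] at this
  obtain ⟨f, hf⟩ := exists_bd o hC'
  have hy'N : y' ∈ nM o M := Subgroup.mul_mem _ (Subgroup.mul_mem _ hn hy) (Subgroup.inv_mem _ hn)
  have hs := shift_conj_bd (F := F) f
  rw [← hf, ← hP', mul_inv_cancel_right] at hs
  rw [hf] at hs
  have hfe := fun i => congrFun (bd_injective hs) i
  have hfcn : y' = cn (f 0) := by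
    rw [hf, cn, MonoidHom.comp_apply]
    congr 1
    funext i
    show f i = f 0
    have e1 : f 1 = f 0 := by simpa [show (1 - 1 : Fin 3) = 0 from rfl] using hfe 1
    have e2 : f 2 = f 1 := by simpa [show (2 - 1 : Fin 3) = 1 from rfl] using hfe 2
    fin_cases i
    exacts [rfl, e1, e2.trans e1]
  set m := f 0
  have hm2 : m * m = 1 := cn_injective (by rw [map_mul, map_one, ← hfcn, hy'2])
  have hdet : (mat (cn m)).det = 1 := hfcn ▸ mem_sl.1 (O.le hy'N.2).2
  obtain ⟨S, hS⟩ : ∃ S, Acts o m S := by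
    obtain ⟨S, hS⟩ := exists_acts_of_bd o (hf ▸ hy'N.1)
    exact ⟨S, hS 0⟩
  have hSS : cmp S S = id2 := by
    have h1 := hS.mul o hS
    rw [hm2] at h1
    exact h1.unique o (acts_one o)
  have hcases : S = id2 ∨ S = neg2 :=
    (show ∀ S : Mat2, dt S.1 S.2 = 1 → cmp S S = id2 → S = id2 ∨ S = neg2 by decide +kernel) S (hS.dt_eq o) hSS
  rw [det_cn] at hdet
  rcases hcases with rfl | rfl
  · exfalso
    obtain ⟨w, hw⟩ := exists_mono_of_acts_one o hS
    have hw0 : w = 0 := by
      have h1 : pr (m * m) = 1 := by rw [hm2, map_one]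
      rw [map_mul, hw, ← pr_mono_add, ← map_one (pr (F := F)), ← mono_zero o] at h1
      exact (show ∀ w : Pnt, w + w = 0 → w = 0 by decide) w (pr_mono_inj o h1)
    obtain ⟨c, hc⟩ := pr_eq.1 hw
    rw [hw0, mono_zero, Units.val_one] at hc
    have hc2 : c ^ (2 ^ 1) = 1 := by
      have h1 := congrArg (fun x : GL (Fin 3) F => mat x 0 0) hm2
      simp [hc] at h1
      rw [pow_one, pow_two]; exact h1
    have hc9 : c ^ 9 = 1 := by
      rw [hc, det_smul, det_one, mul_one, Fintype.card_fin, ← pow_mul] at hdet; exact hdet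
    rw [scalar_eq_one hc9 hc2, one_smul] at hc
    have hm1 : m = 1 := Units.ext hc
    rw [hm1, map_one] at hfcn
    exact hy1 (conj_eq_one_iff.1 hfcn)
  · have h1 : Acts o (m * cent) id2 := by
      have := hS.mul o (acts_cent o)
      rwa [show cmp neg2 neg2 = id2 by decide] at this
    obtain ⟨w, hw⟩ := exists_mono_of_acts_one o h1
    set q := mono o (w + w)
    have hp : pr m = pr (q * cent * q⁻¹) := by
      rw [map_mul] at hw
      have e1 : pr cent * (pr q)⁻¹ * (pr (cent : GL (Fin 3) F))⁻¹ = pr q := by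
        have := (acts_cent o).sends o (w + w)
        rw [Sends] at this
        have hneg : pr (mono o (ap neg2 (w + w))) = (pr q)⁻¹ := eq_inv_of_mul_eq_one_left (by
          rw [← pr_mono_add, (show ∀ u : Pnt, ap neg2 u + u = 0 by decide), mono_zero, map_one])
        rw [hneg] at this
        calc pr cent * (pr q)⁻¹ * (pr (cent : GL (Fin 3) F))⁻¹
            = (pr cent * pr q * (pr (cent : GL (Fin 3) F))⁻¹)⁻¹ := by group
          _ = pr q := by rw [this, inv_inv]
      have e2 : pr q * pr q = pr (mono o w) := by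
        rw [← pr_mono_add, (show ∀ u : Pnt, u + u + (u + u) = u by decide) w]
      calc pr m = pr (mono o w) * (pr (cent : GL (Fin 3) F))⁻¹ := eq_mul_inv_of_mul_eq hw
        _ = pr q * pr q * pr cent := by
          rw [e2, ← map_inv, inv_eq_of_mul_eq_one_right cent_mul_self]
        _ = pr q * (pr cent * (pr q)⁻¹ * (pr (cent : GL (Fin 3) F))⁻¹) * pr cent := by rw [e1]
        _ = pr (q * cent * q⁻¹) := by rw [map_mul, map_mul, map_inv]; group
    obtain ⟨d, hd⟩ := pr_eq.1 hp
    have hcd : (mat (q * cent * q⁻¹)).det = 1 := by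
      rw [Units.val_mul, Units.val_mul, det_units_conj, ← four_sq o, Units.val_mul, det_mul, det_four, one_mul]
    have hd2 : d ^ (2 ^ 1) = 1 := by
      have e : mat (m * m) = (d * d) • mat ((q * cent * q⁻¹) * (q * cent * q⁻¹)) := by
        rw [Units.val_mul m, Units.val_mul (q * cent * q⁻¹), hd, smul_mul_assoc, mul_smul_comm, smul_smul]
      rw [hm2, show q * cent * q⁻¹ * (q * cent * q⁻¹) = 1 by
        rw [show q * cent * q⁻¹ * (q * cent * q⁻¹) = q * (cent * cent) * q⁻¹ by group, cent_mul_self]; group] at e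
      have := congrFun (congrFun e 0) 0
      simp at this
      rw [pow_one, pow_two]; exact this.symm
    have hd9 : d ^ 9 = 1 := by
      rw [hd, det_smul, hcd, mul_one, Fintype.card_fin, ← pow_mul] at hdet; exact hdet
    rw [scalar_eq_one hd9 hd2, one_smul] at hd
    have hm : m = q * cent * q⁻¹ := Units.ext hd
    have hq : cn q ∈ nM o M := ⟨cn_mem_normalizer o (heis_le_normalizer o (mono_mem o _)), O.cn_heis (mono_mem o _)⟩
    refine ⟨n⁻¹ * cn q, Subgroup.mul_mem _ (Subgroup.inv_mem _ hn) hq, ?_⟩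
    calc y = n⁻¹ * y' * n := by simp only [y']; group
      _ = _ := by rw [hfcn, hm, map_mul, map_mul, map_inv]; group

end CfsgLib.SympThree
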