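import Cfsg.Agent.SympThree.CentInv
import Cfsg.Agent.SympThree.Involutions

/-!
# An overgroup normalises or is everything
-/

set_option autoImplicit false
set_option linter.unusedSectionVars false

namespace CfsgLib.SympThree

open Matrix Cfsg.Geo CfsgLib.SLThree.Hessian
open scoped Kronecker

local notation:max "mat" => Units.val

variable {F : Type*} [Field F] [Finite F] {o : Omega F} {A : Amb o} {M : Subgroup (GL Ix F)}

theorem trace_conj_ix (g x : GL Ix F) : (mat (g * x * g⁻¹)).trace = (mat x).trace := by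
  rw [Units.val_mul, Units.val_mul]
  exact Matrix.trace_units_conj g (mat x)

theorem trace_cn (x : GL (Fin 3) F) : (mat (cn x)).trace = 3 * (mat x).trace := by
  rw [cn_val, Matrix.trace_kronecker, Matrix.trace_one, Fintype.card_fin]
  push_cast
  ring

theorem trace_cent : (mat (cent : GL (Fin 3) F)).trace = -1 := by
  show (!![-1, 0, 0; 0, 0, -1; 0, -1, 0] : Matrix (Fin 3) (Fin 3) F).trace = -1
  rw [Matrix.trace_fin_three]; simp

theorem trace_tt : (mat (tt : GL Ix F)).trace = 1 := by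
  rw [show mat (tt : GL Ix F) = mat (cent : GL (Fin 3) F) ⊗ₖ mat (cent : GL (Fin 3) F) from kk_val (cent, cent),
    Matrix.trace_kronecker, trace_cent]
  ring

theorem trace_s_ne (h2 : (2 : F) ≠ 0) : (mat (cn (cent : GL (Fin 3) F))).trace ≠ 1 := by
  rw [trace_cn, trace_cent]
  intro h
  exact h2 (mul_self_eq_zero.1 (show (2 : F) * 2 = 0 by linear_combination -h))

theorem tt_ne_one (h2 : (2 : F) ≠ 0) : (tt : GL Ix F) ≠ 1 := fun h => by
  have e := trace_tt (F := F)
  rw [h, Units.val_one, Matrix.trace_one, Fintype.card_prod, Fintype.card_fin] at e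
  push_cast at e
  have h8 : (2 : F) * 2 * 2 = 0 := by linear_combination e
  exact h2 (by simpa using h8)

theorem cn_cent_ne_one (h2 : (2 : F) ≠ 0) : (cn (cent : GL (Fin 3) F)) ≠ 1 := fun h => by
  have h1 := congrArg (fun x : GL (Fin 3) F => mat x 0 0) (cn_injective (h.trans (map_one cn).symm))
  simp [cent] at h1
  exact h2 (by linear_combination -h1)

/-- The two kinds of involutions differ. -/
structure Distinct (F : Type*) [Field F] : Prop where
  s_ne : (cn (cent : GL (Fin 3) F)) ≠ 1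
  t_ne : (tt : GL Ix F) ≠ 1
  not_conj : ∀ g : GL Ix F, g * cn cent * g⁻¹ ≠ tt

theorem distinct_of_two_ne (h2 : (2 : F) ≠ 0) : Distinct F :=
  ⟨cn_cent_ne_one h2, tt_ne_one h2, fun g h => trace_s_ne h2 (by
    have e := congrArg (fun x : GL Ix F => (mat x).trace) h
    simpa only [trace_conj_ix, trace_tt] using e)⟩

theorem sends4_s (v : Pnt4) : Sends4 o (cn cent) v (-v.1, v.2) := by
  have := sends4_cn o (acts_cent o) v
  rwa [(show ∀ u : Pnt, ap neg2 u = -u by decide) v.1] at this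

theorem Over.s_mem (O : Over A M) : cn (cent : GL (Fin 3) F) ∈ nM o M := by
  rw [← four_sq o]; exact O.cn_mem_nM ((words o).mul_mem (four_mem_words o) (four_mem_words o))

theorem Over.tt_mem (O : Over A M) : (tt : GL Ix F) ∈ nM o M := by
  refine Subgroup.mul_mem _ O.s_mem ?_
  rw [← four_sq o]; exact O.bl_mem_nM ((words o).mul_mem (four_mem_words o) (four_mem_words o))

/-- **Strong closure.** -/
theorem Over.closed (O : Over A M) (hd : Distinct F)
    (hI : ∀ g ∈ M, g * cn cent = cn cent * g → g ∈ subgroupNormalizer (R₀ o)) {g : GL Ix F} (hg : g ∈ M)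
    (h : g * cn cent * g⁻¹ ∈ subgroupNormalizer (R₀ o)) : g ∈ subgroupNormalizer (R₀ o) := by
  set y := g * cn cent * g⁻¹ with hy
  have hyM : y ∈ nM o M := ⟨h, M.mul_mem (M.mul_mem hg O.s_mem.2) (M.inv_mem hg)⟩
  have hy2 : y * y = 1 := by
    rw [show g * cn cent * g⁻¹ * (g * cn cent * g⁻¹) = g * (cn cent * cn cent) * g⁻¹ by group, ← map_mul,
      cent_mul_self, map_one]
    group
  have hy1 : y ≠ 1 := fun e => hd.s_ne (conj_eq_one_iff.1 e)
  rcases O.involution hyM hy2 hy1 with ⟨n, hn, e⟩ | hi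
  · have hc : (n⁻¹ * g) * cn cent = cn cent * (n⁻¹ * g) := by
      refine mul_inv_eq_iff_eq_mul.1 ?_
      calc n⁻¹ * g * cn cent * (n⁻¹ * g)⁻¹ = n⁻¹ * y * n := by rw [hy]; group
        _ = cn cent := by rw [e]; group
    have := Subgroup.mul_mem _ hn.1 (hI _ (M.mul_mem (M.inv_mem hn.2) hg) hc)
    rwa [mul_inv_cancel_left] at this
  · exfalso
    obtain ⟨q, -, e⟩ := conj_tt_of_inv hy2 (mem_sl.1 (O.le hyM.2).2) hi
    refine hd.not_conj (q⁻¹ * g) ?_
    calc q⁻¹ * g * cn cent * (q⁻¹ * g)⁻¹ = q⁻¹ * (g * cn cent * g⁻¹) * q := by group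
      _ = tt := by rw [hy.symm.trans e]; group

/-- Inverted elements with a power in the normaliser. -/
theorem Over.descend (O : Over A M) (hd : Distinct F)
    (hI : ∀ g ∈ M, g * cn cent = cn cent * g → g ∈ subgroupNormalizer (R₀ o)) :
    ∀ (k : ℕ) (x : GL Ix F), x ∈ M → cn cent * x * (cn cent)⁻¹ = x⁻¹ → x ^ (2 ^ k) = 1 →
      x ∈ subgroupNormalizer (R₀ o)
  | 0, x, _, _, h1 => by
    rw [pow_zero, pow_one] at h1
    rw [h1]; exact Subgroup.one_mem _
  | k + 1, x, hx, hinv, h1 => by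
    have hinv2 : cn cent * (x * x) * (cn cent)⁻¹ = (x * x)⁻¹ := by
      rw [← conj_mul, hinv, _root_.mul_inv_rev]
    have hxx := Over.descend O hd hI k (x * x) (M.mul_mem hx hx) hinv2
      (by rw [← pow_two, ← pow_mul, ← pow_succ']; exact h1)
    refine O.closed hd hI hx ?_
    have e : x * cn cent * x⁻¹ = x * x * cn cent := by
      have h' : cn cent * x⁻¹ = x * cn cent := by
        rw [← hinv, ← mul_assoc, ← mul_assoc, ← map_mul, cent_mul_self, map_one, one_mul, ← map_inv,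
          inv_eq_of_mul_eq_one_right cent_mul_self]
      rw [mul_assoc, h', mul_assoc]
    rw [e]
    exact Subgroup.mul_mem _ hxx O.s_mem.1

/-- Conjugates of the second involution stay in the normaliser. -/
theorem Over.tt_conj_mem (O : Over A M) (hd : Distinct F)
    (hI : ∀ g ∈ M, g * cn cent = cn cent * g → g ∈ subgroupNormalizer (R₀ o)) {g : GL Ix F} (hg : g ∈ M) :
    g * tt * g⁻¹ ∈ subgroupNormalizer (R₀ o) := by
  classical
  set s : GL Ix F := cn cent
  set y := g * tt * g⁻¹ with hy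
  have hs2 : s * s = 1 := by rw [← map_mul, cent_mul_self, map_one]
  have hy2 : y * y = 1 := by
    rw [show g * tt * g⁻¹ * (g * tt * g⁻¹) = g * (tt * tt) * g⁻¹ by group, tt_mul_self]; group
  have hsM : s ∈ M := O.s_mem.2
  have hyM : y ∈ M := M.mul_mem (M.mul_mem hg O.tt_mem.2) (M.inv_mem hg)
  set u := s * y with hu
  have huM : u ∈ M := M.mul_mem hsM hyM
  have hsi : s⁻¹ = s := inv_eq_of_mul_eq_one_right hs2
  have hyi : y⁻¹ = y := inv_eq_of_mul_eq_one_right hy2
  have hsu : s * u * s⁻¹ = u⁻¹ := by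
    rw [hu, hsi, _root_.mul_inv_rev, hsi, hyi, ← mul_assoc, hs2, one_mul]
  have hyu : y * u * y⁻¹ = u⁻¹ := by
    rw [hu, hyi, _root_.mul_inv_rev, hsi, hyi, mul_assoc y, mul_assoc s, hy2, mul_one]
  have hpow : ∀ (x : GL Ix F), x * u * x⁻¹ = u⁻¹ → ∀ k : ℕ, x * u ^ k * x⁻¹ = (u ^ k)⁻¹ := fun x h k => by
    rw [← conj_pow, h, inv_pow]
  obtain ⟨a, m, hm, hcard⟩ := Nat.exists_eq_pow_mul_and_not_dvd (orderOf_pos u).ne' 2 (by norm_num)
  obtain ⟨j, hj⟩ : ∃ j, m * j % 2 ^ a = 1 % 2 ^ a := by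
    have hcop : m.Coprime (2 ^ a) := ((Nat.prime_two.coprime_iff_not_dvd.2 hm).symm).pow_right a
    rcases Nat.eq_zero_or_pos a with rfl | ha
    · exact ⟨0, by simp [Nat.mod_one]⟩
    · obtain ⟨j, -, hj⟩ := Nat.exists_mul_mod_eq_one_of_coprime hcop (Nat.one_lt_two_pow ha.ne')
      exact ⟨j, by rw [hj, Nat.one_mod_eq_one.2 (Nat.one_lt_two_pow ha.ne').ne']⟩
  set v := u ^ (m * j) with hv
  have hvM : v ∈ M := M.pow_mem huM _
  have hv2 : v ^ (2 ^ a) = 1 := by
    rw [hv, ← pow_mul, show m * j * 2 ^ a = orderOf u * j by rw [hcard]; ring, pow_mul, pow_orderOf_eq_one, one_pow]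
  have hvN := O.descend hd hI a v hvM (hpow s hsu _) hv2
  -- the odd part
  set w := v⁻¹ * u with hw
  have hwm : w ^ m = 1 := by
    have hc : Commute v⁻¹ u := (Commute.pow_self u _).inv_left
    rw [hw, hc.mul_pow, inv_pow, inv_mul_eq_one, hv, ← pow_mul, pow_eq_pow_mod _ (pow_orderOf_eq_one u),
      pow_eq_pow_mod m (pow_orderOf_eq_one u)]
    congr 1
    rw [hcard, mul_comm (2 ^ a) m, mul_assoc, Nat.mul_mod_mul_left]
    have e : j * m % 2 ^ a = 1 % 2 ^ a := by rw [mul_comm]; exact hj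
    rw [e]
    have e' := Nat.mul_mod_mul_left m 1 (2 ^ a)
    rw [mul_one] at e'
    rw [← e']
  have hmodd : Odd m := Nat.odd_iff.2 (by omega)
  obtain ⟨t, ht⟩ := hmodd
  set z := w ^ (t + 1) with hz
  have hzz : z * z = w := by
    rw [hz, ← pow_add, show t + 1 + (t + 1) = m + 1 by omega, pow_succ, hwm, one_mul]
  set sv := s * v with hsv
  have hsvu : sv * u * sv⁻¹ = u⁻¹ := by
    have hc : v * u * v⁻¹ = u := by rw [(Commute.pow_self u (m * j)).eq, mul_inv_cancel_right]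
    calc s * v * u * (s * v)⁻¹ = s * (v * u * v⁻¹) * s⁻¹ := by group
      _ = u⁻¹ := by rw [hc, hsu]
  obtain ⟨e, he⟩ : ∃ e : ℕ, z = u ^ e := by
    have hvinv : v⁻¹ = u ^ ((orderOf u - 1) * (m * j)) := by
      rw [mul_comm, pow_mul, ← hv]
      refine inv_eq_of_mul_eq_one_right ?_
      rw [← pow_succ', Nat.sub_add_cancel (orderOf_pos u)]
      rw [hv, ← pow_mul, mul_comm, pow_mul, pow_orderOf_eq_one, one_pow]
    exact ⟨((orderOf u - 1) * (m * j) + 1) * (t + 1), by rw [hz, hw, hvinv, ← pow_succ, ← pow_mul]⟩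
  have hsvz : sv * z * sv⁻¹ = z⁻¹ := by rw [he]; exact hpow sv hsvu e
  have hyconj : y = z⁻¹ * sv * z := by
    calc y = s * u := by rw [hu, ← mul_assoc, hs2, one_mul]
      _ = sv * z * z := by
        rw [hsv, mul_assoc (s * v), hzz, hw, mul_assoc s, mul_inv_cancel_left]
      _ = _ := by rw [← hsvz]; group
  have hzM : z ∈ M := M.pow_mem (M.mul_mem (M.inv_mem hvM) huM) _
  have hsvN : sv ∈ nM o M := Subgroup.mul_mem _ O.s_mem ⟨hvN, hvM⟩
  have hsv2 : sv * sv = 1 := by
    have e' : z⁻¹ * (sv * sv) * z = 1 := by rw [← hy2, hyconj]; group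
    calc sv * sv = z * (z⁻¹ * (sv * sv) * z) * z⁻¹ := by group
      _ = 1 := by rw [e']; group
  have hsv1 : sv ≠ 1 := by
    intro e'
    rw [e', mul_one, inv_mul_cancel] at hyconj
    exact hd.t_ne (conj_eq_one_iff.1 hyconj)
  have hinvsv : Inv4 o sv := by
    rcases O.involution hsvN hsv2 hsv1 with ⟨n, -, e'⟩ | hi
    · exfalso
      refine hd.not_conj (g⁻¹ * z⁻¹ * n) ?_
      calc g⁻¹ * z⁻¹ * n * cn cent * (g⁻¹ * z⁻¹ * n)⁻¹ = g⁻¹ * (z⁻¹ * (n * s * n⁻¹) * z) * g := by
            simp only [s]; group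
        _ = tt := by rw [← e', ← hyconj, hy]; group
    · exact hi
  have hvs : v = s * sv := by rw [hsv, ← mul_assoc, hs2, one_mul]
  have hvact : ∀ p : Pnt4, Sends4 o v p (p.1, -p.2) := fun p => by
    have := (sends4_s (o := o) (-p)).comp o (hinvsv p)
    rw [← hvs] at this
    simpa using this
  have hvv : v * v = 1 := by
    have hfix : ∀ p, Sends4 o (v * v) p p := fun p => by
      have := (hvact (p.1, -p.2)).comp o (hvact p)
      simpa using this
    obtain ⟨x, hx⟩ := exists_point_of_fix hfix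
    have hpw : p9 (e4 o x) ^ (2 ^ a) = 1 := by
      rw [← hx, ← map_pow, (Commute.refl v).mul_pow, hv2, one_mul, map_one]
    have hcube : p9 (e4 o x) ^ 3 = 1 := by rw [← map_pow, cube_R₀ o (e4_mem o x), map_one]
    have hx1 : p9 (e4 o x) = 1 := by
      have h' := pow_gcd_eq_one.2 ⟨hcube, hpw⟩
      rwa [show Nat.gcd 3 (2 ^ a) = 1 from Nat.Coprime.pow_right a (by norm_num), pow_one] at h'
    obtain ⟨c, hc⟩ := p9_eq_one.1 (hx.trans hx1)
    have hdet : (mat (v * v)).det = 1 := mem_sl.1 (O.le (M.mul_mem hvM hvM)).2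
    have hc2 : c ^ (2 ^ a) = 1 := by
      have e' : mat ((v * v) ^ (2 ^ a)) = c ^ (2 ^ a) • 1 := by
        rw [Units.val_pow_eq_pow_val, hc, smul_pow, one_pow]
      rw [(Commute.refl v).mul_pow, hv2, one_mul, Units.val_one] at e'
      simpa using (congrFun (congrFun e' (0, 0)) (0, 0)).symm
    rw [scalar_eq_one (det_smul9 (h := 1) (by rw [Units.val_one]; exact hc) hdet (by simp)) hc2, one_smul] at hc
    exact Units.ext hc
  have hv1 : v ≠ 1 := fun e' => by
    have := hvact (0, (1, 0))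
    rw [e'] at this
    exact absurd (this.unique o (sends4_one o _)) (by decide)
  rcases O.involution ⟨hvN, hvM⟩ hvv hv1 with ⟨n, hn, e'⟩ | hi
  · have hyv : y * v * y⁻¹ = v := by
      rw [hpow y hyu]; exact inv_eq_of_mul_eq_one_right hvv
    have hc : (n⁻¹ * y * n) * s = s * (n⁻¹ * y * n) := by
      refine mul_inv_eq_iff_eq_mul.1 ?_
      calc n⁻¹ * y * n * s * (n⁻¹ * y * n)⁻¹ = n⁻¹ * (y * (n * s * n⁻¹) * y⁻¹) * n := by group
        _ = s := by rw [← e', hyv, e']; group; rfl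
    have := Subgroup.mul_mem _ (Subgroup.mul_mem _ hn.1 (hI _ (M.mul_mem (M.mul_mem (M.inv_mem hn.2) hyM) hn.2) hc))
      (Subgroup.inv_mem _ hn.1)
    rwa [show n * (n⁻¹ * y * n) * n⁻¹ = y by group] at this
  · exact absurd ((hvact ((1, 0), 0)).unique o (hi _)) (by decide)

/-- **An overgroup in which the centraliser of the involution normalises, normalises.** -/
theorem Over.le_normalizer (O : Over A M) (hd : Distinct F)
    (hI : ∀ g ∈ M, g * cn cent = cn cent * g → g ∈ subgroupNormalizer (R₀ o)) :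
    M ≤ subgroupNormalizer (R₀ o) := by
  intro g hg
  have hT : ∀ x ∈ M, ∃ q ∈ R₀ o, x * tt * x⁻¹ = q * tt * q⁻¹ := by
    intro x hx
    refine conj_tt_of_inv ?_ (by rw [Units.val_mul, Units.val_mul, det_units_conj, det_tt]) ?_
    · rw [show x * tt * x⁻¹ * (x * tt * x⁻¹) = x * (tt * tt) * x⁻¹ by group, tt_mul_self]; group
    · have hmem : x * tt * x⁻¹ ∈ nM o M :=
        ⟨O.tt_conj_mem hd hI hx, M.mul_mem (M.mul_mem hx O.tt_mem.2) (M.inv_mem hx)⟩
      rcases O.involution hmem (by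
          rw [show x * tt * x⁻¹ * (x * tt * x⁻¹) = x * (tt * tt) * x⁻¹ by group, tt_mul_self]; group)
          (fun e => hd.t_ne (conj_eq_one_iff.1 e)) with ⟨n, -, e⟩ | hi
      · exfalso
        refine hd.not_conj (x⁻¹ * n) ?_
        calc x⁻¹ * n * cn cent * (x⁻¹ * n)⁻¹ = x⁻¹ * (n * cn cent * n⁻¹) * x := by group
          _ = tt := by rw [← e]; group
      · exact hi
  have htt : ∀ v, p9 (tt : GL Ix F) * p9 (e4 o v) * (p9 (tt : GL Ix F))⁻¹ = p9 (e4 o (-v)) := inv4_tt
  have key : ∀ v : Pnt4, g * e4 o v * g⁻¹ ∈ R₀ o := by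
    intro v
    obtain ⟨q₁, hq₁, e₁⟩ := hT (g * e4 o (v + v)) (M.mul_mem hg (O.R₀_le (e4_mem o _)))
    obtain ⟨q₂, hq₂, e₂⟩ := hT g hg
    obtain ⟨u₁, hu₁⟩ := exists_point o hq₁
    obtain ⟨u₂, hu₂⟩ := exists_point o hq₂
    have hneg : ∀ w, (p9 (e4 o w))⁻¹ = p9 (e4 o (-w)) := fun w => inv_eq_of_mul_eq_one_right (by
      rw [← p9_e4_add, add_neg_cancel, e4_zero, map_one])
    have htti : p9 (tt : GL Ix F) * p9 (tt : GL Ix F) = 1 := by rw [← map_mul, tt_mul_self, map_one]
    -- the product of two involutions of the second type is a point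
    have hprod : ∀ w w' : Pnt4, p9 (e4 o w * tt * (e4 o w)⁻¹) * p9 (e4 o w' * tt * (e4 o w')⁻¹) =
        p9 (e4 o (w + w + (-w' + -w'))) := by
      intro w w'
      have ht' : (p9 (tt : GL Ix F))⁻¹ = p9 tt := inv_eq_of_mul_eq_one_right htti
      have hflip : ∀ z, p9 (tt : GL Ix F) * p9 (e4 o z) = p9 (e4 o (-z)) * p9 tt := fun z => by
        rw [← mul_inv_eq_iff_eq_mul]; exact htt z
      simp only [map_mul, map_inv, hneg, p9_e4_add]
      calc p9 (e4 o w) * p9 tt * p9 (e4 o (-w)) * (p9 (e4 o w') * p9 tt * p9 (e4 o (-w')))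
          = p9 (e4 o w) * (p9 tt * p9 (e4 o (-w))) * p9 (e4 o w') * (p9 tt * p9 (e4 o (-w'))) := by
            simp only [mul_assoc]
        _ = p9 (e4 o w) * p9 (e4 o w) * (p9 tt * p9 (e4 o w')) * p9 (e4 o w') * p9 tt := by
            rw [hflip, hflip, neg_neg, neg_neg]; simp only [mul_assoc]
        _ = p9 (e4 o w) * p9 (e4 o w) * (p9 (e4 o (-w')) * (p9 tt * p9 (e4 o w'))) * p9 tt := by
            conv_lhs => rw [hflip]
            simp only [mul_assoc]
        _ = _ := by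
            rw [hflip]; simp only [mul_assoc, htti, mul_one]
    have hv' : p9 (e4 o v) = p9 (e4 o (v + v) * tt * (e4 o (v + v))⁻¹) * p9 (e4 o (0 : Pnt4) * tt * (e4 o (0 : Pnt4))⁻¹) := by
      rw [hprod, (show ∀ v : Pnt4, v + v + (v + v) + (-0 + -0) = v by decide) v]
    have hp : p9 (g * e4 o v * g⁻¹) = p9 (e4 o (u₁ + u₁ + (-u₂ + -u₂))) := by
      calc p9 (g * e4 o v * g⁻¹) = p9 g * p9 (e4 o v) * (p9 g)⁻¹ := by rw [map_mul, map_mul, map_inv]
        _ = p9 (g * e4 o (v + v) * tt * (g * e4 o (v + v))⁻¹) * p9 (g * tt * g⁻¹) := by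
          rw [hv', e4_zero]
          simp only [map_mul, map_inv, map_one]
          group
        _ = _ := by
          rw [e₁, e₂, ← hprod]
          simp only [map_mul, map_inv, hu₁, hu₂]
    obtain ⟨c, hc⟩ := p9_eq.1 hp
    set r := e4 o (u₁ + u₁ + (-u₂ + -u₂))
    have hr : r ∈ R₀ o := e4_mem o _
    have hc3 : c ^ 3 = 1 := by
      have h' : mat ((g * e4 o v * g⁻¹) ^ 3) = c ^ 3 • mat (r ^ 3) := by
        rw [Units.val_pow_eq_pow_val, hc, smul_pow, Units.val_pow_eq_pow_val]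
      rw [conj_pow, cube_R₀ o (e4_mem o v), cube_R₀ o hr, mul_one, mul_inv_cancel, Units.val_one] at h'
      simpa using (congrFun (congrFun h' (0, 0)) (0, 0)).symm
    obtain ⟨i, hi⟩ : ∃ i : ℕ, c = o.w ^ i := by
      rcases mul_eq_zero.1 (show (c - 1) * (c - o.w) * (c - o.w ^ 2) = 0 by
        linear_combination hc3 - c * (c - o.w) * o.sum - o.cube) with h' | h'
      · rcases mul_eq_zero.1 h' with h' | h'
        · exact ⟨0, by simpa using sub_eq_zero.1 h'⟩
        · exact ⟨1, by simpa using sub_eq_zero.1 h'⟩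
      · exact ⟨2, sub_eq_zero.1 h'⟩
    have he : g * e4 o v * g⁻¹ = cn (sc o ^ i) * r := Units.ext (by
      rw [hc, hi, Units.val_mul, cn_val, sc_pow, Matrix.smul_kronecker, one_kronecker_one, smul_mul_assoc, one_mul])
    rw [he]
    exact (R₀ o).mul_mem (_root_.CfsgLib.SympThree.cn_mem o ((heis o).pow_mem (sc_mem o) i)) hr
  refine mem_normalizer_R₀ o ?_ ?_ ?_ ?_
  · have := key ((1, 0), 0); rwa [e4_fst, mono_fst] at this
  · have := key ((0, 1), 0); rwa [e4_fst, mono_snd] at this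
  · have := key (0, (1, 0)); rwa [e4_snd, mono_fst] at this
  · have := key (0, (0, 1)); rwa [e4_snd, mono_snd] at this

/-- **The dichotomy.** -/
theorem Over.le_normalizer_or_top (O : Over A M) (hR : Rich A) :
    M ≤ subgroupNormalizer (R₀ o) ∨ A.G ≤ M := by
  rcases O.cent_clock hR with hC | h
  · exact Or.inl (O.le_normalizer (distinct_of_two_ne hR.two_ne) (O.cent_inv hR hC))
  · exact Or.inr h

end CfsgLib.SympThree
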