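import Cfsg.Agent.SympThree.CentClock

/-!
# The action on the fixed space of the central involution

Elements commuting with `cn cent` act on its three-dimensional fixed space; elements of the normaliser act
there through the normaliser of the Heisenberg group.
-/

set_option autoImplicit false
set_option linter.unusedSectionVars false

namespace CfsgLib.SympThree

open Matrix Cfsg.Geo CfsgLib.SLThree.Hessian
open scoped Kronecker

local notation:max "mat" => Units.val

variable {F : Type*} [Field F]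

/-- The swap of `1` and `2`. -/
def flp (a : Fin 3) : Fin 3 := -a

theorem cn_cent_val (p q : Ix) :
    mat (cn (cent : GL (Fin 3) F)) p q = if q = (flp p.1, p.2) then -1 else 0 := by
  obtain ⟨a, i⟩ := p
  obtain ⟨b, k⟩ := q
  rw [cn_val, kroneckerMap_apply]
  show (!![-1, 0, 0; 0, 0, -1; 0, -1, 0] : Matrix (Fin 3) (Fin 3) F) a b * (1 : Matrix (Fin 3) (Fin 3) F) i k = _
  fin_cases a <;> fin_cases b <;>
    simp [flp, Matrix.one_apply, Prod.ext_iff, eq_comm, show (-1 : Fin 3) = 2 from rfl, show (-2 : Fin 3) = 1 from rfl]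

theorem apply_flp {g : GL Ix F} (hg : g * cn cent = cn cent * g) (a b i k : Fin 3) :
    mat g (flp a, i) (b, k) = mat g (a, i) (flp b, k) := by
  have e := congrArg (fun x : GL Ix F => mat x (a, i) (b, k)) hg
  simp only [Units.val_mul, Matrix.mul_apply, cn_cent_val, mul_ite, mul_zero, ite_mul, zero_mul] at e
  rw [Finset.sum_eq_single (flp b, k), Finset.sum_eq_single (flp a, i)] at e
  · simpa [flp] using e.symm
  · intro r _ hr; rw [if_neg hr]
  · intro h; exact absurd (Finset.mem_univ _) h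
  · rintro ⟨c, l⟩ _ hr
    rw [if_neg]
    intro h
    simp only [Prod.ext_iff, flp] at h
    exact hr (Prod.ext (by simp [flp, h.1]) h.2.symm)
  · intro h; exact absurd (Finset.mem_univ _) h

theorem bmat_mul (X : Matrix Ix Ix F) {h : GL Ix F} (hh : h * cn cent = cn cent * h) :
    bmat (X * mat h) = bmat X * bmat (mat h) := by
  ext i k
  have h0 : ∀ l, mat h (0, l) (1, k) = mat h (0, l) (2, k) := fun l => by
    have := apply_flp hh 0 1 l k
    simpa [flp, show (-1 : Fin 3) = 2 from rfl] using this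
  have h1 : ∀ l, mat h (2, l) (1, k) = mat h (1, l) (2, k) := fun l => by
    have := apply_flp hh 1 1 l k
    simpa [flp, show (-1 : Fin 3) = 2 from rfl] using this
  have h2 : ∀ l, mat h (2, l) (2, k) = mat h (1, l) (1, k) := fun l => by
    have := apply_flp hh 1 2 l k
    simpa [flp, show (-1 : Fin 3) = 2 from rfl, show (-2 : Fin 3) = 1 from rfl] using this
  simp only [bmat, Matrix.of_apply, Matrix.mul_apply, Fintype.sum_prod_type, Fin.sum_univ_three, h0, h1, h2]
  ring

theorem bmat_one : bmat (1 : Matrix Ix Ix F) = 1 := by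
  ext i k
  simp [bmat, Matrix.one_apply, Prod.ext_iff]

/-- The elements commuting with the involution. -/
def hS : Subgroup (GL Ix F) := Subgroup.centralizer {cn cent}

theorem mem_hS {g : GL Ix F} : g ∈ hS (F := F) ↔ g * cn cent = cn cent * g :=
  Subgroup.mem_centralizer_singleton_iff

/-- The action on the fixed space. -/
def bh : hS (F := F) →* GL (Fin 3) F :=
  MonoidHom.toHomUnits
    { toFun := fun g => bmat (mat (g : GL Ix F))
      map_one' := bmat_one
      map_mul' := fun g h => bmat_mul _ (mem_hS.1 h.2) }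

theorem bh_val (g : hS (F := F)) : mat (bh g) = bmat (mat (g : GL Ix F)) := rfl

theorem bh_cn_bl {a b : GL (Fin 3) F} (h : cn a * bl b ∈ hS (F := F)) :
    mat (bh ⟨_, h⟩) = (mat a 1 1 - mat a 1 2) • mat b := by
  ext i k
  show mat (cn a * bl b) (1, i) (1, k) - mat (cn a * bl b) (1, i) (2, k) = _
  rw [show mat (cn a * bl b) = mat a ⊗ₖ mat b from kk_val (a, b)]
  simp [kroneckerMap_apply, sub_mul]

theorem bh_bl {b : GL (Fin 3) F} (h : bl b ∈ hS (F := F)) : bh ⟨_, h⟩ = b := Units.ext (by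
  have := bh_cn_bl (a := 1) (b := b) (by simpa using h)
  simpa [Matrix.one_apply] using this)

theorem bh_cn {a : GL (Fin 3) F} (h : cn a ∈ hS (F := F)) :
    mat (bh ⟨_, h⟩) = (mat a 1 1 - mat a 1 2) • 1 := by
  have := bh_cn_bl (a := a) (b := 1) (by simpa using h)
  simpa using this

theorem bl_mem_hS (b : GL (Fin 3) F) : bl b ∈ hS (F := F) := mem_hS.2 (cn_bl_comm cent b).symm.eq

theorem cn_injective : Function.Injective (cn (F := F)) := fun a b h => by
  have := congrFun (bd_injective h) 0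
  exact this

theorem cn_mem_hS {a : GL (Fin 3) F} : cn a ∈ hS (F := F) ↔ a * cent = cent * a := by
  rw [mem_hS, ← map_mul, ← map_mul]
  exact cn_injective.eq_iff

variable (o : Omega F)

theorem cn_sc_eq_bl : cn (sc o) = bl (sc o) := Units.ext (by
  rw [cn_val, bl_val, show mat (sc o) = o.w • 1 from rfl, Matrix.smul_kronecker, Matrix.kronecker_smul])

/-- An element of the normaliser acts on the fixed space in the normaliser. -/
theorem bh_mem_normalizer [Finite F] {g : hS (F := F)} (hg : (g : GL Ix F) ∈ subgroupNormalizer (R₀ o)) :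
    bh g ∈ subgroupNormalizer (heis o) := by
  have key : ∀ x ∈ heis o, bh g * x * (bh g)⁻¹ ∈ heis o := by
    intro x hx
    obtain ⟨a, ha, b, hb, e⟩ := (mem_R₀ o).1 (conj_R₀ o hg (bl_mem o hx))
    have hin : cn a * bl b ∈ hS (F := F) := by
      rw [← e]
      exact Subgroup.mul_mem _ (Subgroup.mul_mem _ g.2 (bl_mem_hS x)) (Subgroup.inv_mem _ g.2)
    have hac : cn a ∈ hS (F := F) := by
      have := Subgroup.mul_mem _ hin (Subgroup.inv_mem _ (bl_mem_hS b))
      rwa [mul_inv_cancel_right] at this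
    obtain ⟨c, hc⟩ := scalar_of_comm_cent o (acts_of_mem o ha) (cn_mem_hS.1 hac).symm
    obtain ⟨k, hk⟩ := eq_scalar_pow ha (pr_eq_one.2 ⟨c, hc⟩)
    have e2 : bh g * x * (bh g)⁻¹ = sc o ^ k * b := by
      conv_lhs => rw [← bh_bl (bl_mem_hS x)]
      rw [← map_inv, ← map_mul, ← map_mul, ← bh_bl (bl_mem_hS (sc o ^ k * b))]
      congr 1
      apply Subtype.ext
      show (g : GL Ix F) * bl x * (g : GL Ix F)⁻¹ = bl (sc o ^ k * b)
      rw [e, hk, map_pow, cn_sc_eq_bl, ← map_pow, ← map_mul]
    rw [e2]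
    exact (heis o).mul_mem ((heis o).pow_mem (sc_mem o) k) hb
  exact mem_normalizer_of_gens o (key _ (clock_mem o)) (key _ (shift_mem o))

theorem flipTwo_not_mem (h2 : (2 : F) ≠ 0) [Finite F] : (flipTwo : GL (Fin 3) F) ∉ subgroupNormalizer (heis o) := by
  intro h
  obtain ⟨S, hS⟩ := exists_acts o h
  refine flipLast_not_mem o h2 (Acts.mem_normalizer o (S := S) (Acts.congr o (pr_eq.2 ⟨-1, ?_⟩) hS))
  show (!![1, 0, 0; 0, 1, 0; 0, 0, -1] : Matrix (Fin 3) (Fin 3) F) = (-1 : F) • !![-1, 0, 0; 0, -1, 0; 0, 0, 1]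
  ext i j; fin_cases i <;> fin_cases j <;> simp

theorem flipTwo_comm : flipTwo * clock o = clock o * flipTwo := Units.ext (by
  rw [Units.val_mul, Units.val_mul]
  show (!![-1, 0, 0; 0, -1, 0; 0, 0, 1] : Matrix (Fin 3) (Fin 3) F) * !![1, 0, 0; 0, o.w, 0; 0, 0, o.w ^ 2] =
    !![1, 0, 0; 0, o.w, 0; 0, 0, o.w ^ 2] * !![-1, 0, 0; 0, -1, 0; 0, 0, 1]
  ext i j; fin_cases i <;> fin_cases j <;> simp)

theorem cent_lam : mat (cent : GL (Fin 3) F) 1 1 - mat (cent : GL (Fin 3) F) 1 2 = 1 := by
  show (!![-1, 0, 0; 0, 0, -1; 0, -1, 0] : Matrix (Fin 3) (Fin 3) F) 1 1 -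
    (!![-1, 0, 0; 0, 0, -1; 0, -1, 0] : Matrix (Fin 3) (Fin 3) F) 1 2 = 1
  simp

theorem tw_comm_cent : tw o * cent = cent * tw o := Units.ext (by
  rw [Units.val_mul, Units.val_mul]
  show !![1, 0, 0; 0, o.w, 0; 0, 0, o.w] * (!![-1, 0, 0; 0, 0, -1; 0, -1, 0] : Matrix (Fin 3) (Fin 3) F) =
    !![-1, 0, 0; 0, 0, -1; 0, -1, 0] * !![1, 0, 0; 0, o.w, 0; 0, 0, o.w]
  ext i j; fin_cases i <;> fin_cases j <;> simp)

theorem four_comm_cent : four o * cent = cent * four o := by rw [← four_sq o, mul_assoc]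

theorem words_comm_cent {n : GL (Fin 3) F} (hn : n ∈ words o) : n * cent = cent * n := by
  have : words o ≤ Subgroup.centralizer {(cent : GL (Fin 3) F)} := by
    rw [words, Subgroup.closure_le]
    rintro _ (rfl | rfl)
    exacts [Subgroup.mem_centralizer_singleton_iff.2 (four_comm_cent o),
      Subgroup.mem_centralizer_singleton_iff.2 (tw_comm_cent o)]
  exact Subgroup.mem_centralizer_singleton_iff.1 (this hn)

theorem quat_mem_words (k : ℕ) : quat o k ∈ words o :=
  (words o).mul_mem ((words o).mul_mem ((words o).pow_mem (tw_mem_words o) k) (four_mem_words o))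
    ((words o).inv_mem ((words o).pow_mem (tw_mem_words o) k))

end CfsgLib.SympThree
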