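import Cfsg.Agent.Coprime.Generation
import Mathlib.GroupTheory.Transfer

/-!
# A group acted on by a non-cyclic group of exponent three with small centralisers

If every non-identity element of `E` has the same centraliser `A` in `K` and `A` looks like the alternating
group of degree four (elements of order three are self-centralising and not inverted), then `K ≤ A`.
-/

set_option autoImplicit false
set_option linter.unusedSectionVars false

namespace CfsgLib.SympThree

open Subgroup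

variable {X : Type*} [Group X]

/-- The hypotheses. -/
structure FourData (K A E : Subgroup X) : Prop where
  normal : K.Normal
  comm : IsMulCommutative E
  notCyclic : ¬ IsCyclic E
  exp : ∀ e ∈ E, e ^ 3 = 1
  disj : ∀ e ∈ E, e ∈ K → e = 1
  le : A ≤ K
  cent : ∀ e ∈ E, e ≠ 1 → ∀ k ∈ K, e * k = k * e → k ∈ A
  fix : ∀ e ∈ E, ∀ a ∈ A, e * a = a * e
  self : ∀ a ∈ A, a ^ 3 = 1 → a ≠ 1 → ∀ b ∈ A, b * a = a * b → b ∈ zpowers a
  notInv : ∀ a ∈ A, a ^ 3 = 1 → a ≠ 1 → ∀ b ∈ A, b * a * b⁻¹ ≠ a⁻¹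
  exists_three : ∃ a ∈ A, a ^ 3 = 1 ∧ a ≠ 1

variable {K A E : Subgroup X}

theorem FourData.isPGroup (D : FourData K A E) : IsPGroup 3 E := fun e => ⟨1, by
  rw [pow_one]
  exact Subtype.ext (D.exp e e.2)⟩

theorem FourData.exists_ne (D : FourData K A E) (Q : Subgroup X) [Finite X] (hQ : Nat.card Q ≤ 3) (f : X → X)
    (hf : ∀ e ∈ E, f e ∈ Q) : ∃ e ∈ E, ∃ e' ∈ E, e ≠ e' ∧ f e = f e' := by
  haveI := Fact.mk Nat.prime_three
  have h3 : 3 < Nat.card E := by
    obtain ⟨n, hn⟩ := IsPGroup.iff_card.1 D.isPGroup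
    match n with
    | 0 =>
      haveI : Subsingleton E := (Nat.card_eq_one_iff_unique.1 (by rw [hn, pow_zero])).1
      exact absurd isCyclic_of_subsingleton D.notCyclic
    | 1 => exact absurd (isCyclic_of_prime_card (p := 3) (by rw [hn, pow_one])) D.notCyclic
    | n + 2 =>
      rw [hn, pow_add]
      have : 1 ≤ 3 ^ n := Nat.one_le_pow _ _ (by norm_num)
      omega
  obtain ⟨⟨a, ha⟩, ⟨b, hb⟩, hab, e⟩ : ∃ a b : E, a ≠ b ∧ (⟨f a, hf a a.2⟩ : Q) = ⟨f b, hf b b.2⟩ := by
    by_contra hn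
    push Not at hn
    have := Nat.card_le_card_of_injective (fun a : E => (⟨f a, hf a a.2⟩ : Q))
      fun a b h => by_contra fun hne => hn a b hne h
    omega
  exact ⟨a, ha, b, hb, fun h => hab (Subtype.ext h), congrArg Subtype.val e⟩

/-- If `E` fixes `Q` pointwise and all displacements of `x` lie in `Q`, then `x` is in `A`. -/
theorem FourData.mem_of_disp (D : FourData K A E) [Finite X] {Q : Subgroup X} (hQ : Nat.card Q ≤ 3)
    (hQA : Q ≤ A) {x : X} (hx : x ∈ K) (h : ∀ e ∈ E, e * x * e⁻¹ * x⁻¹ ∈ Q) : x ∈ A := by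
  obtain ⟨a, ha, b, hb, hab, hf⟩ := D.exists_ne Q hQ (fun e => e * x * e⁻¹ * x⁻¹) h
  refine D.cent (a⁻¹ * b) (E.mul_mem (E.inv_mem ha) hb) (fun h1 => hab (inv_mul_eq_one.1 h1)) x hx ?_
  have : a * x * a⁻¹ = b * x * b⁻¹ := mul_right_cancel hf
  calc a⁻¹ * b * x = a⁻¹ * (b * x * b⁻¹) * b := by group
    _ = x * (a⁻¹ * b) := by rw [← this]; group

/-- Normal complements are in `A`. -/
theorem FourData.complement (D : FourData K A E) [Finite X] {C Q : Subgroup X} (hCK : C ≤ K) (hQC : Q ≤ C)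
    (hE : ∀ e ∈ E, ∀ x ∈ C, e * x * e⁻¹ ∈ C) (hQ : IsPGroup 3 Q) (hidx : ¬ 3 ∣ Q.relIndex C)
    (hN : ∀ x ∈ C, (∀ q ∈ Q, x * q * x⁻¹ ∈ Q) → ∀ q ∈ Q, x * q = q * x) :
    ∀ x ∈ C, ∃ d ∈ C, ∃ q ∈ Q, d ∈ A ∧ (orderOf d).Coprime 3 ∧ x = d * q := by
  haveI := Fact.mk Nat.prime_three
  have hP1 : IsPGroup 3 (Q.subgroupOf C) := hQ.of_equiv (subgroupOfEquivOfLe hQC).symm
  set P : Sylow 3 C := hP1.toSylow hidx with hP'
  have hmem : ∀ g : C, g ∈ (P : Subgroup C) ↔ (g : X) ∈ Q := fun g => Iff.rfl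
  have hP : normalizer ((P : Subgroup C) : Set C) ≤ centralizer ((P : Subgroup C) : Set C) := by
    intro g hg
    refine mem_centralizer_iff.2 fun q hq => Subtype.ext ?_
    exact (hN g g.2 (fun r hr => ((mem_normalizer_iff.1 hg ⟨r, hQC hr⟩).1 hr)) q hq).symm
  have hcomp := MonoidHom.ker_transferSylow_isComplement' P hP
  set W := (MonoidHom.transferSylow P hP).ker with hW
  have hWcop : (Nat.card W).Coprime 3 := (Nat.Prime.coprime_iff_not_dvd Nat.prime_three).2
    (MonoidHom.not_dvd_card_ker_transferSylow P hP) |>.symm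
  have hchar : ∀ y : C, (orderOf y).Coprime 3 → y ∈ W := by
    intro y hy
    rw [hW, MonoidHom.mem_ker, ← orderOf_eq_one_iff]
    obtain ⟨k, hk⟩ := IsPGroup.iff_orderOf.1 P.2 (MonoidHom.transferSylow P hP y)
    have h1 := orderOf_map_dvd (MonoidHom.transferSylow P hP) y
    rw [hk] at h1 ⊢
    exact Nat.eq_one_of_dvd_coprimes (hy.pow_right k) h1 dvd_rfl
  set W' := W.map C.subtype with hW'
  have hWA : W' ≤ A := by
    haveI := D.comm
    refine CfsgLib.Coprime.le_of_forall_inf_centralizer_le D.notCyclic ?_ ?_ fun a ha ha1 x hx => ?_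
    · intro e he
      have hle : ∀ e ∈ E, ∀ z ∈ W', e * z * e⁻¹ ∈ W' := by
        rintro e he _ ⟨z, hz, rfl⟩
        refine ⟨⟨e * (z : X) * e⁻¹, hE e he z z.2⟩, hchar _ ?_, rfl⟩
        rw [← orderOf_coe]
        show (orderOf (e * (z : X) * e⁻¹)).Coprime 3
        rw [← MulAut.conj_apply, MulEquiv.orderOf_eq, orderOf_coe]
        exact hWcop.coprime_dvd_left (Subgroup.orderOf_dvd_natCard W hz)
      refine mem_normalizer_iff.2 fun z => ⟨hle e he z, fun hz => ?_⟩
      have := hle e⁻¹ (E.inv_mem he) _ hz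
      simpa [mul_assoc] using this
    · obtain ⟨n, hn⟩ := IsPGroup.iff_card.1 D.isPGroup
      rw [hn, hW', card_map_of_injective C.subtype_injective]
      exact (hWcop.symm).pow_left n
    · obtain ⟨hxW, hxc⟩ := hx
      obtain ⟨z, -, rfl⟩ := hxW
      exact D.cent a ha ha1 _ (hCK z.2) (mem_centralizer_singleton_iff.1 hxc).symm
  intro x hx
  obtain ⟨⟨w, p⟩, hwp⟩ := hcomp.2 (⟨x, hx⟩ : C)
  refine ⟨(w : C), (w : C).2, (p : C), (hmem _).1 p.2, hWA ⟨w, w.2, rfl⟩, ?_, (congrArg Subtype.val hwp).symm⟩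
  rw [orderOf_coe]
  exact hWcop.coprime_dvd_left (Subgroup.orderOf_dvd_natCard W w.2)

theorem card_zpowers_three {a : X} (ha : a ^ 3 = 1) (ha1 : a ≠ 1) : Nat.card (zpowers a) = 3 := by
  haveI := Fact.mk Nat.prime_three
  rw [Nat.card_zpowers, orderOf_eq_prime ha ha1]

theorem FourData.le_normalizer (D : FourData K A E) {Q : Subgroup X} (hQ : Q ≤ A) :
    E ≤ normalizer (Q : Set X) := fun e he => mem_normalizer_iff.2 fun q => by
  refine ⟨fun hq => ?_, fun hq => ?_⟩
  · rwa [D.fix e he q (hQ hq), mul_inv_cancel_right]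
  · have h2 := D.fix e⁻¹ (E.inv_mem he) _ (hQ hq)
    have h3 : q = e * q * e⁻¹ := by
      calc q = e⁻¹ * (e * q * e⁻¹) * e := by group
        _ = e * q * e⁻¹ := by rw [h2, inv_mul_cancel_right]
    rwa [← h3] at hq

/-- A subgroup of `A` of `3`-power order has order at most three. -/
theorem FourData.small (D : FourData K A E) [Finite X] {Q : Subgroup X} (hQ : IsPGroup 3 Q) (hQA : Q ≤ A) :
    Nat.card Q ≤ 3 := by
  haveI := Fact.mk Nat.prime_three
  rcases subsingleton_or_nontrivial Q with h | h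
  · have : Nat.card Q ≤ 1 := Finite.card_le_one_iff_subsingleton.2 h
    omega
  haveI := hQ.center_nontrivial
  obtain ⟨z, hz⟩ := exists_prime_orderOf_dvd_card' 3 (G := Subgroup.center Q) (by
    obtain ⟨n, hn⟩ := IsPGroup.iff_card.1 (hQ.to_subgroup (Subgroup.center Q))
    rw [hn]
    refine dvd_pow_self 3 fun h0 => ?_
    rw [h0, pow_zero] at hn
    exact absurd hn (Finite.one_lt_card (α := Subgroup.center Q)).ne')
  set a : X := ((z : Q) : X)
  have ha : a ^ 3 = 1 := by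
    have := pow_orderOf_eq_one z
    rw [hz] at this
    exact congrArg (fun t : Subgroup.center Q => ((t : Q) : X)) this
  have ha1 : a ≠ 1 := fun h1 => by
    rw [show z = 1 from Subtype.ext (Subtype.ext h1), orderOf_one] at hz
    norm_num at hz
  rw [← card_zpowers_three ha ha1]
  refine card_le_of_le fun b hb => D.self a (hQA (z : Q).2) ha ha1 b (hQA hb) ?_
  exact congrArg Subtype.val (Subgroup.mem_center_iff.1 z.2 ⟨b, hb⟩)

/-- `A` contains a Sylow `3`-subgroup of `K` of order three. -/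
theorem FourData.sylow (D : FourData K A E) [Finite X] :
    ∃ a ∈ A, a ^ 3 = 1 ∧ a ≠ 1 ∧ ¬ 3 ∣ (zpowers a).relIndex K := by
  classical
  haveI := Fact.mk Nat.prime_three
  haveI := D.normal
  letI : MulDistribMulAction E K :=
    MulDistribMulAction.compHom K ((MulAut.conjNormal (H := K)).comp E.subtype)
  obtain ⟨P, hP⟩ := D.isPGroup.nonempty_fixed_point_of_prime_not_dvd_card (α := Sylow 3 K)
    (not_dvd_card_sylow 3 K)
  set PX := (P : Subgroup K).map K.subtype with hPX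
  have hPK : PX ≤ K := map_subtype_le _
  have hPE : ∀ e ∈ E, ∀ x ∈ PX, e * x * e⁻¹ ∈ PX := by
    rintro e he _ ⟨x, hx, rfl⟩
    refine ⟨(⟨e, he⟩ : E) • x, ?_, MulAut.conjNormal_apply e x⟩
    have h1 : ((⟨e, he⟩ : E) • P).toSubgroup = (P : Subgroup K) := congrArg Sylow.toSubgroup (hP ⟨e, he⟩)
    rw [← h1]
    exact Subgroup.smul_mem_pointwise_smul x _ _ hx
  have hPp : IsPGroup 3 PX := P.2.map _
  set Q := PX ⊓ A with hQ
  have hQp : IsPGroup 3 Q := hPp.to_le inf_le_left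
  have hQ3 : Nat.card Q ≤ 3 := D.small hQp inf_le_right
  -- no room above `Q`
  have hPQ : PX ≤ A := by
    by_contra hne
    have hEN : E ≤ normalizer (PX : Set X) := fun e he => mem_normalizer_iff.2 fun x =>
      ⟨hPE e he x, fun hx => by simpa [mul_assoc] using hPE e⁻¹ (E.inv_mem he) _ hx⟩
    have hsup : IsPGroup 3 (PX ⊔ E : Subgroup X) := hPp.to_sup_of_normal_left' D.isPGroup hEN
    haveI : Group.IsNilpotent (PX ⊔ E : Subgroup X) := hsup.isNilpotent
    have hlt : (Q ⊔ E).subgroupOf (PX ⊔ E) < ⊤ := by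
      refine lt_top_iff_ne_top.2 fun h => hne fun x hx => ?_
      have hx' : x ∈ Q ⊔ E := subgroupOf_eq_top.1 h (mem_sup_left hx)
      rw [← SetLike.mem_coe, coe_mul_of_right_le_normalizer_left] at hx'
      · obtain ⟨q, hq, e, he, rfl⟩ := hx'
        rw [SetLike.mem_coe] at hq he
        have he1 : e = 1 := D.disj e he (by
          have := K.mul_mem (K.inv_mem (hPK hq.1)) (hPK hx)
          simpa using this)
        show q * e ∈ A
        rw [he1, mul_one]
        exact hq.2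
      · exact D.le_normalizer inf_le_right
    obtain ⟨y, hyN, hy⟩ := SetLike.exists_of_lt (Group.normalizerCondition_of_isNilpotent _ hlt)
    have hyU : (y : X) ∈ PX ⊔ E := y.2
    rw [← SetLike.mem_coe, coe_mul_of_right_le_normalizer_left _ _ hEN] at hyU
    obtain ⟨x, hx, e, he, hxe⟩ := hyU
    rw [SetLike.mem_coe] at hx he
    have hxQ : x ∉ A := fun hxA => hy (by
      rw [mem_subgroupOf, ← hxe]
      exact mul_mem_sup (⟨hx, hxA⟩ : x ∈ Q) he)
    refine hxQ (D.mem_of_disp hQ3 inf_le_right (hPK hx) fun f hf => ?_)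
    have hc := (mem_normalizer_iff.1 hyN ⟨f, mem_sup_right hf⟩).1 (mem_subgroupOf.2 (mem_sup_right hf))
    rw [mem_subgroupOf] at hc
    replace hc : x * f * x⁻¹ ∈ Q ⊔ E := by
      have h2 : ((y * ⟨f, mem_sup_right hf⟩ * y⁻¹ : (PX ⊔ E : Subgroup X)) : X) = x * f * x⁻¹ := by
        haveI := D.comm
        have hef : e * f = f * e := congrArg Subtype.val (mul_comm' (⟨e, he⟩ : E) ⟨f, hf⟩)
        show (y : X) * f * (y : X)⁻¹ = _
        rw [← hxe]
        show x * e * f * (x * e)⁻¹ = _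
        rw [mul_assoc x e f, hef]
        group
      rw [← h2]; exact hc
    have hd : f * x * f⁻¹ * x⁻¹ ∈ PX := PX.mul_mem (hPE f hf x hx) (PX.inv_mem hx)
    have hd' : f * x * f⁻¹ * x⁻¹ ∈ Q ⊔ E := by
      have := (Q ⊔ E).mul_mem (mem_sup_right (E.inv_mem hf) : f⁻¹ ∈ Q ⊔ E) ((Q ⊔ E).one_mem)
      have h3 := (Q ⊔ E).mul_mem (mem_sup_right hf : f ∈ Q ⊔ E) ((Q ⊔ E).inv_mem hc)
      simpa [mul_assoc] using h3
    rw [← SetLike.mem_coe, coe_mul_of_right_le_normalizer_left] at hd'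
    · obtain ⟨q, hq, g, hg, hqg⟩ := hd'
      rw [SetLike.mem_coe] at hq hg
      have hg1 : g = 1 := D.disj g hg (by
        have := K.mul_mem (K.inv_mem (hPK hq.1)) (hPK hd)
        rw [← hqg] at this
        simpa using this)
      rw [← hqg, hg1]
      simpa using hq
    · exact D.le_normalizer inf_le_right
  obtain ⟨a₀, ha₀A, ha₀, ha₀1⟩ := D.exists_three
  have hcard : Nat.card PX ≤ 3 := le_trans (card_le_of_le fun x hx => (⟨hx, hPQ hx⟩ : x ∈ Q)) hQ3
  have h3K : 3 ∣ Nat.card K := by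
    rw [← card_zpowers_three ha₀ ha₀1]
    exact card_dvd_of_le (zpowers_le.2 (D.le ha₀A))
  have hPcard : Nat.card PX = Nat.card (P : Subgroup K) := card_map_of_injective K.subtype_injective
  have h3P : 3 ∣ Nat.card (P : Subgroup K) := P.dvd_card_of_dvd_card h3K
  obtain ⟨a, ha⟩ := exists_prime_orderOf_dvd_card' 3 (G := PX) (hPcard ▸ h3P)
  have ha3 : (a : X) ^ 3 = 1 := by rw [← ha, ← orderOf_coe, pow_orderOf_eq_one]
  have ha1 : (a : X) ≠ 1 := fun h => by rw [← orderOf_coe, h, orderOf_one] at ha; norm_num at ha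
  refine ⟨a, hPQ a.2, ha3, ha1, ?_⟩
  have hz : zpowers (a : X) = PX := eq_of_le_of_card_ge (zpowers_le.2 a.2) (by rw [card_zpowers_three ha3 ha1]; exact hcard)
  rw [hz, relIndex, hPX, subgroupOf, comap_map_eq_self_of_injective K.subtype_injective]
  exact P.not_dvd_index

/-- **The conclusion.** -/
theorem FourData.le' (D : FourData K A E) [Finite X] : K ≤ A := by
  classical
  haveI := Fact.mk Nat.prime_three
  obtain ⟨a, haA, ha, ha1, hidx⟩ := D.sylow
  set Q := zpowers a with hQ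
  have hQp : IsPGroup 3 Q := IsPGroup.of_card (n := 1) (by rw [hQ, card_zpowers_three ha ha1, pow_one])
  have hQA : Q ≤ A := zpowers_le.2 haA
  have hQK : Q ≤ K := hQA.trans D.le
  have hcomm : ∀ x : X, x * a = a * x → ∀ q ∈ Q, x * q = q * x := by
    intro x hx q hq
    obtain ⟨n, rfl⟩ := mem_zpowers_iff.1 hq
    exact (Commute.zpow_right hx n).eq
  -- the centraliser of `Q`
  have hC : ∀ x ∈ K, x * a = a * x → x ∈ Q := by
    set C := K ⊓ centralizer ({a} : Set X) with hC'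
    have hQC : Q ≤ C := le_inf hQK (zpowers_le.2 (mem_centralizer_singleton_iff.2 rfl))
    intro x hx hxa
    obtain ⟨d, hdC, q, hq, hdA, hd, rfl⟩ := D.complement (C := C) (Q := Q) inf_le_left hQC (fun e he z hz =>
        ⟨D.normal.conj_mem z hz.1 e, mem_centralizer_singleton_iff.2 (by
          have hea := D.fix e he a haA
          have hza := mem_centralizer_singleton_iff.1 hz.2
          calc e * z * e⁻¹ * a = e * (z * (e⁻¹ * a * e)) * e⁻¹ := by group
            _ = e * (z * a) * e⁻¹ := by rw [mul_assoc e⁻¹, ← hea]; group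
            _ = (e * a) * z * e⁻¹ := by rw [hza]; group
            _ = a * (e * z * e⁻¹) := by rw [hea]; group)⟩)
      hQp (fun h => hidx (h.trans ⟨_, (relIndex_mul_relIndex Q C K hQC inf_le_left).symm⟩))
      (fun z hz _ => hcomm z (mem_centralizer_singleton_iff.1 hz.2))
      x ⟨hx, mem_centralizer_singleton_iff.2 hxa⟩
    have hdQ : d ∈ Q := D.self a haA ha ha1 d hdA (mem_centralizer_singleton_iff.1 hdC.2)
    exact Q.mul_mem hdQ hq
  -- no element inverts `a`
  have hN : ∀ x ∈ K, (∀ q ∈ Q, x * q * x⁻¹ ∈ Q) → ∀ q ∈ Q, x * q = q * x := by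
    intro x hx hxQ q hq
    refine hcomm x ?_ q hq
    have h := hxQ a (mem_zpowers a)
    rw [hQ, ← mem_powers_iff_mem_zpowers, Submonoid.mem_powers_iff] at h
    obtain ⟨n, hn⟩ := h
    rw [pow_eq_pow_mod n ha] at hn
    have hn3 : n % 3 < 3 := Nat.mod_lt _ (by norm_num)
    interval_cases hk : n % 3
    · rw [pow_zero] at hn
      exact absurd (conj_eq_one_iff.1 hn.symm) ha1
    · rw [pow_one] at hn
      exact mul_inv_eq_iff_eq_mul.1 hn.symm
    exfalso
    have hinv : x * a * x⁻¹ = a⁻¹ := by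
      rw [← hn]; exact eq_inv_of_mul_eq_one_left (by rw [← pow_succ, ha])
    have hxx : x * x ∈ Q := hC _ (K.mul_mem hx hx) (mul_inv_eq_iff_eq_mul.1 (by
      calc x * x * a * (x * x)⁻¹ = x * (x * a * x⁻¹) * x⁻¹ := by group
        _ = a := by rw [hinv, ← conj_inv, hinv, inv_inv]))
    set i := x * x * x with hi
    have hiinv : i * a * i⁻¹ = a⁻¹ := by
      calc i * a * i⁻¹ = x * (x * (x * a * x⁻¹) * x⁻¹) * x⁻¹ := by rw [hi]; group
        _ = a⁻¹ := by rw [hinv, ← conj_inv, hinv, inv_inv, hinv]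
    have hiK : i ∈ K := K.mul_mem (K.mul_mem hx hx) hx
    refine D.notInv a haA ha ha1 i (D.mem_of_disp (Q := Q) (le_of_eq (card_zpowers_three ha ha1)) hQA hiK
      fun e he => hC _ (K.mul_mem (D.normal.conj_mem i hiK e) (K.inv_mem hiK)) ?_) hiinv
    have hea : e * a * e⁻¹ = a := by rw [D.fix e he a haA, mul_inv_cancel_right]
    have hea' : e⁻¹ * a * e = a := by rw [mul_assoc, ← D.fix e he a haA, inv_mul_cancel_left]
    have hiinv' : i⁻¹ * a * i = a⁻¹ := by
      rw [← inv_inj, inv_inv]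
      calc (i⁻¹ * a * i)⁻¹ = i⁻¹ * a⁻¹ * i := by group
        _ = a := by rw [← hiinv]; group
    refine mul_inv_eq_iff_eq_mul.1 ?_
    calc e * i * e⁻¹ * i⁻¹ * a * (e * i * e⁻¹ * i⁻¹)⁻¹
        = e * i * (e⁻¹ * (i⁻¹ * a * i) * e) * i⁻¹ * e⁻¹ := by group
      _ = e * (i * (e⁻¹ * a * e)⁻¹ * i⁻¹) * e⁻¹ := by rw [hiinv']; group
      _ = e * a * e⁻¹ := by rw [hea', ← conj_inv, hiinv, inv_inv]
      _ = a := hea
  intro x hx
  obtain ⟨d, -, q, hq, hdA, -, rfl⟩ := D.complement le_rfl hQK (fun e _ z hz => D.normal.conj_mem z hz e) hQp hidx hN x hx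
  exact A.mul_mem hdA (hQA hq)

end CfsgLib.SympThree
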