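import Cfsg.Agent.SympThree.Fixed
import Cfsg.Agent.SympThree.Four

/-!
# The kernel of the action on the fixed space

If elements commuting with a block element normalise, an element of the overgroup commuting with the involution
and scalar on its fixed space is a Kronecker factor `cn n`.
-/

set_option autoImplicit false
set_option linter.unusedSectionVars false

namespace CfsgLib.SympThree

open Matrix Cfsg.Geo CfsgLib.SLThree.Hessian
open scoped Kronecker

local notation:max "mat" => Units.val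

variable {F : Type*} [Field F] [Finite F] {o : Omega F} {A : Amb o} {M : Subgroup (GL Ix F)}

/-- Elements commuting with the block element normalise. -/
def ClockGood (o : Omega F) (M : Subgroup (GL Ix F)) : Prop :=
  ∀ g ∈ M, g * bl (clock o) = bl (clock o) * g → g ∈ subgroupNormalizer (R₀ o)

/-- `± 1`. -/
def Pm (S : Mat2) : Prop := S = id2 ∨ S = neg2

instance : DecidablePred Pm := fun S => inferInstanceAs (Decidable (_ ∨ _))

theorem scalar_bh {g : hS (F := F)} (h : pr (bh g) = 1) : ∃ c : F, mat (bh g) = c • 1 := pr_eq_one.1 h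

theorem Over.structure_clock (hC : ClockGood o M) {g : hS (F := F)} (hg : (g : GL Ix F) ∈ M)
    (hc : (g : GL Ix F) * bl (clock o) = bl (clock o) * (g : GL Ix F)) (hb : pr (bh g) = 1) :
    ∃ n, (g : GL Ix F) = cn n ∧ n ∈ subgroupNormalizer (heis o) ∧ n * cent = cent * n := by
  obtain ⟨f, hf⟩ := exists_bd o hc
  obtain ⟨S, hS'⟩ := exists_acts_of_bd o (hf ▸ hC _ hg hc)
  have hcent : ∀ i, f i * cent = cent * f i := fun i => by
    have h := mem_hS.1 g.2
    rw [hf, cn, MonoidHom.comp_apply, ← map_mul, ← map_mul] at h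
    exact congrFun (bd_injective h) i
  obtain ⟨c, hc'⟩ := pr_eq_one.1 hb
  have hc0 : c ≠ 0 := fun h0 => (bh g).ne_zero (by rw [hc', h0, zero_smul])
  have hlam : ∀ i, mat (f i) 1 1 - mat (f i) 1 2 = c := fun i => by
    have := congrFun (congrFun hc' i) i
    rw [bh_val, hf] at this
    simpa [bmat, bd_val, blockDiagonal_apply] using this
  have heq : ∀ i, f i = f 0 := by
    intro i
    set x := (f 0)⁻¹ * f i
    have hx : Acts o x id2 := by
      have h1 := (hS' 0).inv.mul o (hS' i)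
      have h3 := (hS' 0).inv.mul o (hS' 0)
      rw [inv_mul_cancel] at h3
      exact h3.unique o (acts_one o) ▸ h1
    have hxc : cent * x = x * cent := by
      have h0 : Commute (f 0) cent := hcent 0
      have hi : Commute (f i) cent := hcent i
      exact ((h0.inv_left).mul_left hi).eq.symm
    obtain ⟨k, hk⟩ := scalar_of_comm_cent o hx hxc
    have e : mat (f i) = k • mat (f 0) := by
      rw [show f i = f 0 * x from (mul_inv_cancel_left (f 0) (f i)).symm, Units.val_mul, hk, mul_smul_comm, mul_one]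
    have hk1 : k = 1 := by
      have h1 := hlam i
      rw [e, Matrix.smul_apply, Matrix.smul_apply, smul_eq_mul, smul_eq_mul, ← mul_sub, hlam 0] at h1
      exact mul_right_cancel₀ hc0 (by rw [h1, one_mul])
    exact Units.ext (by rw [e, hk1, one_smul])
  refine ⟨f 0, ?_, (hS' 0).mem_normalizer o, hcent 0⟩
  rw [hf, cn, MonoidHom.comp_apply]
  congr 1
  funext i
  exact heq i

theorem Over.structure_point (O : Over A M) (hC : ClockGood o M) {g : hS (F := F)} (hg : (g : GL Ix F) ∈ M)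
    {v : Pnt} (hv : v ≠ 0) (hc : (g : GL Ix F) * bl (mono o v) = bl (mono o v) * (g : GL Ix F))
    (hb : pr (bh g) = 1) :
    ∃ n, (g : GL Ix F) = cn n ∧ n ∈ subgroupNormalizer (heis o) ∧ n * cent = cent * n := by
  obtain ⟨n, hn, hsend⟩ := exists_word_sends o hv
  set N' : hS (F := F) := ⟨bl n, bl_mem_hS n⟩
  set g' := N' * g * N'⁻¹
  have hg' : (g' : GL Ix F) ∈ M := M.mul_mem (M.mul_mem (O.bl_word hn) hg) (M.inv_mem (O.bl_word hn))
  obtain ⟨c, hc'⟩ := pr_eq.1 (show pr (n * mono o v * n⁻¹) = pr (clock o) by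
    rw [map_mul, map_mul, map_inv, ← mono_fst o]; exact hsend)
  have hc0 : c ≠ 0 := fun h0 => (n * mono o v * n⁻¹).ne_zero (by rw [hc', h0, zero_smul])
  have hcomm : (g' : GL Ix F) * bl (clock o) = bl (clock o) * (g' : GL Ix F) := by
    have h1 : (g' : GL Ix F) * bl (n * mono o v * n⁻¹) = bl (n * mono o v * n⁻¹) * (g' : GL Ix F) := by
      show bl n * (g : GL Ix F) * (bl n)⁻¹ * _ = _ * (bl n * (g : GL Ix F) * (bl n)⁻¹)
      simp only [map_mul, map_inv]
      calc bl n * (g : GL Ix F) * (bl n)⁻¹ * (bl n * bl (mono o v) * (bl n)⁻¹)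
          = bl n * ((g : GL Ix F) * bl (mono o v)) * (bl n)⁻¹ := by group
        _ = _ := by rw [hc]; group
    have e : mat (bl (n * mono o v * n⁻¹)) = c • mat (bl (clock o)) := by
      rw [bl_val, bl_val, hc', Matrix.kronecker_smul]
    apply Units.ext
    have h2 := congrArg (fun x : GL Ix F => mat x) h1
    simp only [Units.val_mul, e, mul_smul_comm, smul_mul_assoc] at h2
    simpa only [Units.val_mul] using smul_right_injective _ hc0 h2
  obtain ⟨m, hm, hmN, hmc⟩ := Over.structure_clock hC hg' hcomm (by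
    rw [map_mul, map_mul, map_inv, map_mul, map_mul, hb, mul_one, map_inv, mul_inv_cancel])
  refine ⟨m, ?_, hmN, hmc⟩
  have : (g : GL Ix F) = (bl n)⁻¹ * cn m * bl n := by
    rw [← hm]
    show (g : GL Ix F) = (bl n)⁻¹ * (bl n * (g : GL Ix F) * (bl n)⁻¹) * bl n
    group
  rw [this, mul_assoc, (cn_bl_comm m n).eq, inv_mul_cancel_left]

theorem cn_eq_smul {n : GL (Fin 3) F} {m : GL (Fin 3) F} {c : F} (h : mat (cn n) = c • mat (cn m)) :
    mat n = c • mat m := by
  ext a b
  have := congrFun (congrFun h (a, 0)) (b, 0)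
  rw [Matrix.smul_apply, cn_val, cn_val] at this
  simpa [kroneckerMap_apply] using this

theorem sup_cases {x : GL Ix F} (h : x ∈ scalars Ix F ⊔ Subgroup.zpowers (cn cent)) :
    ∃ c : Fˣ, mat x = (c : F) • 1 ∨ mat x = (c : F) • mat (cn (cent : GL (Fin 3) F)) := by
  haveI : (scalars Ix F).Normal := scalars_normal
  obtain ⟨y, hy, z, hz, rfl⟩ := Subgroup.mem_sup_of_normal_left.1 h
  obtain ⟨c, hc⟩ := (mem_scalars_iff y).1 hy
  obtain ⟨k, rfl⟩ := Subgroup.mem_zpowers_iff.1 hz
  have h2 : (cn (cent : GL (Fin 3) F)) ^ (2 : ℤ) = 1 := by rw [zpow_two, ← map_mul, cent_mul_self, map_one]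
  refine ⟨c, ?_⟩
  rcases Int.even_or_odd' k with ⟨j, rfl | rfl⟩
  · left; rw [Units.val_mul, hc, _root_.zpow_mul, h2, _root_.one_zpow, Units.val_one, mul_one]
  · right; rw [Units.val_mul, hc, _root_.zpow_add, _root_.zpow_mul, h2, _root_.one_zpow, one_mul, zpow_one, smul_mul_assoc, one_mul]

theorem sup_of_pm {n : GL (Fin 3) F} {S : Mat2} (hS' : Acts o n S) (hp : Pm S) (hc : n * cent = cent * n) :
    cn n ∈ scalars Ix F ⊔ Subgroup.zpowers (cn cent) := by
  have main : ∀ m : GL (Fin 3) F, Acts o m id2 → m * cent = cent * m →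
      cn m ∈ scalars Ix F ⊔ Subgroup.zpowers (cn cent) := fun m hm hmc => by
    obtain ⟨c, hc'⟩ := scalar_of_comm_cent o hm hmc.symm
    refine Subgroup.mem_sup_left ((mem_scalars_iff _).2 ⟨Units.mk0 c (fun h0 => m.ne_zero (by rw [hc', h0, zero_smul])), ?_⟩)
    rw [Units.val_mk0, cn_val, hc', Matrix.smul_kronecker, one_kronecker_one]
  rcases hp with rfl | rfl
  · exact main n hS' hc
  · have h1 : Acts o (n * cent) id2 := by
      have := hS'.mul o (acts_cent o)
      rwa [show cmp neg2 neg2 = id2 by decide] at this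
    have h2 := main _ h1 (by rw [mul_assoc, cent_mul_self, ← mul_assoc, ← hc, mul_assoc, cent_mul_self])
    rw [map_mul] at h2
    have := Subgroup.mul_mem _ h2
      (Subgroup.mem_sup_right (Subgroup.mem_zpowers (cn (cent : GL (Fin 3) F))))
    rwa [mul_assoc, ← map_mul, cent_mul_self, map_one, mul_one] at this

theorem pm_of_sup {n : GL (Fin 3) F} {S : Mat2} (hS' : Acts o n S)
    (h : cn n ∈ scalars Ix F ⊔ Subgroup.zpowers (cn cent)) : Pm S := by
  obtain ⟨c, hc | hc⟩ := sup_cases h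
  · left
    rw [← Units.val_one, ← map_one cn] at hc
    exact hS'.unique o (Acts.congr o (pr_eq.2 ⟨_, cn_eq_smul hc⟩) (acts_one o))
  · right
    exact hS'.unique o (Acts.congr o (pr_eq.2 ⟨_, cn_eq_smul hc⟩) (acts_cent o))

set_option maxHeartbeats 2000000 in
set_option synthInstance.maxSize 1000 in
theorem self_table : ∀ S : Mat2, dt S.1 S.2 = 1 → Pm (cmp S (cmp S S)) → ¬ Pm S → ∀ T : Mat2, dt T.1 T.2 = 1 →
    Pm (cmp (cmp S T) (adj (cmp T S))) →
      Pm T ∨ Pm (cmp T (adj S)) ∨ Pm (cmp T S) := by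
  decide +kernel

set_option maxHeartbeats 2000000 in
set_option synthInstance.maxSize 1000 in
theorem notInv_table : ∀ S : Mat2, dt S.1 S.2 = 1 → Pm (cmp S (cmp S S)) → ¬ Pm S → ∀ T : Mat2, dt T.1 T.2 = 1 →
    ¬ Pm (cmp (cmp T (cmp S (adj T))) S) := by
  decide +kernel

set_option maxHeartbeats 1600000 in
/-- **The kernel.** -/
theorem Over.kernel (O : Over A M) (hC : ClockGood o M) {g : hS (F := F)} (hg : (g : GL Ix F) ∈ M)
    (hb : pr (bh g) = 1) : ∃ n, (g : GL Ix F) = cn n ∧ n ∈ subgroupNormalizer (heis o) ∧ n * cent = cent * n := by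
  classical
  let H : Subgroup (GL Ix F) := M ⊓ hS
  let bH : H →* GL (Fin 3) F := bh.comp (Subgroup.inclusion inf_le_right)
  let Z : Subgroup H := (scalars Ix F ⊔ Subgroup.zpowers (cn cent)).subgroupOf H
  have hcen : ∀ z : H, z ∈ Z → ∀ x : H, z * x = x * z := by
    intro z hz x
    apply Subtype.ext
    show (z : GL Ix F) * (x : GL Ix F) = (x : GL Ix F) * (z : GL Ix F)
    obtain ⟨c, hc | hc⟩ := sup_cases (Subgroup.mem_subgroupOf.1 hz)
    · exact Units.ext (by rw [Units.val_mul, Units.val_mul, hc, smul_mul_assoc, one_mul, mul_smul_comm, mul_one])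
    · refine Units.ext ?_
      rw [Units.val_mul, Units.val_mul, hc, smul_mul_assoc, mul_smul_comm]
      congr 1
      exact (congrArg (fun y : GL Ix F => mat y) (mem_hS.1 x.2.2)).symm
  haveI hZn : Z.Normal := ⟨fun z hz x => by rwa [← hcen z hz x, mul_inv_cancel_right]⟩
  let q := QuotientGroup.mk' Z
  have hq : ∀ {a b : H}, q a = q b → ∃ z ∈ Z, b = a * z := fun {a b} h =>
    ⟨a⁻¹ * b, QuotientGroup.eq.1 h, (mul_inv_cancel_left a b).symm⟩
  have hbZ : ∀ z : H, z ∈ Z → pr (bH z) = 1 := by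
    intro z hz
    obtain ⟨c, hc | hc⟩ := sup_cases (Subgroup.mem_subgroupOf.1 hz) <;> refine pr_eq_one.2 ⟨c, ?_⟩ <;>
      show bmat (mat (z : GL Ix F)) = _
    · rw [hc]; ext i k; simp [bmat, Matrix.one_apply, Prod.ext_iff]
    · rw [hc, cn_val]; ext i k
      simp only [bmat, Matrix.of_apply, Matrix.smul_apply, kroneckerMap_apply, smul_eq_mul, ← mul_sub, ← sub_mul,
        cent_lam, one_mul]
  let K' : Subgroup H := (pr.comp bH).ker
  let A' : Subgroup H := (((subgroupNormalizer (heis o)) ⊓ Subgroup.centralizer {cent}).map cn).subgroupOf H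
  let K : Subgroup (H ⧸ Z) := K'.map q
  let Aq : Subgroup (H ⧸ Z) := A'.map q
  have hblH : ∀ x ∈ heis o, bl x ∈ H := fun x hx => ⟨O.bl_heis hx, bl_mem_hS x⟩
  let E' : Subgroup H := ((heis o).map bl).subgroupOf H
  let Eq' : Subgroup (H ⧸ Z) := E'.map q
  have hEmem : ∀ e ∈ Eq', ∃ (v : Pnt) (h : bl (mono o v) ∈ H), e = q ⟨_, h⟩ := by
    rintro _ ⟨x, ⟨y, hy, hxy⟩, rfl⟩
    obtain ⟨v, hv⟩ := pr_of_mem o hy
    refine ⟨v, hblH _ (mono_mem o v), QuotientGroup.eq.2 (Subgroup.mem_subgroupOf.2 (Subgroup.mem_sup_left ?_))⟩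
    obtain ⟨c, hc⟩ := pr_eq.1 hv.symm
    refine (mem_scalars_iff _).2 ⟨Units.mk0 c (fun h0 => (mono o v).ne_zero (by rw [hc, h0, zero_smul])), ?_⟩
    show mat ((x : GL Ix F)⁻¹ * bl (mono o v)) = c • 1
    rw [show (x : GL Ix F) = bl y from hxy.symm, ← map_inv, ← map_mul, bl_val, Units.val_mul, hc, mul_smul_comm,
      Units.inv_mul, Matrix.kronecker_smul, one_kronecker_one]
  have hbbl : ∀ (v : Pnt) (h : bl (mono o v) ∈ H), bH ⟨_, h⟩ = mono o v := fun v h => bh_bl (bl_mem_hS _)
  have hq1 : ∀ v : Pnt, ∀ h : bl (mono o v) ∈ H, pr (bH ⟨_, h⟩) = 1 → v = 0 := by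
    intro v h hv
    rw [hbbl] at hv
    exact pr_mono_inj o (hv.trans (by rw [mono_zero, map_one]))
  have hA : ∀ a ∈ Aq, ∃ (n : GL (Fin 3) F) (S : Mat2) (h : cn n ∈ H), Acts o n S ∧ n * cent = cent * n ∧
      a = q ⟨_, h⟩ := by
    rintro _ ⟨⟨x, hx⟩, ⟨n, hn, hxn⟩, rfl⟩
    obtain ⟨S, hS'⟩ := exists_acts o hn.1
    change cn n = x at hxn
    subst hxn
    exact ⟨n, S, hx, hS', Subgroup.mem_centralizer_singleton_iff.1 hn.2, rfl⟩
  have hpm : ∀ {n : GL (Fin 3) F} {S : Mat2} (h : cn n ∈ H), Acts o n S → n * cent = cent * n →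
      (q ⟨_, h⟩ = 1 ↔ Pm S) := fun {n S} h hS' hc => by
    rw [show (q ⟨_, h⟩ = 1) = ((⟨cn n, h⟩ : H) ∈ Z) from propext (QuotientGroup.eq_one_iff _), Subgroup.mem_subgroupOf]
    exact ⟨fun h' => pm_of_sup hS' h', fun h' => sup_of_pm hS' h' hc⟩
  have hA3 : ∀ {n : GL (Fin 3) F} {S : Mat2} (h : cn n ∈ H), Acts o n S → n * cent = cent * n →
      (q ⟨_, h⟩) ^ 3 = 1 → q ⟨_, h⟩ ≠ 1 → Pm (cmp S (cmp S S)) ∧ ¬ Pm S := by
    intro n S h hS' hc h3 h1
    refine ⟨?_, fun hp => h1 ((hpm h hS' hc).2 hp)⟩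
    have hc3 : Commute (n * (n * n)) cent := (show Commute n cent from hc).mul_left
      ((show Commute n cent from hc).mul_left hc)
    refine (hpm (n := n * (n * n)) (by rw [map_mul, map_mul]; exact H.mul_mem h (H.mul_mem h h))
      (hS'.mul o (hS'.mul o hS')) hc3.eq).1 ?_
    rw [← map_pow] at h3
    refine Eq.trans (congrArg q (Subtype.ext ?_)) h3
    simp [pow_succ, pow_two, mul_assoc]
  have hD : FourData K Aq Eq' := by
    constructor
    · exact Subgroup.Normal.map inferInstance q (QuotientGroup.mk'_surjective Z)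
    · refine ⟨⟨fun a b => Subtype.ext ?_⟩⟩
      obtain ⟨u, hu, hu'⟩ := hEmem a a.2
      obtain ⟨v, hv, hv'⟩ := hEmem b b.2
      show (a : H ⧸ Z) * b = b * a
      rw [hu', hv', ← map_mul, ← map_mul]
      refine QuotientGroup.eq.2 (Subgroup.mem_subgroupOf.2 (Subgroup.mem_sup_left ((mem_scalars_iff _).2
        ⟨Units.mk0 (o.w ^ (dt v u).val) (pow_ne_zero _ o.ne_zero), ?_⟩)))
      show mat ((bl (mono o u) * bl (mono o v))⁻¹ * (bl (mono o v) * bl (mono o u))) = _
      rw [← map_mul, ← map_mul, ← map_inv, ← map_mul, bl_val, Units.val_mul, Units.val_mul (mono o v), mono_swap,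
        mul_smul_comm, ← Units.val_mul (mono o u), Units.inv_mul, Matrix.kronecker_smul, one_kronecker_one,
        Units.val_mk0]
    · intro hcyc
      haveI := hcyc
      have h3 : Monoid.exponent Eq' ∣ 3 := by
        refine Monoid.exponent_dvd_of_forall_pow_eq_one fun e => Subtype.ext ?_
        obtain ⟨v, h, he⟩ := hEmem e e.2
        show (e : H ⧸ Z) ^ 3 = 1
        rw [he, ← map_pow]
        rw [show (⟨bl (mono o v), h⟩ : H) ^ 3 = 1 from Subtype.ext (by
          show bl (mono o v) ^ 3 = 1; rw [← map_pow, cube_of_mem o (mono_mem o v), map_one]), map_one]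
      rw [IsCyclic.exponent_eq_card] at h3
      have h9 : Nat.card Pnt ≤ Nat.card Eq' := Nat.card_le_card_of_injective
        (fun v => (⟨q ⟨_, hblH _ (mono_mem o v)⟩,
          ⟨⟨_, hblH _ (mono_mem o v)⟩, ⟨mono o v, mono_mem o v, rfl⟩, rfl⟩⟩ : Eq')) (by
        intro u v huv
        obtain ⟨z, hz, hz'⟩ := hq (congrArg Subtype.val huv)
        have := congrArg (fun x => pr (bH x)) hz'
        simp only [map_mul, hbZ z hz, mul_one, hbbl] at this
        exact (pr_mono_inj o this).symm)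
      have h9' : Nat.card Pnt = 9 := by
        show Nat.card (ZMod 3 × ZMod 3) = 9
        simp [Nat.card_prod]
      have := Nat.le_of_dvd (by norm_num) h3
      omega
    · intro e he
      obtain ⟨v, h, rfl⟩ := hEmem e he
      rw [← map_pow, show (⟨bl (mono o v), h⟩ : H) ^ 3 = 1 from Subtype.ext (by
        show bl (mono o v) ^ 3 = 1; rw [← map_pow, cube_of_mem o (mono_mem o v), map_one]), map_one]
    · intro e he hk
      obtain ⟨v, h, rfl⟩ := hEmem e he
      obtain ⟨k, hk', hke⟩ := hk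
      obtain ⟨z, hz, hz'⟩ := hq hke
      have : v = 0 := hq1 v h (by
        rw [hz', map_mul, map_mul, hbZ z hz, mul_one]
        exact hk')
      subst this
      rw [show (⟨bl (mono o 0), h⟩ : H) = 1 from Subtype.ext (by
        show bl (mono o 0) = 1; rw [mono_zero, map_one]), map_one]
    · rintro _ ⟨⟨x, hx⟩, ⟨n, hn, hxn⟩, rfl⟩
      change cn n = x at hxn
      subst hxn
      refine ⟨_, ?_, rfl⟩
      show pr (bh ⟨cn n, hx.2⟩) = 1
      exact pr_eq_one.2 ⟨_, bh_cn hx.2⟩
    · intro e he he1 k hk hcomm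
      obtain ⟨v, hv, rfl⟩ := hEmem e he
      obtain ⟨x, hx, rfl⟩ := hk
      have hv0 : v ≠ 0 := by
        rintro rfl
        exact he1 (by rw [show (⟨bl (mono o 0), hv⟩ : H) = 1 from Subtype.ext (by
          show bl (mono o 0) = 1; rw [mono_zero, map_one]), map_one])
      set w : H := ⟨bl (mono o v), hv⟩
      rw [← map_mul, ← map_mul] at hcomm
      obtain ⟨z, hz, hz'⟩ := hq hcomm.symm
      -- `w x w⁻¹ = x z`
      have hwx : w * x * w⁻¹ = x * z := by
        rw [mul_inv_eq_iff_eq_mul, hz', mul_assoc x, mul_assoc x, hcen z hz w]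
      have hz3 : z ^ 3 = 1 := by
        have hw3 : w ^ 3 = 1 := Subtype.ext (by
          show bl (mono o v) ^ 3 = 1; rw [← map_pow, cube_of_mem o (mono_mem o v), map_one])
        have hit : ∀ j : ℕ, w ^ j * x * (w ^ j)⁻¹ = x * z ^ j := by
          intro j
          induction j with
          | zero => simp
          | succ j ih =>
            calc w ^ (j + 1) * x * (w ^ (j + 1))⁻¹ = w * (w ^ j * x * (w ^ j)⁻¹) * w⁻¹ := by
                  rw [pow_succ']; group
              _ = w * x * w⁻¹ * (w * z ^ j * w⁻¹) := by rw [ih]; group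
              _ = x * z ^ (j + 1) := by
                rw [hwx, ← hcen (z ^ j) (Z.pow_mem hz j) w, mul_inv_cancel_right, mul_assoc, ← pow_succ']
        have := hit 3
        rwa [hw3, one_mul, inv_one, mul_one, left_eq_mul] at this
      obtain ⟨c, hc⟩ : ∃ c : Fˣ, mat (z : GL Ix F) = (c : F) • 1 := by
        obtain ⟨c, hc | hc⟩ := sup_cases (Subgroup.mem_subgroupOf.1 hz)
        · exact ⟨c, hc⟩
        exfalso
        have h1 : mat ((z : GL Ix F) ^ 3) = 1 := by
          rw [← SubmonoidClass.coe_pow, hz3]; rfl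
        rw [Units.val_pow_eq_pow_val, hc, smul_pow, ← Units.val_pow_eq_pow_val (cn cent), ← map_pow,
          show (cent : GL (Fin 3) F) ^ 3 = cent by rw [pow_succ, pow_two, cent_mul_self, one_mul], cn_val] at h1
        have e := congrFun (congrFun h1 (1, 0)) (2, 0)
        simp [kroneckerMap_apply, cent] at e
      have hc1 : (c : F) = 1 := by
        have h1 := congrArg bH hwx
        simp only [map_mul, map_inv] at h1
        obtain ⟨d, hd⟩ := pr_eq_one.1 (show pr (bH x) = 1 from hx)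
        rw [show bH w * bH x = bH x * bH w from Units.ext (by
          rw [Units.val_mul, Units.val_mul, hd, smul_mul_assoc, one_mul, mul_smul_comm, mul_one]),
          mul_inv_cancel_right, left_eq_mul] at h1
        have h2 := congrArg (fun x : GL (Fin 3) F => mat x 0 0) h1
        rw [show mat (bH z) = bmat (mat (z : GL Ix F)) from rfl, hc] at h2
        simpa [bmat, Matrix.one_apply, Prod.ext_iff] using h2
      have hz1 : z = 1 := Subtype.ext (Units.ext (by rw [hc, hc1, one_smul]; rfl))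
      rw [hz1, mul_one] at hwx
      obtain ⟨n, hn, hnN, hnc⟩ := Over.structure_point O hC (g := ⟨(x : GL Ix F), x.2.2⟩) x.2.1 hv0
        (congrArg Subtype.val (mul_inv_eq_iff_eq_mul.1 hwx)).symm hx
      exact ⟨x, ⟨n, ⟨hnN, Subgroup.mem_centralizer_singleton_iff.2 hnc⟩, hn.symm⟩, rfl⟩
    · intro e he a ha
      obtain ⟨v, hv, rfl⟩ := hEmem e he
      obtain ⟨n, S, h, -, -, rfl⟩ := hA a ha
      rw [← map_mul, ← map_mul]
      congr 1
      exact Subtype.ext (cn_bl_comm n (mono o v)).eq.symm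
    · intro a ha h3 h1 b hb hcomm
      obtain ⟨n, S, hn, hS', hnc, rfl⟩ := hA a ha
      obtain ⟨m, T, hm, hT, hmc, rfl⟩ := hA b hb
      obtain ⟨hS3, hS1⟩ := hA3 hn hS' hnc h3 h1
      have hcn : Commute n cent := hnc
      have hcm : Commute m cent := hmc
      have hc' : Pm (cmp (cmp S T) (adj (cmp T S))) := by
        refine (hpm (n := n * m * (m * n)⁻¹) ?_ ((hS'.mul o hT).mul o (hT.mul o hS').inv)
          ((hcn.mul_left hcm).mul_left (hcm.mul_left hcn).inv_left).eq).1 ?_
        · simp only [map_mul, map_inv]; exact H.mul_mem (H.mul_mem hn hm) (H.inv_mem (H.mul_mem hm hn))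
        · rw [← mul_inv_eq_one] at hcomm
          have h' : q (⟨cn n, hn⟩ * ⟨cn m, hm⟩ * (⟨cn m, hm⟩ * ⟨cn n, hn⟩)⁻¹) = 1 := by
            simp only [map_mul, map_inv]
            rw [mul_inv_eq_one] at hcomm ⊢
            exact hcomm.symm
          refine Eq.trans (congrArg q (Subtype.ext ?_)) h'
          simp
      rcases self_table S (hS'.dt_eq o) hS3 hS1 T (hT.dt_eq o) hc' with p | p | p
      · rw [(hpm hm hT hmc).2 p]; exact Subgroup.one_mem _
      · have := (hpm (n := m * n⁻¹) (by rw [map_mul, map_inv]; exact H.mul_mem hm (H.inv_mem hn)) (hT.mul o hS'.inv)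
          (hcm.mul_left hcn.inv_left).eq).2 p
        have e : q (⟨cn m, hm⟩ * (⟨cn n, hn⟩)⁻¹) = 1 := (congrArg q (Subtype.ext (by simp))).trans this
        rw [map_mul, map_inv, mul_inv_eq_one] at e
        rw [e]; exact Subgroup.mem_zpowers _
      · have := (hpm (n := m * n) (by rw [map_mul]; exact H.mul_mem hm hn) (hT.mul o hS') (hcm.mul_left hcn).eq).2 p
        have e : q (⟨cn m, hm⟩ * ⟨cn n, hn⟩) = 1 := (congrArg q (Subtype.ext (by simp))).trans this
        rw [map_mul, mul_eq_one_iff_eq_inv] at e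
        rw [e]; exact Subgroup.inv_mem _ (Subgroup.mem_zpowers _)
    · intro a ha h3 h1 b hb heq
      obtain ⟨n, S, hn, hS', hnc, rfl⟩ := hA a ha
      obtain ⟨m, T, hm, hT, hmc, rfl⟩ := hA b hb
      obtain ⟨hS3, hS1⟩ := hA3 hn hS' hnc h3 h1
      have hcn : Commute n cent := hnc
      have hcm : Commute m cent := hmc
      refine notInv_table S (hS'.dt_eq o) hS3 hS1 T (hT.dt_eq o) ?_
      refine (hpm (n := m * (n * m⁻¹) * n) ?_ ((hT.mul o (hS'.mul o hT.inv)).mul o hS')
        ((hcm.mul_left (hcn.mul_left hcm.inv_left)).mul_left hcn).eq).1 ?_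
      · simp only [map_mul, map_inv]; exact H.mul_mem (H.mul_mem hm (H.mul_mem hn (H.inv_mem hm))) hn
      · rw [← map_inv, ← map_mul, ← map_mul, ← map_inv] at heq
        refine Eq.trans (congrArg q (Subtype.ext ?_))
          (show q (⟨cn m, hm⟩ * ⟨cn n, hn⟩ * (⟨cn m, hm⟩)⁻¹ * ⟨cn n, hn⟩) = 1 by
            rw [map_mul, heq, map_inv, inv_mul_cancel])
        simp [mul_assoc]
    · have hw := tw_mem_words o
      have h : cn (tw o) ∈ H := ⟨O.cn_word hw, cn_mem_hS.2 (tw_comm_cent o)⟩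
      refine ⟨q ⟨_, h⟩, ⟨⟨_, h⟩, ⟨tw o, ⟨words_le_normalizer hw,
        Subgroup.mem_centralizer_singleton_iff.2 (tw_comm_cent o)⟩, rfl⟩, rfl⟩, ?_, fun e => ?_⟩
      · have h3 : tw o ^ 3 = 1 := by
          apply Units.ext
          rw [Units.val_pow_eq_pow_val, pow_succ, pow_two]
          show !![1, 0, 0; 0, o.w, 0; 0, 0, o.w] * !![1, 0, 0; 0, o.w, 0; 0, 0, o.w] *
            !![1, 0, 0; 0, o.w, 0; 0, 0, o.w] = (1 : Matrix (Fin 3) (Fin 3) F)
          have := o.cube
          ext i j; fin_cases i <;> fin_cases j <;> simp [Matrix.mul_apply, Fin.sum_univ_three] <;> grind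
        rw [← map_pow, show (⟨cn (tw o), h⟩ : H) ^ 3 = 1 from Subtype.ext (by
          show cn (tw o) ^ 3 = 1; rw [← map_pow, h3, map_one]), map_one]
      · exact absurd ((hpm h (acts_tw o) (tw_comm_cent o)).1 e) (by decide)
  have hgK : q ⟨(g : GL Ix F), hg, g.2⟩ ∈ K := ⟨_, hb, rfl⟩
  obtain ⟨n, S, hn, hS', hnc, e⟩ := hA _ (hD.le' hgK)
  obtain ⟨z, hz, hz'⟩ := hq e.symm
  obtain ⟨c, hc⟩ := sup_cases (Subgroup.mem_subgroupOf.1 hz)
  have e' : (g : GL Ix F) = cn n * (z : GL Ix F) := congrArg Subtype.val hz'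
  let cu : GL (Fin 3) F := Units.map (Matrix.scalar (Fin 3) : F →+* Matrix (Fin 3) (Fin 3) F).toMonoidHom c
  have hcu : mat cu = (c : F) • 1 := by simp [cu, Matrix.smul_one_eq_diagonal]
  have hcuA : Acts o cu id2 := Acts.congr o (by rw [map_one]; exact pr_eq_one.2 ⟨_, hcu⟩) (acts_one o)
  have hcuc : Commute cu cent := Units.ext (by
    rw [Units.val_mul, Units.val_mul, hcu, smul_mul_assoc, one_mul, mul_smul_comm, mul_one])
  rcases hc with hc | hc
  · refine ⟨n * cu, ?_, (hS'.mul o hcuA).mem_normalizer o, ((show Commute n cent from hnc).mul_left hcuc).eq⟩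
    rw [e', map_mul]
    congr 1
    exact Units.ext (by rw [hc, cn_val, hcu, Matrix.smul_kronecker, one_kronecker_one])
  · refine ⟨n * (cu * cent), ?_, (hS'.mul o (hcuA.mul o (acts_cent o))).mem_normalizer o,
      ((show Commute n cent from hnc).mul_left (hcuc.mul_left (Commute.refl cent))).eq⟩
    rw [e', map_mul, map_mul]
    congr 1
    exact Units.ext (by rw [hc, Units.val_mul, cn_val cu, hcu, Matrix.smul_kronecker, one_kronecker_one, smul_mul_assoc,
      one_mul])

end CfsgLib.SympThree
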