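import Cfsg.Agent.SympThree.Act
import Mathlib.GroupTheory.NoncommCoprod

/-!
# The extraspecial group of order `3 ^ 5` in `GL₉`

Nine points as inner point and block, block diagonal elements, the two factors of the tensor product, and the
standard elements of the normaliser.
-/

set_option autoImplicit false
set_option linter.unusedSectionVars false

namespace CfsgLib.SympThree

open Matrix Cfsg.Geo CfsgLib.SLThree.Hessian
open scoped Kronecker

local notation:max "mat" => Units.val

/-- The indices. -/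
abbrev Ix : Type := Fin 3 × Fin 3

variable {F : Type*} [Field F]

/-- The block diagonal elements. -/
def bd : (Fin 3 → GL (Fin 3) F) →* GL Ix F where
  toFun f :=
    { val := blockDiagonal fun i => mat (f i)
      inv := blockDiagonal fun i => mat (f i)⁻¹
      val_inv := by rw [← blockDiagonal_mul]; simp only [Units.mul_inv]; exact blockDiagonal_one
      inv_val := by rw [← blockDiagonal_mul]; simp only [Units.inv_mul]; exact blockDiagonal_one }
  map_one' := Units.ext (blockDiagonal_one (α := F) (m := Fin 3) (o := Fin 3))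
  map_mul' f g := Units.ext (blockDiagonal_mul (fun i => mat (f i)) (fun i => mat (g i)))

theorem bd_val (f : Fin 3 → GL (Fin 3) F) : mat (bd f) = blockDiagonal fun i => mat (f i) := rfl

theorem bd_injective : Function.Injective (bd (F := F)) := fun f g h => funext fun i => Units.ext (by
  ext a b
  have := congrArg (fun z : GL Ix F => mat z (a, i) (b, i)) h
  simpa [bd_val, blockDiagonal_apply] using this)

/-- Constant families. -/
def dg : GL (Fin 3) F →* (Fin 3 → GL (Fin 3) F) where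
  toFun x := fun _ => x
  map_one' := rfl
  map_mul' _ _ := rfl

/-- The inner factor. -/
def cn : GL (Fin 3) F →* GL Ix F := bd.comp dg

theorem cn_val (x : GL (Fin 3) F) : mat (cn x) = mat x ⊗ₖ (1 : Matrix (Fin 3) (Fin 3) F) := by
  ext ⟨a, i⟩ ⟨b, k⟩
  simp [cn, dg, bd_val, blockDiagonal_apply, Matrix.one_apply, kroneckerMap_apply]

/-- The block factor. -/
def bl : GL (Fin 3) F →* GL Ix F where
  toFun y :=
    { val := (1 : Matrix (Fin 3) (Fin 3) F) ⊗ₖ mat y
      inv := (1 : Matrix (Fin 3) (Fin 3) F) ⊗ₖ mat y⁻¹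
      val_inv := by rw [← mul_kronecker_mul, one_mul, Units.mul_inv, one_kronecker_one]
      inv_val := by rw [← mul_kronecker_mul, one_mul, Units.inv_mul, one_kronecker_one] }
  map_one' := Units.ext one_kronecker_one
  map_mul' x y := Units.ext (by
    show (1 : Matrix (Fin 3) (Fin 3) F) ⊗ₖ mat (x * y) = (1 ⊗ₖ mat x) * (1 ⊗ₖ mat y)
    rw [← mul_kronecker_mul, one_mul, Units.val_mul])

theorem bl_val (y : GL (Fin 3) F) : mat (bl y) = (1 : Matrix (Fin 3) (Fin 3) F) ⊗ₖ mat y := rfl

theorem cn_bl_comm (x y : GL (Fin 3) F) : Commute (cn x) (bl y) := Units.ext (by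
  rw [Units.val_mul, Units.val_mul, cn_val, bl_val, ← mul_kronecker_mul, ← mul_kronecker_mul, one_mul, mul_one,
    one_mul, mul_one])

/-- Both factors. -/
def kk : GL (Fin 3) F × GL (Fin 3) F →* GL Ix F := MonoidHom.noncommCoprod cn bl cn_bl_comm

theorem kk_val (p : GL (Fin 3) F × GL (Fin 3) F) : mat (kk p) = mat p.1 ⊗ₖ mat p.2 := by
  show mat (cn p.1 * bl p.2) = _
  rw [Units.val_mul, cn_val, bl_val, ← mul_kronecker_mul, mul_one, one_mul]

/-- The scalar cube root. -/
def sc (o : Omega F) : GL (Fin 3) F where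
  val := o.w • 1
  inv := o.w ^ 2 • 1
  val_inv := by rw [smul_mul_assoc, one_mul, smul_smul, ← pow_succ', o.cube, one_smul]
  inv_val := by rw [smul_mul_assoc, one_mul, smul_smul, ← pow_succ, o.cube, one_smul]

variable (o : Omega F)

theorem sc_mem : sc o ∈ heis o := scalar_mem o rfl

theorem sc_pow (n : ℕ) : mat (sc o ^ n) = o.w ^ n • 1 := by
  rw [Units.val_pow_eq_pow_val, show mat (sc o) = o.w • 1 from rfl, smul_pow, one_pow]

theorem sc_comm (x : GL (Fin 3) F) : sc o * x = x * sc o := Units.ext (by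
  rw [Units.val_mul, Units.val_mul, show mat (sc o) = o.w • 1 from rfl, smul_mul_assoc, one_mul, mul_smul_comm,
    mul_one])

/-- The extraspecial group. -/
def R₀ : Subgroup (GL Ix F) := ((heis o).prod (heis o)).map kk

theorem mem_R₀ {g : GL Ix F} : g ∈ R₀ o ↔ ∃ a ∈ heis o, ∃ b ∈ heis o, g = cn a * bl b := by
  constructor
  · rintro ⟨⟨a, b⟩, ⟨ha, hb⟩, rfl⟩; exact ⟨a, ha, b, hb, rfl⟩
  · rintro ⟨a, ha, b, hb, rfl⟩; exact ⟨(a, b), ⟨ha, hb⟩, rfl⟩

theorem cn_mem {a : GL (Fin 3) F} (ha : a ∈ heis o) : cn a ∈ R₀ o :=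
  (mem_R₀ o).2 ⟨a, ha, 1, (heis o).one_mem, by rw [map_one, mul_one]⟩

theorem bl_mem {b : GL (Fin 3) F} (hb : b ∈ heis o) : bl b ∈ R₀ o :=
  (mem_R₀ o).2 ⟨1, (heis o).one_mem, b, hb, by rw [map_one, one_mul]⟩

theorem cube_of_mem {x : GL (Fin 3) F} (hx : x ∈ heis o) : x ^ 3 = 1 := by
  obtain ⟨c, i, j, h⟩ := mo_of_eig o (eig_of_mem o hx) x.ne_zero
  set W := clock o ^ (i : ℕ) * shift F ^ (j : ℕ)
  have h3 : mat (x ^ 3) = c ^ 3 • 1 := by
    rw [Units.val_pow_eq_pow_val, h, smul_pow, ← Units.val_pow_eq_pow_val, cube_mo o i j, Units.val_one]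
  have hdet : (mat x).det = 1 := by
    have := heis_le_one x hx
    exact this
  have hdW : (mat W).det = 1 := by
    rw [Units.val_mul, Units.val_pow_eq_pow_val, Units.val_pow_eq_pow_val, det_mul, det_pow, det_pow, det_clock,
      det_shift, one_pow, one_pow, one_mul]
  rw [h, det_smul, Fintype.card_fin, hdW, mul_one] at hdet
  exact Units.ext (by rw [h3, hdet, one_smul, Units.val_one])
where
  heis_le_one : ∀ x ∈ heis o, (mat x).det = 1 := by
    intro x hx
    induction hx using Subgroup.closure_induction with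
    | mem y hy => rcases hy with rfl | rfl; exacts [det_clock o, det_shift]
    | one => simp
    | mul a b _ _ ha hb => rw [Units.val_mul, det_mul, ha, hb, one_mul]
    | inv a _ ha =>
      have := congrArg Matrix.det (Units.inv_mul a)
      rwa [det_mul, ha, mul_one, det_one] at this

theorem cube_R₀ {g : GL Ix F} (hg : g ∈ R₀ o) : g ^ 3 = 1 := by
  obtain ⟨a, ha, b, hb, rfl⟩ := (mem_R₀ o).1 hg
  rw [(cn_bl_comm a b).mul_pow, ← map_pow, ← map_pow, cube_of_mem o ha, cube_of_mem o hb, map_one, map_one, one_mul]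

theorem R₀_eq_closure : R₀ o = Subgroup.closure {cn (clock o), cn (shift F), bl (clock o), bl (shift F)} := by
  refine le_antisymm ?_ ((Subgroup.closure_le _).2 ?_)
  · intro g hg
    obtain ⟨a, ha, b, hb, rfl⟩ := (mem_R₀ o).1 hg
    refine Subgroup.mul_mem _ (?_ : cn a ∈ _) (?_ : bl b ∈ _)
    · exact (Subgroup.closure_le (K := (Subgroup.closure _).comap cn)).2 (by
        rintro _ (rfl | rfl) <;> exact Subgroup.subset_closure (by simp)) ha
    · exact (Subgroup.closure_le (K := (Subgroup.closure _).comap bl)).2 (by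
        rintro _ (rfl | rfl) <;> exact Subgroup.subset_closure (by simp)) hb
  · rintro _ (rfl | rfl | rfl | rfl)
    exacts [cn_mem o (clock_mem o), cn_mem o (shift_mem o), bl_mem o (clock_mem o), bl_mem o (shift_mem o)]

theorem mem_normalizer_R₀ [Finite F] {g : GL Ix F}
    (h1 : g * cn (clock o) * g⁻¹ ∈ R₀ o) (h2 : g * cn (shift F) * g⁻¹ ∈ R₀ o)
    (h3 : g * bl (clock o) * g⁻¹ ∈ R₀ o) (h4 : g * bl (shift F) * g⁻¹ ∈ R₀ o) :
    g ∈ subgroupNormalizer (R₀ o) := by
  classical
  have hle : (R₀ o).map (MulAut.conj g).toMonoidHom ≤ R₀ o := by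
    conv_lhs => rw [R₀_eq_closure]
    rw [MonoidHom.map_closure, Subgroup.closure_le]
    rintro _ ⟨x, hx, rfl⟩
    rcases hx with rfl | rfl | rfl | rfl
    exacts [h1, h2, h3, h4]
  have heq : (R₀ o).map (MulAut.conj g).toMonoidHom = R₀ o := by
    apply SetLike.coe_injective
    refine Set.eq_of_subset_of_ncard_le hle ?_ (Set.toFinite _)
    rw [Subgroup.coe_map]
    exact (Set.ncard_image_of_injective _ (MulAut.conj g).injective).ge
  show g ∈ Subgroup.normalizer _
  rw [Subgroup.mem_normalizer_iff]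
  intro h
  refine ⟨fun hh => hle ⟨h, hh, rfl⟩, fun hh => ?_⟩
  rw [← heq] at hh
  obtain ⟨x, hx, hxe⟩ := hh
  exact (MulAut.conj g).injective hxe ▸ hx

theorem conj_R₀ {g x : GL Ix F} (hg : g ∈ subgroupNormalizer (R₀ o)) (hx : x ∈ R₀ o) : g * x * g⁻¹ ∈ R₀ o :=
  (Subgroup.mem_normalizer_iff.1 hg x).1 hx

theorem cn_conj (n x : GL (Fin 3) F) : cn n * cn x * (cn n)⁻¹ = cn (n * x * n⁻¹) := by simp

theorem bl_conj (n x : GL (Fin 3) F) : bl n * bl x * (bl n)⁻¹ = bl (n * x * n⁻¹) := by simp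

theorem cn_mem_normalizer [Finite F] {n : GL (Fin 3) F} (hn : n ∈ subgroupNormalizer (heis o)) :
    cn n ∈ subgroupNormalizer (R₀ o) :=
  mem_normalizer_R₀ o (by rw [cn_conj]; exact cn_mem o ((Subgroup.mem_normalizer_iff.1 hn _).1 (clock_mem o)))
    (by rw [cn_conj]; exact cn_mem o ((Subgroup.mem_normalizer_iff.1 hn _).1 (shift_mem o)))
    (by rw [(cn_bl_comm n (clock o)).eq, mul_inv_cancel_right]; exact bl_mem o (clock_mem o))
    (by rw [(cn_bl_comm n (shift F)).eq, mul_inv_cancel_right]; exact bl_mem o (shift_mem o))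

theorem bl_mem_normalizer [Finite F] {n : GL (Fin 3) F} (hn : n ∈ subgroupNormalizer (heis o)) :
    bl n ∈ subgroupNormalizer (R₀ o) :=
  mem_normalizer_R₀ o
    (by rw [← (cn_bl_comm (clock o) n).eq, mul_inv_cancel_right]; exact cn_mem o (clock_mem o))
    (by rw [← (cn_bl_comm (shift F) n).eq, mul_inv_cancel_right]; exact cn_mem o (shift_mem o))
    (by rw [bl_conj]; exact bl_mem o ((Subgroup.mem_normalizer_iff.1 hn _).1 (clock_mem o)))
    (by rw [bl_conj]; exact bl_mem o ((Subgroup.mem_normalizer_iff.1 hn _).1 (shift_mem o)))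

/-- The negated interchange of the factors. -/
def sw : GL Ix F where
  val := -(Matrix.of fun p q : Ix => if p = q.swap then 1 else 0)
  inv := -(Matrix.of fun p q : Ix => if p = q.swap then 1 else 0)
  val_inv := by
    ext ⟨a, i⟩ ⟨b, k⟩
    fin_cases a <;> fin_cases i <;> fin_cases b <;> fin_cases k <;>
      simp [Matrix.mul_apply, Fintype.sum_prod_type, Fin.sum_univ_three]
  inv_val := by
    ext ⟨a, i⟩ ⟨b, k⟩
    fin_cases a <;> fin_cases i <;> fin_cases b <;> fin_cases k <;>
      simp [Matrix.mul_apply, Fintype.sum_prod_type, Fin.sum_univ_three]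

theorem sw_mul_self : (sw : GL Ix F) * sw = 1 := Units.ext (sw (F := F)).val_inv

theorem sw_inv : (sw : GL Ix F)⁻¹ = sw := inv_eq_of_mul_eq_one_right sw_mul_self

theorem sw_cn (x : GL (Fin 3) F) : sw * cn x * sw⁻¹ = bl x := by
  rw [mul_inv_eq_iff_eq_mul]
  apply Units.ext
  rw [Units.val_mul, Units.val_mul, cn_val, bl_val]
  show -(Matrix.of fun p q : Ix => if p = q.swap then (1 : F) else 0) * _ =
    _ * -(Matrix.of fun p q : Ix => if p = q.swap then (1 : F) else 0)
  rw [neg_mul, mul_neg, neg_inj]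
  ext ⟨a, i⟩ ⟨b, k⟩
  simp [Matrix.mul_apply, kroneckerMap_apply, Matrix.one_apply, eq_comm, Prod.ext_iff, Fintype.sum_prod_type,
    ite_and]

theorem sw_bl (x : GL (Fin 3) F) : sw * bl x * sw⁻¹ = cn x := by
  rw [← sw_cn x, sw_inv]
  simp only [← mul_assoc, sw_mul_self, one_mul]
  rw [mul_assoc, sw_mul_self, mul_one]

theorem sw_mem_normalizer [Finite F] : (sw : GL Ix F) ∈ subgroupNormalizer (R₀ o) :=
  mem_normalizer_R₀ o (by rw [sw_cn]; exact bl_mem o (clock_mem o)) (by rw [sw_cn]; exact bl_mem o (shift_mem o))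
    (by rw [sw_bl]; exact cn_mem o (clock_mem o)) (by rw [sw_bl]; exact cn_mem o (shift_mem o))

theorem bl_clock : bl (clock o) = bd fun i => sc o ^ i.val := Units.ext (by
  rw [bl_val, bd_val]
  ext ⟨a, i⟩ ⟨b, k⟩
  rw [blockDiagonal_apply]
  show (1 : Matrix (Fin 3) (Fin 3) F) a b * (!![1, 0, 0; 0, o.w, 0; 0, 0, o.w ^ 2] : Matrix (Fin 3) (Fin 3) F) i k = _
  simp only [sc_pow, Matrix.smul_apply, smul_eq_mul, Matrix.one_apply]
  fin_cases i <;> fin_cases k <;> simp <;> split_ifs <;> simp)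

theorem bd_comm_clock (f : Fin 3 → GL (Fin 3) F) : bd f * bl (clock o) = bl (clock o) * bd f := by
  rw [bl_clock, ← map_mul, ← map_mul]
  congr 1
  funext i
  exact (Commute.pow_left (sc_comm o (f i)) i.val).eq.symm

theorem exists_bd {g : GL Ix F} (h : g * bl (clock o) = bl (clock o) * g) : ∃ f, g = bd f := by
  have hoff : ∀ (x : GL Ix F), x * bl (clock o) = bl (clock o) * x → ∀ (a b i k : Fin 3), i ≠ k →
      mat x (a, i) (b, k) = 0 := by
    intro x hx a b i k hik
    have e := congrArg (fun z : GL Ix F => mat z (a, i) (b, k)) hx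
    simp only [Units.val_mul, bl_clock, bd_val] at e
    simp only [Matrix.mul_apply, blockDiagonal_apply, sc_pow, Matrix.smul_apply, smul_eq_mul, Matrix.one_apply,
      Fintype.sum_prod_type, mul_ite, mul_one, mul_zero, ite_mul, zero_mul, Finset.sum_ite_eq, Finset.sum_ite_eq',
      Finset.mem_univ, if_true] at e
    by_contra hne
    have h2 : o.w ^ k.val = o.w ^ i.val := mul_right_cancel₀ hne (by linear_combination e)
    exact hik (Fin.ext (by have := o.pow_inj h2; omega))
  have hinv : g⁻¹ * bl (clock o) = bl (clock o) * g⁻¹ := ((show Commute g (bl (clock o)) from h).inv_left).eq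
  refine ⟨fun i =>
    { val := Matrix.of fun a b => mat g (a, i) (b, i)
      inv := Matrix.of fun a b => mat g⁻¹ (a, i) (b, i)
      val_inv := ?_
      inv_val := ?_ }, Units.ext ?_⟩
  · ext a b
    have e := congrFun (congrFun (Units.mul_inv g) (a, i)) (b, i)
    rw [Matrix.mul_apply, Fintype.sum_prod_type] at e
    rw [Matrix.mul_apply, show (1 : Matrix (Fin 3) (Fin 3) F) a b = (1 : Matrix Ix Ix F) (a, i) (b, i) by
      simp [Matrix.one_apply, Prod.ext_iff], ← e]
    refine Finset.sum_congr rfl fun c _ => ?_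
    rw [Finset.sum_eq_single i (fun l _ hl => ?_) fun hi => absurd (Finset.mem_univ i) hi]
    · rfl
    · rw [hoff g h a c i l (Ne.symm hl), zero_mul]
  · ext a b
    have e := congrFun (congrFun (Units.inv_mul g) (a, i)) (b, i)
    rw [Matrix.mul_apply, Fintype.sum_prod_type] at e
    rw [Matrix.mul_apply, show (1 : Matrix (Fin 3) (Fin 3) F) a b = (1 : Matrix Ix Ix F) (a, i) (b, i) by
      simp [Matrix.one_apply, Prod.ext_iff], ← e]
    refine Finset.sum_congr rfl fun c _ => ?_
    rw [Finset.sum_eq_single i (fun l _ hl => ?_) fun hi => absurd (Finset.mem_univ i) hi]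
    · rfl
    · rw [hoff g⁻¹ hinv a c i l (Ne.symm hl), zero_mul]
  · rw [bd_val]
    ext ⟨a, i⟩ ⟨b, k⟩
    rw [blockDiagonal_apply]
    by_cases hik : i = k
    · subst hik; simp
    · rw [if_neg hik]; exact hoff g h a b i k hik

theorem shift_conj_bd (f : Fin 3 → GL (Fin 3) F) :
    bl (shift F) * bd f * (bl (shift F))⁻¹ = bd fun i => f (i - 1) := by
  rw [mul_inv_eq_iff_eq_mul]
  apply Units.ext
  rw [Units.val_mul, Units.val_mul, bl_val, bd_val, bd_val]
  show ((1 : Matrix (Fin 3) (Fin 3) F) ⊗ₖ !![0, 0, 1; 1, 0, 0; 0, 1, 0]) * _ = _ * (1 ⊗ₖ !![0, 0, 1; 1, 0, 0; 0, 1, 0])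
  ext ⟨a, i⟩ ⟨b, k⟩
  simp only [Matrix.mul_apply, blockDiagonal_apply, kroneckerMap_apply, Fintype.sum_prod_type, Matrix.one_apply,
    mul_ite, mul_one, mul_zero, ite_mul, zero_mul, one_mul, Finset.sum_ite_eq, Finset.sum_ite_eq', Finset.mem_univ,
    if_true, Fin.sum_univ_three]
  fin_cases i <;> fin_cases k <;>
    simp [Fin.sum_univ_three, show (0 - 1 : Fin 3) = 2 from rfl, show (2 - 1 : Fin 3) = 1 from rfl] <;>
    (fin_cases b <;> simp)

theorem bd_conj_shift (f : Fin 3 → GL (Fin 3) F) :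
    bd f * bl (shift F) * (bd f)⁻¹ = bd (fun i => f i * (f (i - 1))⁻¹) * bl (shift F) := by
  have h := shift_conj_bd (F := F) fun i => (f i)⁻¹
  calc bd f * bl (shift F) * (bd f)⁻¹
      = bd f * (bl (shift F) * bd (fun i => (f i)⁻¹) * (bl (shift F))⁻¹) * bl (shift F) := by
        rw [show (bd f)⁻¹ = bd (fun i => (f i)⁻¹) from (map_inv bd f).symm]; group
    _ = _ := by rw [h, ← map_mul]; rfl

theorem pr_sc_pow (n : ℕ) (a : GL (Fin 3) F) : pr (sc o ^ n * a) = pr a :=
  pr_eq.2 ⟨o.w ^ n, by rw [Units.val_mul, sc_pow, smul_mul_assoc, one_mul]⟩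

theorem bd_graded_mem {a : GL (Fin 3) F} (ha : a ∈ heis o) (k : ℕ) :
    bd (fun i => sc o ^ (k * i.val) * a) ∈ R₀ o := by
  have h : bd (fun i => sc o ^ (k * i.val) * a) = bl (clock o) ^ k * cn a := by
    rw [bl_clock, ← map_pow, cn, MonoidHom.comp_apply, ← map_mul]
    congr 1
    funext i
    rw [Pi.mul_apply, Pi.pow_apply, ← pow_mul, mul_comm k]
    rfl
  rw [h]
  exact (R₀ o).mul_mem ((R₀ o).pow_mem (bl_mem o (clock_mem o)) k) (cn_mem o ha)

/-- The controlled element. -/
def gt (x : GL (Fin 3) F) : GL Ix F := bd fun i => x ^ i.val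

/-- The element scaling the last block. -/
def zb : GL Ix F := bd fun i => if i = 2 then sc o else 1

theorem gt_mem_normalizer [Finite F] {x : GL (Fin 3) F} (hx : x ∈ heis o) : gt x ∈ subgroupNormalizer (R₀ o) := by
  obtain ⟨v, hv⟩ := pr_of_mem o hx
  have key : ∀ u : Pnt, gt x * cn (mono o u) * (gt x)⁻¹ ∈ R₀ o := by
    intro u
    have hc : ∀ i : ℕ, mat (x ^ i * mono o u * (x ^ i)⁻¹) = o.w ^ ((dt v u).val * i) • mat (mono o u) := by
      intro i
      obtain ⟨c, hc⟩ := pr_eq.1 hv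
      have h1 : mat x * mat (mono o u) = o.w ^ (dt v u).val • (mat (mono o u) * mat x) := by
        rw [hc, smul_mul_assoc, mono_swap, mul_smul_comm, smul_comm]
      have h2 := CfsgLib.SLThree.Hessian.pow_swap h1 i 1
      rw [pow_one, mul_one, ← pow_mul] at h2
      rw [Units.val_mul, Units.val_mul, Units.val_pow_eq_pow_val, h2, smul_mul_assoc,
        ← Units.val_pow_eq_pow_val, Units.mul_inv_cancel_right]
    have e : gt x * cn (mono o u) * (gt x)⁻¹ = bd fun i => sc o ^ ((dt v u).val * i.val) * mono o u := by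
      rw [gt, cn, MonoidHom.comp_apply, ← map_inv, ← map_mul, ← map_mul]
      congr 1
      funext i
      apply Units.ext
      show mat (x ^ i.val * mono o u * (x ^ i.val)⁻¹) = _
      rw [hc, Units.val_mul, sc_pow, smul_mul_assoc, one_mul]
    rw [e]
    exact bd_graded_mem o (mono_mem o u) _
  refine mem_normalizer_R₀ o (by simpa [mono_fst] using key (1, 0)) (by simpa [mono_snd] using key (0, 1)) ?_ ?_
  · rw [gt, bd_comm_clock, mul_inv_cancel_right]; exact bl_mem o (clock_mem o)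
  · rw [gt, bd_conj_shift, show (fun i : Fin 3 => x ^ i.val * (x ^ (i - 1 : Fin 3).val)⁻¹) = fun _ => x from ?_]
    · exact (R₀ o).mul_mem (cn_mem o hx) (bl_mem o (shift_mem o))
    · funext i
      have h3 := cube_of_mem o hx
      fin_cases i
      · simp only [show (0 - 1 : Fin 3) = 2 from rfl]
        exact mul_inv_eq_iff_eq_mul.2 (by simpa [← pow_succ'] using h3.symm)
      · simp [show (1 - 1 : Fin 3) = 0 from rfl]
      · simp only [show (2 - 1 : Fin 3) = 1 from rfl]
        simp [pow_two]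

theorem zb_mem_normalizer [Finite F] : zb o ∈ subgroupNormalizer (R₀ o) := by
  have hcn : ∀ a, zb o * cn a * (zb o)⁻¹ = cn a := by
    intro a
    rw [zb, cn, MonoidHom.comp_apply, ← map_inv, ← map_mul, ← map_mul]
    congr 1
    funext i
    show (if i = 2 then sc o else 1) * a * (if i = 2 then sc o else 1)⁻¹ = a
    split_ifs
    · rw [sc_comm, mul_inv_cancel_right]
    · simp
  refine mem_normalizer_R₀ o (by rw [hcn]; exact cn_mem o (clock_mem o)) (by rw [hcn]; exact cn_mem o (shift_mem o))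
    (by rw [zb, bd_comm_clock, mul_inv_cancel_right]; exact bl_mem o (clock_mem o)) ?_
  rw [zb, bd_conj_shift]
  refine (R₀ o).mul_mem ?_ (bl_mem o (shift_mem o))
  convert bd_graded_mem o (a := sc o ^ 2) ((heis o).pow_mem (sc_mem o) 2) 1 using 2
  funext i
  have h3 : sc o ^ 3 = 1 := cube_of_mem o (sc_mem o)
  fin_cases i
  · simp only [show (0 - 1 : Fin 3) = 2 from rfl]
    simp [show (-1 : Fin 3) = 2 from rfl, inv_eq_of_mul_eq_one_right (by rw [← pow_succ', h3] : sc o * sc o ^ 2 = 1)]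
  · simp [show (1 - 1 : Fin 3) = 0 from rfl, ← pow_succ', h3]
  · simp only [show (2 - 1 : Fin 3) = 1 from rfl]
    rw [← pow_add]
    simp [pow_eq_pow_mod (m := 4) h3]

theorem pr_of_bd_mem {f : Fin 3 → GL (Fin 3) F} (h : bd f ∈ R₀ o) :
    ∃ a ∈ heis o, ∀ i, pr (f i) = pr a := by
  obtain ⟨a, ha, b, -, e⟩ := (mem_R₀ o).1 h
  refine ⟨a, ha, fun i => pr_eq.2 ⟨mat b i i, ?_⟩⟩
  ext j k
  have h1 := congrArg (fun z : GL Ix F => mat z (j, i) (k, i)) e
  simp only [bd_val, show mat (cn a * bl b) = mat a ⊗ₖ mat b from kk_val (a, b)] at h1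
  simpa [blockDiagonal_apply, kroneckerMap_apply, mul_comm] using h1

theorem det_f_of_bd_mem {f : Fin 3 → GL (Fin 3) F} (h : bd f ∈ R₀ o) : ∀ i, f i ^ 3 = 1 := by
  intro i
  have e := cube_R₀ o h
  rw [← map_pow, ← map_one (bd (F := F))] at e
  exact congrFun (bd_injective e) i

/-- A block diagonal element of the normaliser has all components in the normaliser, with the same action. -/
theorem exists_acts_of_bd [Finite F] {f : Fin 3 → GL (Fin 3) F} (h : bd f ∈ subgroupNormalizer (R₀ o)) :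
    ∃ S, ∀ i, Acts o (f i) S := by
  have key : ∀ v : Pnt, ∃ u, ∀ i, Sends o (f i) v u := by
    intro v
    have h1 := conj_R₀ o h (cn_mem o (mono_mem o v))
    rw [cn, MonoidHom.comp_apply, ← map_inv, ← map_mul, ← map_mul] at h1
    obtain ⟨a, ha, he⟩ := pr_of_bd_mem o h1
    obtain ⟨u, hu⟩ := pr_of_mem o ha
    refine ⟨u, fun i => ?_⟩
    rw [Sends, ← hu, ← he i]
    simp [dg]
  obtain ⟨a, ha⟩ := key (1, 0)
  obtain ⟨b, hb⟩ := key (0, 1)
  exact ⟨(a, b), fun i => ⟨ha i, hb i⟩⟩

end CfsgLib.SympThree
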