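import Cfsg.Agent.SympThree.Fixed

/-!
# The action of the normaliser on the four-dimensional space of points
-/

set_option autoImplicit false
set_option linter.unusedSectionVars false

namespace CfsgLib.SympThree

open Matrix Cfsg.Geo CfsgLib.SLThree.Hessian
open scoped Kronecker

local notation:max "mat" => Units.val

variable {F : Type*} [Field F]

instance : (scalars Ix F).Normal := scalars_normal

/-- Modulo scalars. -/
def p9 : GL Ix F →* GL Ix F ⧸ scalars Ix F := QuotientGroup.mk' _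

theorem p9_eq_one {g : GL Ix F} : p9 g = 1 ↔ ∃ c : F, mat g = c • 1 := by
  rw [p9, QuotientGroup.mk'_apply, QuotientGroup.eq_one_iff, mem_scalars_iff]
  constructor
  · rintro ⟨c, hc⟩; exact ⟨_, hc⟩
  · rintro ⟨c, hc⟩
    exact ⟨Units.mk0 c (fun h0 => g.ne_zero (by rw [hc, h0, zero_smul])), hc⟩

theorem p9_eq {g h : GL Ix F} : p9 g = p9 h ↔ ∃ c : F, mat g = c • mat h := by
  rw [← mul_inv_eq_one, ← map_inv, ← map_mul, p9_eq_one]
  refine exists_congr fun c => ⟨fun e => ?_, fun e => ?_⟩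
  · rw [Units.val_mul] at e
    rw [← Units.inv_mul_cancel_right (mat g) h, e, smul_mul_assoc, one_mul]
  · rw [Units.val_mul, e, smul_mul_assoc, Units.mul_inv]

theorem p9_cn {a b : GL (Fin 3) F} (h : pr a = pr b) : p9 (cn a) = p9 (cn b) := by
  obtain ⟨c, hc⟩ := pr_eq.1 h
  exact p9_eq.2 ⟨c, by rw [cn_val, cn_val, hc, Matrix.smul_kronecker]⟩

theorem p9_bl {a b : GL (Fin 3) F} (h : pr a = pr b) : p9 (bl a) = p9 (bl b) := by
  obtain ⟨c, hc⟩ := pr_eq.1 h
  exact p9_eq.2 ⟨c, by rw [bl_val, bl_val, hc, Matrix.kronecker_smul]⟩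

/-- The points. -/
abbrev Pnt4 : Type := Pnt × Pnt

/-- The pairing. -/
def dt4 (u v : Pnt4) : ZMod 3 := dt u.1 v.1 + dt u.2 v.2

theorem dt4_add_right (u v v' : Pnt4) : dt4 u (v + v') = dt4 u v + dt4 u v' := by
  simp only [dt4, dt, Prod.fst_add, Prod.snd_add]; ring

theorem exists_dt4_ne : ∀ a : Pnt4, a ≠ 0 → dt4 a ((1, 0), 0) ≠ 0 ∨ dt4 a ((0, 1), 0) ≠ 0 ∨
    dt4 a (0, (1, 0)) ≠ 0 ∨ dt4 a (0, (0, 1)) ≠ 0 := by
  decide

variable (o : Omega F)

/-- The element of a point. -/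
def e4 (v : Pnt4) : GL Ix F := cn (mono o v.1) * bl (mono o v.2)

theorem e4_mem (v : Pnt4) : e4 o v ∈ R₀ o := (mem_R₀ o).2 ⟨_, mono_mem o _, _, mono_mem o _, rfl⟩

theorem e4_fst (u : Pnt) : e4 o (u, 0) = cn (mono o u) := by rw [e4, mono_zero, map_one, mul_one]

theorem e4_snd (u : Pnt) : e4 o (0, u) = bl (mono o u) := by rw [e4, mono_zero, map_one, one_mul]

theorem e4_zero : e4 o 0 = 1 := by
  rw [e4, Prod.fst_zero, Prod.snd_zero, mono_zero, map_one, map_one, one_mul]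

theorem p9_e4_add (u v : Pnt4) : p9 (e4 o (u + v)) = p9 (e4 o u) * p9 (e4 o v) := by
  rw [e4, e4, e4, Prod.fst_add, Prod.snd_add, map_mul, map_mul, map_mul,
    p9_cn (a := mono o (u.1 + v.1)) (b := mono o u.1 * mono o v.1) (by rw [pr_mono_add, map_mul]),
    p9_bl (a := mono o (u.2 + v.2)) (b := mono o u.2 * mono o v.2) (by rw [pr_mono_add, map_mul]),
    map_mul, map_mul, map_mul, map_mul]
  have := (cn_bl_comm (mono o v.1) (mono o u.2)).map (p9 (F := F))
  rw [mul_assoc, ← mul_assoc (p9 (cn (mono o v.1))), this.eq]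
  simp only [mul_assoc]

theorem p9_e4_inj {u v : Pnt4} (h : p9 (e4 o u) = p9 (e4 o v)) : u = v := by
  have h0 : p9 (e4 o (u - v)) = 1 := by
    have := p9_e4_add o (u - v) v
    rw [sub_add_cancel, h] at this
    exact mul_eq_right.1 this.symm
  obtain ⟨c, hc⟩ := p9_eq_one.1 h0
  have hc0 : c ≠ 0 := fun e => (e4 o (u - v)).ne_zero (by rw [hc, e, zero_smul])
  set a := mono o (u - v).1
  set b := mono o (u - v).2
  rw [e4, show mat (cn a * bl b) = mat a ⊗ₖ mat b from kk_val (a, b)] at hc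
  have hent : ∀ i j k l : Fin 3, mat a i j * mat b k l = c * (if i = j ∧ k = l then 1 else 0) := fun i j k l => by
    have := congrFun (congrFun hc (i, k)) (j, l)
    simpa [kroneckerMap_apply, Matrix.one_apply, Prod.ext_iff] using this
  have h00 := hent 0 0 0 0
  simp only [and_self, if_true, mul_one] at h00
  have ha0 : mat a 0 0 ≠ 0 := fun e => hc0 (by rw [← h00, e, zero_mul])
  have hb0 : mat b 0 0 ≠ 0 := fun e => hc0 (by rw [← h00, e, mul_zero])
  have hA : pr a = 1 := pr_eq_one.2 ⟨c / mat b 0 0, by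
    ext i j
    rw [Matrix.smul_apply, smul_eq_mul, div_mul_eq_mul_div, eq_div_iff hb0, hent, Matrix.one_apply]
    simp⟩
  have hB : pr b = 1 := pr_eq_one.2 ⟨c / mat a 0 0, by
    ext i j
    rw [Matrix.smul_apply, smul_eq_mul, div_mul_eq_mul_div, eq_div_iff ha0, mul_comm, hent, Matrix.one_apply]
    simp⟩
  have e1 := pr_mono_inj o (u := (u - v).1) (v := 0) (by rw [mono_zero, map_one]; exact hA)
  have e2 := pr_mono_inj o (u := (u - v).2) (v := 0) (by rw [mono_zero, map_one]; exact hB)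
  exact sub_eq_zero.1 (Prod.ext e1 e2)

theorem exists_point {x : GL Ix F} (hx : x ∈ R₀ o) : ∃ v, p9 x = p9 (e4 o v) := by
  obtain ⟨a, ha, b, hb, rfl⟩ := (mem_R₀ o).1 hx
  obtain ⟨u, hu⟩ := pr_of_mem o ha
  obtain ⟨v, hv⟩ := pr_of_mem o hb
  exact ⟨(u, v), by rw [e4, map_mul, map_mul, p9_cn hu, p9_bl hv]⟩

theorem e4_swap (u v : Pnt4) :
    mat (e4 o u) * mat (e4 o v) = o.w ^ (dt4 u v).val • (mat (e4 o v) * mat (e4 o u)) := by
  simp only [e4, show ∀ a b : GL (Fin 3) F, mat (cn a * bl b) = mat a ⊗ₖ mat b from fun a b => kk_val (a, b),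
    ← mul_kronecker_mul]
  rw [mono_swap o u.1 v.1, mono_swap o u.2 v.2, Matrix.smul_kronecker, Matrix.kronecker_smul, smul_smul, ← pow_add,
    dt4, ZMod.val_add]
  congr 1
  rw [← pow_eq_pow_mod _ o.cube]

/-- `g` moves the point `v` to `u`. -/
def Sends4 (g : GL Ix F) (v u : Pnt4) : Prop := p9 g * p9 (e4 o v) * (p9 g)⁻¹ = p9 (e4 o u)

theorem Sends4.unique {g : GL Ix F} {v u u' : Pnt4} (h : Sends4 o g v u) (h' : Sends4 o g v u') : u = u' :=
  p9_e4_inj o (h.symm.trans h')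

theorem Sends4.add {g : GL Ix F} {v u v' u' : Pnt4} (h : Sends4 o g v u) (h' : Sends4 o g v' u') :
    Sends4 o g (v + v') (u + u') := by
  show p9 g * _ * (p9 g)⁻¹ = _
  rw [p9_e4_add, p9_e4_add, ← conj_mul, h, h']

theorem Sends4.zero (g : GL Ix F) : Sends4 o g 0 0 := by
  show p9 g * _ * (p9 g)⁻¹ = _
  rw [e4_zero, map_one, mul_one, mul_inv_cancel]

theorem Sends4.smul {g : GL Ix F} {v u : Pnt4} (h : Sends4 o g v u) (a : ZMod 3) : Sends4 o g (a • v) (a • u) := by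
  rcases (show ∀ a : ZMod 3, a = 0 ∨ a = 1 ∨ a = 2 by decide) a with rfl | rfl | rfl
  · rw [zero_smul, zero_smul]; exact Sends4.zero o g
  · rwa [one_smul, one_smul]
  · rw [show (2 : ZMod 3) = 1 + 1 from rfl, add_smul, add_smul, one_smul, one_smul]
    exact h.add o h

theorem Sends4.comp {g h : GL Ix F} {v u t : Pnt4} (h1 : Sends4 o g u t) (h2 : Sends4 o h v u) :
    Sends4 o (g * h) v t := by
  show p9 (g * h) * _ * (p9 (g * h))⁻¹ = _
  rw [← h1, ← h2, map_mul]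
  group

theorem Sends4.inv {g : GL Ix F} {v u : Pnt4} (h : Sends4 o g v u) : Sends4 o g⁻¹ u v := by
  show p9 g⁻¹ * _ * (p9 g⁻¹)⁻¹ = _
  rw [← h, map_inv]
  group

theorem sends4_one (v : Pnt4) : Sends4 o 1 v v := by
  show p9 1 * _ * (p9 1)⁻¹ = _
  rw [map_one]; group

theorem exists_sends4 {g : GL Ix F} (hg : g ∈ subgroupNormalizer (R₀ o)) (v : Pnt4) : ∃ u, Sends4 o g v u := by
  obtain ⟨u, hu⟩ := exists_point o (conj_R₀ o hg (e4_mem o v))
  exact ⟨u, by rw [Sends4, ← map_mul, ← map_inv, ← map_mul, hu]⟩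

theorem Sends4.dt_eq {g : GL Ix F} {a b a' b' : Pnt4} (ha : Sends4 o g a a') (hb : Sends4 o g b b') :
    dt4 a' b' = dt4 a b := by
  have lift : ∀ {v u : Pnt4}, Sends4 o g v u → ∃ c : F, c ≠ 0 ∧ mat g * mat (e4 o v) * mat g⁻¹ = c • mat (e4 o u) := by
    intro v u hvu
    obtain ⟨c, hc⟩ := p9_eq.1 (show p9 (g * e4 o v * g⁻¹) = p9 (e4 o u) by simpa [Sends4] using hvu)
    refine ⟨c, fun h0 => (g * e4 o v * g⁻¹).ne_zero (by rw [hc, h0, zero_smul]), ?_⟩
    simpa only [Units.val_mul] using hc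
  obtain ⟨x, hx0, hx⟩ := lift ha
  obtain ⟨y, hy0, hy⟩ := lift hb
  have e := congrArg (fun X => mat g * X * mat g⁻¹) (e4_swap o a b)
  have hd : ∀ X Y : Matrix Ix Ix F, mat g * (X * Y) * mat g⁻¹ = (mat g * X * mat g⁻¹) * (mat g * Y * mat g⁻¹) :=
    fun X Y => by simp only [mul_assoc, Units.inv_mul_cancel_left]
  simp only [mul_smul_comm, smul_mul_assoc, hd, hx, hy] at e
  rw [e4_swap o a' b'] at e
  simp only [smul_smul] at e
  have hne : mat (e4 o b') * mat (e4 o a') ≠ 0 := by rw [← Units.val_mul]; exact Units.ne_zero _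
  have h1 := smul_left_injective F hne e
  have h2 : o.w ^ (dt4 a' b').val = o.w ^ (dt4 a b).val := by
    refine mul_left_cancel₀ (mul_ne_zero hx0 hy0) ?_
    linear_combination h1
  exact (show ∀ x y : ZMod 3, x.val % 3 = y.val % 3 → x = y by decide) _ _ (o.pow_inj h2)

/-! ### The standard elements -/

theorem sends4_cn {n : GL (Fin 3) F} {S : Mat2} (hn : Acts o n S) (v : Pnt4) :
    Sends4 o (cn n) v (ap S v.1, v.2) := by
  show p9 (cn n) * p9 (e4 o v) * (p9 (cn n))⁻¹ = _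
  rw [← map_inv, ← map_mul, ← map_mul, e4, e4, map_mul p9 (cn _) (bl _),
    show cn n * (cn (mono o v.1) * bl (mono o v.2)) * (cn n)⁻¹ = cn (n * mono o v.1 * n⁻¹) * bl (mono o v.2) by
      rw [map_mul, map_mul, map_inv, mul_assoc, mul_assoc, mul_assoc, mul_assoc,
        (cn_bl_comm n (mono o v.2)).inv_left.eq],
    map_mul, p9_cn (show pr (n * mono o v.1 * n⁻¹) = pr (mono o (ap S v.1)) by
      rw [map_mul, map_mul, map_inv]; exact hn.sends o v.1)]

theorem sends4_bl {n : GL (Fin 3) F} {S : Mat2} (hn : Acts o n S) (v : Pnt4) :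
    Sends4 o (bl n) v (v.1, ap S v.2) := by
  show p9 (bl n) * p9 (e4 o v) * (p9 (bl n))⁻¹ = _
  rw [← map_inv, ← map_mul, ← map_mul, e4, e4, map_mul p9 (cn _) (bl _),
    show bl n * (cn (mono o v.1) * bl (mono o v.2)) * (bl n)⁻¹ = cn (mono o v.1) * bl (n * mono o v.2 * n⁻¹) by
      rw [← mul_assoc, ← (cn_bl_comm (mono o v.1) n).eq, map_mul, map_mul, map_inv]; group,
    map_mul, p9_bl (show pr (n * mono o v.2 * n⁻¹) = pr (mono o (ap S v.2)) by
      rw [map_mul, map_mul, map_inv]; exact hn.sends o v.2)]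

theorem sends4_sw (v : Pnt4) : Sends4 o sw v (v.2, v.1) := by
  show p9 sw * p9 (e4 o v) * (p9 sw)⁻¹ = _
  rw [← map_inv, ← map_mul, ← map_mul]
  congr 1
  rw [e4, e4, ← conj_mul, sw_cn, sw_bl]
  exact (cn_bl_comm _ _).eq.symm

theorem conj_mono (x u : Pnt) :
    mono o x * mono o u * (mono o x)⁻¹ = sc o ^ (dt x u).val * mono o u := by
  rw [mul_inv_eq_iff_eq_mul]
  apply Units.ext
  rw [Units.val_mul, Units.val_mul, Units.val_mul, sc_pow, mono_swap, smul_mul_assoc, one_mul, smul_mul_assoc]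

theorem conj_mono_pow (x u : Pnt) :
    ∀ i : ℕ, mono o x ^ i * mono o u * (mono o x ^ i)⁻¹ = sc o ^ ((dt x u).val * i) * mono o u
  | 0 => by simp
  | i + 1 => by
    have hc : Commute (sc o ^ ((dt x u).val * i)) (mono o x) :=
      Commute.pow_left (sc_comm o (mono o x)) _
    calc mono o x ^ (i + 1) * mono o u * (mono o x ^ (i + 1))⁻¹
        = mono o x * (mono o x ^ i * mono o u * (mono o x ^ i)⁻¹) * (mono o x)⁻¹ := by rw [pow_succ']; group
      _ = sc o ^ ((dt x u).val * i) * (mono o x * mono o u * (mono o x)⁻¹) := by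
        rw [conj_mono_pow x u i, ← mul_assoc, hc.symm.eq]; group
      _ = _ := by rw [conj_mono, ← mul_assoc, ← pow_add, Nat.mul_succ]

theorem sends4_gt_cn (x u : Pnt) : Sends4 o (gt (mono o x)) (u, 0) (u, (dt x u, 0)) := by
  show p9 (gt (mono o x)) * p9 (e4 o (u, 0)) * (p9 (gt (mono o x)))⁻¹ = _
  rw [← map_inv, ← map_mul, ← map_mul]
  congr 1
  rw [e4_fst, e4]
  show gt (mono o x) * cn (mono o u) * (gt (mono o x))⁻¹ = cn (mono o u) * bl (mono o (dt x u, 0))
  rw [show mono o ((dt x u, 0) : Pnt) = clock o ^ (dt x u).val by simp [mono], map_pow bl, bl_clock, ← map_pow,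
    gt, cn, MonoidHom.comp_apply, ← map_inv, ← map_mul, ← map_mul, ← map_mul]
  congr 1
  funext i
  show mono o x ^ i.val * mono o u * (mono o x ^ i.val)⁻¹ = mono o u * (sc o ^ i.val) ^ (dt x u).val
  rw [conj_mono_pow, ← pow_mul, mul_comm i.val]
  exact (Commute.pow_left (sc_comm o (mono o u)) _).eq

theorem sends4_gt_clock (x : Pnt) : Sends4 o (gt (mono o x)) (0, (1, 0)) (0, (1, 0)) := by
  show p9 (gt (mono o x)) * p9 (e4 o (0, (1, 0))) * (p9 (gt (mono o x)))⁻¹ = _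
  rw [← map_inv, ← map_mul, ← map_mul, e4_snd, mono_fst, gt, bd_comm_clock, mul_inv_cancel_right]

theorem sends4_gt_shift (x : Pnt) : Sends4 o (gt (mono o x)) (0, (0, 1)) (x, (0, 1)) := by
  show p9 (gt (mono o x)) * p9 (e4 o (0, (0, 1))) * (p9 (gt (mono o x)))⁻¹ = _
  rw [← map_inv, ← map_mul, ← map_mul, e4_snd, mono_snd, gt, bd_conj_shift, e4, mono_snd]
  congr 2
  show bd _ = bd (fun _ : Fin 3 => mono o x)
  congr 1
  funext i
  have h3 := cube_of_mem o (mono_mem o x)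
  fin_cases i
  · simp only [show (0 - 1 : Fin 3) = 2 from rfl]
    exact mul_inv_eq_iff_eq_mul.2 (by simpa [← pow_succ'] using h3.symm)
  · simp [show (1 - 1 : Fin 3) = 0 from rfl]
  · simp only [show (2 - 1 : Fin 3) = 1 from rfl]
    simp [pow_two]

end CfsgLib.SympThree
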