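import Cfsg.Agent.SympThree.CentBad

/-!
# No element of the Heisenberg group is supported on one block

If all components of block diagonal elements of the overgroup normalise the Heisenberg group, a non-scalar
element of it supported on one block would produce, through the interchange of the factors, a component which
does not.
-/

set_option autoImplicit false
set_option linter.unusedSectionVars false

namespace CfsgLib.SympThree

open Matrix Cfsg.Geo CfsgLib.SLThree.Hessian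
open scoped Kronecker

local notation:max "mat" => Units.val

variable {F : Type*} [Field F] (o : Omega F)

/-- Supported on the last block. -/
def sg : GL (Fin 3) F →* GL Ix F := bd.comp (MonoidHom.mulSingle (fun _ : Fin 3 => GL (Fin 3) F) 2)

theorem sg_val (y : GL (Fin 3) F) :
    mat (sg y) = blockDiagonal fun i : Fin 3 => if i = 2 then mat y else 1 := by
  rw [sg, MonoidHom.comp_apply, bd_val]
  congr 1
  funext i
  rw [MonoidHom.mulSingle_apply, Pi.mulSingle_apply]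
  split_ifs <;> rfl

theorem cn_sg (n y : GL (Fin 3) F) : cn n * sg y * (cn n)⁻¹ = sg (n * y * n⁻¹) := by
  rw [cn, sg, MonoidHom.comp_apply, MonoidHom.comp_apply, MonoidHom.comp_apply, ← map_inv, ← map_mul, ← map_mul]
  congr 1
  funext i
  simp only [dg, Pi.mul_apply, Pi.inv_apply, MonoidHom.coe_mk, OneHom.coe_mk, MonoidHom.mulSingle_apply]
  rcases eq_or_ne i 2 with rfl | h <;> simp [*]

theorem sg_sc : sg (sc o) = zb o := by
  rw [sg, MonoidHom.comp_apply, zb]
  congr 1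
  funext i
  rw [MonoidHom.mulSingle_apply, Pi.mulSingle_apply]

/-- The diagonal matrix `diag (1, 1, w)`. -/
def dlast : GL (Fin 3) F where
  val := !![1, 0, 0; 0, 1, 0; 0, 0, o.w]
  inv := !![1, 0, 0; 0, 1, 0; 0, 0, o.w ^ 2]
  val_inv := by
    have := o.cube
    ext i j; fin_cases i <;> fin_cases j <;> simp [Matrix.mul_apply, Fin.sum_univ_three] <;> grind
  inv_val := by
    have := o.cube
    ext i j; fin_cases i <;> fin_cases j <;> simp [Matrix.mul_apply, Fin.sum_univ_three] <;> grind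

theorem dlast_cube : dlast o ^ 3 = 1 := by
  apply Units.ext
  rw [Units.val_pow_eq_pow_val, pow_succ, pow_two]
  show (!![1, 0, 0; 0, 1, 0; 0, 0, o.w] : Matrix (Fin 3) (Fin 3) F) * !![1, 0, 0; 0, 1, 0; 0, 0, o.w] *
    !![1, 0, 0; 0, 1, 0; 0, 0, o.w] = 1
  have := o.cube
  ext i j; fin_cases i <;> fin_cases j <;> simp [Matrix.mul_apply, Fin.sum_univ_three] <;> grind

theorem sw_mul_apply (X : Matrix Ix Ix F) (p q : Ix) : (mat (sw : GL Ix F) * X) p q = -X p.swap q := by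
  show ((-(Matrix.of fun p q : Ix => if p = q.swap then (1 : F) else 0)) * X) p q = _
  rw [neg_mul, Matrix.neg_apply, neg_inj, Matrix.mul_apply, Finset.sum_eq_single p.swap]
  · simp
  · intro r _ hr
    rw [Matrix.of_apply, if_neg (fun h => hr (by rw [h, Prod.swap_swap])), zero_mul]
  · intro h; exact absurd (Finset.mem_univ _) h

theorem mul_sw_apply (X : Matrix Ix Ix F) (p q : Ix) : (X * mat (sw : GL Ix F)) p q = -X p q.swap := by
  show (X * -(Matrix.of fun p q : Ix => if p = q.swap then (1 : F) else 0)) p q = _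
  rw [mul_neg, Matrix.neg_apply, neg_inj, Matrix.mul_apply, Finset.sum_eq_single q.swap]
  · simp
  · intro r _ hr
    rw [Matrix.of_apply, if_neg hr, mul_zero]
  · intro h; exact absurd (Finset.mem_univ _) h

theorem sw_conj_apply (g : GL Ix F) (p q : Ix) : mat (sw * g * sw⁻¹ : GL Ix F) p q = mat g p.swap q.swap := by
  rw [sw_inv, Units.val_mul, mul_sw_apply, Units.val_mul, sw_mul_apply, neg_neg]

theorem sw_sg_clock : sw * sg (clock o) * sw⁻¹ = bd fun i : Fin 3 => dlast o ^ i.val := Units.ext (by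
  ext ⟨a, i⟩ ⟨b, k⟩
  rw [sw_conj_apply, sg_val, bd_val]
  simp only [blockDiagonal_apply, Prod.swap_prod_mk, Units.val_pow_eq_pow_val]
  show (if a = b then (if a = 2 then (!![1, 0, 0; 0, o.w, 0; 0, 0, o.w ^ 2] : Matrix (Fin 3) (Fin 3) F) else 1) i k else 0) =
    if i = k then ((!![1, 0, 0; 0, 1, 0; 0, 0, o.w] : Matrix (Fin 3) (Fin 3) F) ^ i.val) a b else 0
  fin_cases a <;> fin_cases b <;> fin_cases i <;> fin_cases k <;>
    simp [pow_two, Matrix.mul_apply, Fin.sum_univ_three])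

/-- The conjugate of `diag (1, 1, w)` by the Fourier matrix. -/
theorem four_dlast : mat (four o * dlast o * (four o)⁻¹) =
    !![1 + (o.w - 1) / 3, (o.w - 1) / 3 * o.w, (o.w - 1) / 3 * o.w ^ 2;
      (o.w - 1) / 3 * o.w ^ 2, 1 + (o.w - 1) / 3, (o.w - 1) / 3 * o.w;
      (o.w - 1) / 3 * o.w, (o.w - 1) / 3 * o.w ^ 2, 1 + (o.w - 1) / 3] := by
  have := o.cube; have := o.sum; have := o.s_ne; have := o.three
  rw [Units.val_mul, Units.mul_inv_eq_iff_eq_mul, Units.val_mul]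
  show (o.s⁻¹ • !![1, 1, 1; 1, o.w, o.w ^ 2; 1, o.w ^ 2, o.w]) * !![1, 0, 0; 0, 1, 0; 0, 0, o.w] =
    _ * (o.s⁻¹ • !![1, 1, 1; 1, o.w, o.w ^ 2; 1, o.w ^ 2, o.w])
  ext i j; fin_cases i <;> fin_cases j <;>
    simp [Matrix.mul_apply, Fin.sum_univ_three] <;> field_simp <;> grind

theorem four_dlast_inv : mat (four o * (dlast o)⁻¹ * (four o)⁻¹) =
    !![1 + (o.w ^ 2 - 1) / 3, (o.w ^ 2 - 1) / 3 * o.w, (o.w ^ 2 - 1) / 3 * o.w ^ 2;
      (o.w ^ 2 - 1) / 3 * o.w ^ 2, 1 + (o.w ^ 2 - 1) / 3, (o.w ^ 2 - 1) / 3 * o.w;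
      (o.w ^ 2 - 1) / 3 * o.w, (o.w ^ 2 - 1) / 3 * o.w ^ 2, 1 + (o.w ^ 2 - 1) / 3] := by
  have := o.cube; have := o.sum; have := o.s_ne; have := o.three
  rw [Units.val_mul, Units.mul_inv_eq_iff_eq_mul, Units.val_mul]
  show (o.s⁻¹ • !![1, 1, 1; 1, o.w, o.w ^ 2; 1, o.w ^ 2, o.w]) * !![1, 0, 0; 0, 1, 0; 0, 0, o.w ^ 2] =
    _ * (o.s⁻¹ • !![1, 1, 1; 1, o.w, o.w ^ 2; 1, o.w ^ 2, o.w])
  ext i j; fin_cases i <;> fin_cases j <;>
    simp [Matrix.mul_apply, Fin.sum_univ_three] <;> field_simp <;> grind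

/-- The commutator used to reach the central involution. -/
def uu : GL (Fin 3) F :=
  dlast o * (four o * dlast o * (four o)⁻¹) * (dlast o)⁻¹ * (four o * (dlast o)⁻¹ * (four o)⁻¹)

theorem uu_sq : clock o * shift F * (uu o * uu o) * (clock o * shift F)⁻¹ = cent := by
  rw [mul_inv_eq_iff_eq_mul]
  apply Units.ext
  have := o.cube; have := o.sum; have := o.three
  rw [uu]
  have hE := four_dlast o
  have hE' := four_dlast_inv o
  generalize four o * dlast o * (four o)⁻¹ = E at hE ⊢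
  generalize four o * (dlast o)⁻¹ * (four o)⁻¹ = E' at hE' ⊢
  simp only [Units.val_mul, hE, hE']
  show !![1, 0, 0; 0, o.w, 0; 0, 0, o.w ^ 2] * !![0, 0, 1; 1, 0, 0; 0, 1, 0] *
      (!![1, 0, 0; 0, 1, 0; 0, 0, o.w] * _ * !![1, 0, 0; 0, 1, 0; 0, 0, o.w ^ 2] * _ *
        (!![1, 0, 0; 0, 1, 0; 0, 0, o.w] * _ * !![1, 0, 0; 0, 1, 0; 0, 0, o.w ^ 2] * _)) =
    (!![-1, 0, 0; 0, 0, -1; 0, -1, 0] : Matrix (Fin 3) (Fin 3) F) *
      (!![1, 0, 0; 0, o.w, 0; 0, 0, o.w ^ 2] * !![0, 0, 1; 1, 0, 0; 0, 1, 0])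
  ext i j; fin_cases i <;> fin_cases j <;>
    simp [Matrix.mul_apply, Fin.sum_univ_three] <;> field_simp <;> grind

/-- `diag (1, 1, -1)`. -/
def flipLast : GL (Fin 3) F where
  val := !![1, 0, 0; 0, 1, 0; 0, 0, -1]
  inv := !![1, 0, 0; 0, 1, 0; 0, 0, -1]
  val_inv := by ext i j; fin_cases i <;> fin_cases j <;> simp [Matrix.mul_apply, Fin.sum_univ_three]
  inv_val := by ext i j; fin_cases i <;> fin_cases j <;> simp [Matrix.mul_apply, Fin.sum_univ_three]

theorem flipLast_not_mem (h2 : (2 : F) ≠ 0) : (flipLast : GL (Fin 3) F) ∉ subgroupNormalizer (heis o) := by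
  intro hn
  obtain ⟨v, hv⟩ := pr_of_mem o ((Subgroup.mem_normalizer_iff.1 hn _).1 (shift_mem o))
  obtain ⟨c, hc⟩ := pr_eq.1 hv
  obtain ⟨i, j⟩ := v
  change Fin 3 at i j
  have hm : mat (mono o ((i, j) : Pnt)) = Matrix.of fun p r : Fin 3 => if p = r + j then o.w ^ (i.val * (p : ℕ)) else 0 :=
    mo_val o i j
  rw [Units.val_mul, Units.val_mul, hm] at hc
  have e10 := congrFun (congrFun hc 1) 0
  have e21 := congrFun (congrFun hc 2) 1
  have e02 := congrFun (congrFun hc 0) 2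
  change ((!![1, 0, 0; 0, 1, 0; 0, 0, -1] : Matrix (Fin 3) (Fin 3) F) * !![0, 0, 1; 1, 0, 0; 0, 1, 0] *
    !![1, 0, 0; 0, 1, 0; 0, 0, -1] : Matrix (Fin 3) (Fin 3) F) 1 0 = _ at e10
  change ((!![1, 0, 0; 0, 1, 0; 0, 0, -1] : Matrix (Fin 3) (Fin 3) F) * !![0, 0, 1; 1, 0, 0; 0, 1, 0] *
    !![1, 0, 0; 0, 1, 0; 0, 0, -1] : Matrix (Fin 3) (Fin 3) F) 2 1 = _ at e21
  change ((!![1, 0, 0; 0, 1, 0; 0, 0, -1] : Matrix (Fin 3) (Fin 3) F) * !![0, 0, 1; 1, 0, 0; 0, 1, 0] *
    !![1, 0, 0; 0, 1, 0; 0, 0, -1] : Matrix (Fin 3) (Fin 3) F) 0 2 = _ at e02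
  have hw := o.sum
  have h3 := o.three
  have hc' := o.cube
  fin_cases i <;> fin_cases j <;>
    simp [Matrix.mul_apply, Fin.sum_univ_three] at e10 e21 e02 <;> grind

theorem cycle_mul_apply (X : Matrix Ix Ix F) (a i : Fin 3) (q : Ix) :
    (mat (sw * sg (shift F) * sw⁻¹ : GL Ix F) * X) (a, i) q = X (a, if a = 2 then i - 1 else i) q := by
  simp only [Matrix.mul_apply, sw_conj_apply, sg_val, blockDiagonal_apply, Fintype.sum_prod_type, Prod.swap_prod_mk]
  rw [Finset.sum_eq_single a (fun c _ hc => Finset.sum_eq_zero fun l _ => by rw [if_neg (Ne.symm hc), zero_mul])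
    fun h => absurd (Finset.mem_univ a) h]
  simp only [if_true]
  fin_cases a <;> fin_cases i <;>
    simp [shift, Fin.sum_univ_three, show (0 - 1 : Fin 3) = 2 from rfl, show (1 - 1 : Fin 3) = 0 from rfl,
      show (2 - 1 : Fin 3) = 1 from rfl, Matrix.one_apply]

theorem mul_cycle_apply (X : Matrix Ix Ix F) (p : Ix) (b k : Fin 3) :
    (X * mat (sw * sg (shift F) * sw⁻¹ : GL Ix F)) p (b, k) = X p (b, if b = 2 then k + 1 else k) := by
  simp only [Matrix.mul_apply, sw_conj_apply, sg_val, blockDiagonal_apply, Fintype.sum_prod_type, Prod.swap_prod_mk]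
  rw [Finset.sum_eq_single b (fun c _ hc => Finset.sum_eq_zero fun l _ => by rw [if_neg hc, mul_zero])
    fun h => absurd (Finset.mem_univ b) h]
  simp only [if_true]
  fin_cases b <;> fin_cases k <;> simp [shift, Fin.sum_univ_three, Matrix.one_apply]

/-- The involution on the block. -/
theorem key_perm : sw * sg (shift F) * sw⁻¹ * sg (shift F ^ 2 * cent * (shift F ^ 2)⁻¹) *
    (sw * sg (shift F) * sw⁻¹)⁻¹ =
      bd ![flipLast, 1, flipLast * (shift F ^ 2 * cent * (shift F ^ 2)⁻¹)] := by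
  have ex : mat (shift F ^ 2 * cent * (shift F ^ 2)⁻¹) = !![0, -1, 0; -1, 0, 0; 0, 0, -1] := by
    rw [Units.val_mul, Units.mul_inv_eq_iff_eq_mul, Units.val_mul, Units.val_pow_eq_pow_val, pow_two]
    show (!![0, 0, 1; 1, 0, 0; 0, 1, 0] * !![0, 0, 1; 1, 0, 0; 0, 1, 0] : Matrix (Fin 3) (Fin 3) F) *
      !![-1, 0, 0; 0, 0, -1; 0, -1, 0] = _ * (!![0, 0, 1; 1, 0, 0; 0, 1, 0] * !![0, 0, 1; 1, 0, 0; 0, 1, 0])
    ext i j; fin_cases i <;> fin_cases j <;> simp [Matrix.mul_apply, Fin.sum_univ_three]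
  have e3 : mat (flipLast * (shift F ^ 2 * cent * (shift F ^ 2)⁻¹)) = !![0, -1, 0; -1, 0, 0; 0, 0, 1] := by
    rw [Units.val_mul, ex]
    show !![1, 0, 0; 0, 1, 0; 0, 0, -1] * _ = _
    ext i j; fin_cases i <;> fin_cases j <;> simp [Matrix.mul_apply, Fin.sum_univ_three]
  have e4 : mat (flipLast : GL (Fin 3) F) = !![1, 0, 0; 0, 1, 0; 0, 0, -1] := rfl
  rw [mul_inv_eq_iff_eq_mul]
  apply Units.ext
  ext ⟨a, i⟩ ⟨b, k⟩
  rw [Units.val_mul _ (sg _), Units.val_mul (bd _), cycle_mul_apply, mul_cycle_apply, sg_val, bd_val, blockDiagonal_apply,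
    blockDiagonal_apply]
  fin_cases a <;> fin_cases i <;> fin_cases b <;> fin_cases k <;>
    simp [ex, e3, e4, show (0 - 1 : Fin 3) = 2 from rfl, show (1 - 1 : Fin 3) = 0 from rfl,
      show (2 - 1 : Fin 3) = 1 from rfl]

variable {o} [Finite F] {A : Amb o} {M : Subgroup (GL Ix F)}

/-- All components of block diagonal elements normalise the Heisenberg group. -/
def Good (o : Omega F) (M : Subgroup (GL Ix F)) : Prop :=
  ∀ f, bd f ∈ M → ∀ i : Fin 3, f i ∈ subgroupNormalizer (heis o)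

theorem Over.sg_conj (O : Over A M) {n y : GL (Fin 3) F} (hn : cn n ∈ M) (hy : sg y ∈ M) :
    sg (n * y * n⁻¹) ∈ M := by
  rw [← cn_sg]; exact M.mul_mem (M.mul_mem hn hy) (M.inv_mem hn)

/-- A supported element of the Heisenberg group brings the clock, the shift and the central involution. -/
theorem Over.supported (O : Over A M) {z : GL (Fin 3) F} (hz : z ∈ heis o) (hzM : sg z ∈ M) (hne : ¬ pr z = 1) :
    sg (clock o) ∈ M ∧ sg (shift F) ∈ M ∧ sg (cent : GL (Fin 3) F) ∈ M := by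
  obtain ⟨v, hv⟩ := pr_of_mem o hz
  have hv0 : v ≠ 0 := fun h => hne (by rw [hv, h, mono_zero, map_one])
  -- the clock
  obtain ⟨n, hn, hsend⟩ := exists_word_sends o hv0
  have hz' : sg (n * z * n⁻¹) ∈ M := O.sg_conj (O.cn_word hn) hzM
  have hclock : sg (clock o) ∈ M := by
    have h3 : (n * z * n⁻¹) ^ 3 = 1 := by rw [conj_pow, cube_of_mem o hz, mul_one, mul_inv_cancel]
    obtain ⟨c, hc⟩ := pr_eq.1 (show pr (n * z * n⁻¹) = pr (clock o) by
      rw [map_mul, map_mul, map_inv, hv, ← mono_fst o]; exact hsend)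
    have hc3 : c ^ 3 = 1 := by
      have h1 := congrArg Units.val h3
      rw [Units.val_pow_eq_pow_val, hc, smul_pow, ← Units.val_pow_eq_pow_val, clock_pow_three o, Units.val_one] at h1
      simpa using congrFun (congrFun h1 0) 0
    obtain ⟨i, hi⟩ : ∃ i : Fin 3, c = o.w ^ (i : ℕ) := by
      rcases mul_eq_zero.1 (show (c - 1) * (c - o.w) * (c - o.w ^ 2) = 0 by
        linear_combination hc3 - c * (c - o.w) * o.sum - o.cube) with h | h
      · rcases mul_eq_zero.1 h with h | h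
        · exact ⟨0, by simpa using sub_eq_zero.1 h⟩
        · exact ⟨1, by simpa using sub_eq_zero.1 h⟩
      · exact ⟨2, sub_eq_zero.1 h⟩
    have e : n * z * n⁻¹ = sc o ^ i.val * clock o := Units.ext (by
      rw [hc, Units.val_mul (sc o ^ i.val), sc_pow, smul_mul_assoc, one_mul, hi])
    rw [e, map_mul, map_pow, sg_sc] at hz'
    have := M.mul_mem (M.inv_mem (M.pow_mem O.zb_mem i.val)) hz'
    rwa [inv_mul_cancel_left] at this
  have hshift : sg (shift F) ∈ M := by
    have e : (four o)⁻¹ * clock o * (four o)⁻¹⁻¹ = shift F := by rw [← conj_four_shift o]; group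
    rw [← e]
    exact O.sg_conj (O.cn_word ((words o).inv_mem (four_mem_words o))) hclock
  have hsw := O.sw_mem
  -- the commutator
  have hg : bd (fun i : Fin 3 => dlast o ^ i.val) ∈ M := by
    rw [← sw_sg_clock]; exact M.mul_mem (M.mul_mem hsw hclock) (M.inv_mem hsw)
  have ha := O.shift_family hg
  have hb : bd (fun i => four o * (dlast o ^ i.val)⁻¹ * (four o)⁻¹) ∈ M := by
    have h4 := O.cn_word (four_mem_words o)
    have := M.mul_mem (M.mul_mem h4 (M.inv_mem hg)) (M.inv_mem h4)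
    rwa [cn, MonoidHom.comp_apply, ← map_inv, ← map_inv, ← map_mul, ← map_mul] at this
  have hu : sg (uu o) ∈ M := by
    have := M.mul_mem (M.mul_mem (M.mul_mem ha hb) (M.inv_mem ha)) (M.inv_mem hb)
    rw [← map_inv, ← map_inv, ← map_mul, ← map_mul, ← map_mul] at this
    rw [sg, MonoidHom.comp_apply]
    convert this using 2
    funext i
    have h3 : dlast o ^ 3 = 1 := dlast_cube o
    have hi2 : (dlast o ^ 2)⁻¹ = dlast o := inv_eq_of_mul_eq_one_right (by rw [← pow_succ, h3])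
    fin_cases i
    · simp
    · simp [show (1 - 1 : Fin 3) = 0 from rfl]
    · simp only [show (2 - 1 : Fin 3) = 1 from rfl, Pi.mul_apply, Pi.inv_apply]
      simp [uu, hi2, mul_assoc]
  have hcent : sg (cent : GL (Fin 3) F) ∈ M := by
    have hu2 : sg (uu o * uu o) ∈ M := by rw [map_mul]; exact M.mul_mem hu hu
    rw [← uu_sq o]
    exact O.sg_conj (O.cn_heis ((heis o).mul_mem (clock_mem o) (shift_mem o))) hu2
  exact ⟨hclock, hshift, hcent⟩

/-- **No supported element.** -/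
theorem Over.claim (O : Over A M) (h2 : (2 : F) ≠ 0) (hgood : Good o M) {z : GL (Fin 3) F}
    (hz : z ∈ heis o) (hzM : sg z ∈ M) : pr z = 1 := by
  by_contra hne
  obtain ⟨-, hshift, hcent⟩ := O.supported hz hzM hne
  have hsw := O.sw_mem
  -- the contradiction
  have hσ : sw * sg (shift F) * sw⁻¹ ∈ M := M.mul_mem (M.mul_mem hsw hshift) (M.inv_mem hsw)
  have hj : sg (shift F ^ 2 * cent * (shift F ^ 2)⁻¹) ∈ M :=
    O.sg_conj (O.cn_heis ((heis o).pow_mem (shift_mem o) 2)) hcent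
  have := hgood _ (key_perm (F := F) ▸ M.mul_mem (M.mul_mem hσ hj) (M.inv_mem hσ)) 0
  exact flipLast_not_mem o h2 this

end CfsgLib.SympThree
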