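import Cfsg.Agent.SympThree.UnitaryTop

/-!
# In `GU₃ (2)` everything normalises the Heisenberg group
-/

set_option autoImplicit false
set_option linter.unusedSectionVars false

namespace CfsgLib.SympThree

open Matrix Cfsg.Geo CfsgLib.SLThree.Hessian

local notation:max "mat" => Units.val

variable {F : Type*} [Field F] [Fintype F] {σ : F ≃+* F} (o : Omega F)

theorem two_zero_of_card (hF : Fintype.card F = 4) : (2 : F) = 0 := by
  have h : ((Fintype.card F : ℕ) : F) = 0 := Nat.cast_card_eq_zero F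
  rw [hF] at h
  push_cast at h
  exact mul_self_eq_zero.1 (show (2 : F) * 2 = 0 by linear_combination h)

theorem cube_of_card (hF : Fintype.card F = 4) {x : F} (hx : x ≠ 0) : x ^ 3 = 1 := by
  have := FiniteField.pow_card_sub_one_eq_one x hx
  rwa [hF] at this

theorem norm_of_card (hF : Fintype.card F = 4) (hσ : ∀ x, σ x = x ^ 2) {x : F} (hx : x ≠ 0) : x * σ x = 1 := by
  rw [hσ, ← pow_succ', cube_of_card hF hx]

/-- Three norms summing to one. -/
theorem norm_three (hF : Fintype.card F = 4) (hσ : ∀ x, σ x = x ^ 2) {a b c : F}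
    (h : a * σ a + b * σ b + c * σ c = 1) :
    (a ≠ 0 ∧ b = 0 ∧ c = 0) ∨ (a = 0 ∧ b ≠ 0 ∧ c = 0) ∨ (a = 0 ∧ b = 0 ∧ c ≠ 0) ∨ (a ≠ 0 ∧ b ≠ 0 ∧ c ≠ 0) := by
  have h2 := two_zero_of_card hF
  have hn : ∀ x : F, x ≠ 0 → x * σ x = 1 := fun x hx => norm_of_card hF hσ hx
  clear hσ
  by_cases ha : a = 0 <;> by_cases hb : b = 0 <;> by_cases hc : c = 0
  all_goals simp_all
  all_goals exact absurd (show (1 : F) = 0 by linear_combination h2 - h) one_ne_zero

theorem col_rel {g : GL (Fin 3) F} (hg : g ∈ UG σ (Fin 3)) (j k : Fin 3) :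
    mat g 0 j * σ (mat g 0 k) + mat g 1 j * σ (mat g 1 k) + mat g 2 j * σ (mat g 2 k) =
      if j = k then 1 else 0 := by
  have h := congrFun (congrFun (mem_UG.1 hg) j) k
  simpa [Matrix.mul_apply, Fin.sum_univ_three, Matrix.one_apply] using h

/-- Diagonal matrices with cube root entries normalise. -/
theorem dgu_mem_normalizer (d : Fin 3 → Fˣ) (hd : ∀ i, (d i : F) ^ 3 = 1) :
    dgu d ∈ subgroupNormalizer (heis o) := by
  obtain ⟨a, ha⟩ := exists_cube_pow o (hd 0)
  obtain ⟨b, hb⟩ := exists_cube_pow o (hd 1)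
  obtain ⟨c, hc⟩ := exists_cube_pow o (hd 2)
  have hN := subgroupNormalizer (heis o)
  have e : dgu d = sc o ^ a * tw o ^ (2 * b + 2 * a + 2 * c) * clock o ^ (c + 2 * b) := by
    apply Units.ext
    rw [Units.val_mul, Units.val_mul, sc_pow, smul_mul_assoc, one_mul, Units.val_pow_eq_pow_val,
      Units.val_pow_eq_pow_val]
    have h1 : mat (tw o) = Matrix.diagonal ![1, o.w, o.w] := by
      show (!![1, 0, 0; 0, o.w, 0; 0, 0, o.w] : Matrix (Fin 3) (Fin 3) F) = _
      ext i j; fin_cases i <;> fin_cases j <;> simp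
    have h2 : mat (clock o) = Matrix.diagonal fun i => o.w ^ i.val := by
      ext i j; rw [clock_apply, Matrix.diagonal_apply]
    rw [h1, h2, diagonal_pow, diagonal_pow, smul_mul_assoc, diagonal_mul_diagonal, ← diagonal_smul, dgu_val]
    congr 1
    funext i
    fin_cases i <;>
      simp only [Pi.smul_apply, Pi.pow_apply, smul_eq_mul, ha, hb, hc, ← pow_mul, ← pow_add, Fin.zero_eta,
        Fin.mk_one, Fin.reduceFinMk, Matrix.cons_val_zero, Matrix.cons_val_one, Matrix.cons_val, one_pow,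
        Fin.val_zero, Fin.val_one, Fin.val_two, zero_mul, one_mul, pow_zero, mul_one] <;>
      rw [pow_eq_pow_mod _ o.cube] <;> (conv_rhs => rw [pow_eq_pow_mod _ o.cube]) <;> congr 1 <;> omega
  rw [e]
  exact Subgroup.mul_mem _ (Subgroup.mul_mem _ (heis_le_normalizer o ((heis o).pow_mem (sc_mem o) _))
    (words_le_normalizer ((words o).pow_mem (tw_mem_words o) _)))
    (heis_le_normalizer o ((heis o).pow_mem (clock_mem o) _))

/-- **Everything normalises.** -/
theorem mem_normalizer_two (hF : Fintype.card F = 4) (hσ : ∀ x, σ x = x ^ 2) (hw : σ o.w = o.w ^ 2)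
    {g : GL (Fin 3) F} (hg : g ∈ UG σ (Fin 3)) : g ∈ subgroupNormalizer (heis o) := by
  classical
  have hdU : ∀ d : Fin 3 → Fˣ, dgu d ∈ UG σ (Fin 3) := fun d =>
    mem_UG_diagonal (fun i => norm_of_card hF hσ (d i).ne_zero) (dgu_val d)
  have hdN : ∀ d : Fin 3 → Fˣ, dgu d ∈ subgroupNormalizer (heis o) := fun d =>
    dgu_mem_normalizer o d fun i => cube_of_card hF (d i).ne_zero
  have hsN : ∀ k : ℕ, shift F ^ k ∈ subgroupNormalizer (heis o) := fun k =>
    heis_le_normalizer o ((heis o).pow_mem (shift_mem o) k)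
  -- move the first column to the first axis
  obtain ⟨n, hnN, hnU, h1, h2⟩ : ∃ n ∈ subgroupNormalizer (heis o), n ∈ UG σ (Fin 3) ∧
      mat (n * g) 1 0 = 0 ∧ mat (n * g) 2 0 = 0 := by
    have hcol := col_rel hg 0 0
    rw [if_pos rfl] at hcol
    rcases norm_three hF hσ hcol with ⟨ha, hb, hc⟩ | ⟨ha, hb, hc⟩ | ⟨ha, hb, hc⟩ | ⟨ha, hb, hc⟩
    · exact ⟨1, Subgroup.one_mem _, Subgroup.one_mem _, by simpa using hb, by simpa using hc⟩
    · refine ⟨shift F ^ (2 : Fin 3).val, hsN _, (UG σ _).pow_mem shift_mem_UG _, ?_, ?_⟩ <;>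
        rw [Units.val_mul, Matrix.mul_apply, Fin.sum_univ_three] <;>
        rw [shift_pow_apply, shift_pow_apply, shift_pow_apply] <;> simp [ha, hc]
    · refine ⟨shift F ^ (1 : Fin 3).val, hsN _, (UG σ _).pow_mem shift_mem_UG _, ?_, ?_⟩ <;>
        rw [Units.val_mul, Matrix.mul_apply, Fin.sum_univ_three] <;>
        rw [shift_pow_apply, shift_pow_apply, shift_pow_apply] <;> simp [ha, hb]
    · let d : Fin 3 → Fˣ := ![(Units.mk0 _ ha)⁻¹, (Units.mk0 _ hb)⁻¹, (Units.mk0 _ hc)⁻¹]
      refine ⟨(four o)⁻¹ * dgu d, Subgroup.mul_mem _ (Subgroup.inv_mem _ ((acts_four o).mem_normalizer o)) (hdN d),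
        Subgroup.mul_mem _ (Subgroup.inv_mem _ (four_mem_UG o hw)) (hdU d), ?_, ?_⟩ <;>
        rw [Units.val_mul, Matrix.mul_apply, Fin.sum_univ_three] <;>
        rw [Units.val_mul, show mat (four o)⁻¹ =
          o.s⁻¹ • !![-1, -1, -1; -1, -o.w ^ 2, -o.w; -1, -o.w, -o.w ^ 2] from rfl] <;>
        simp only [dgu_val, Matrix.mul_diagonal] <;>
        simp [d, ha, hb, hc] <;> linear_combination -o.s⁻¹ * o.sum
  set h := n * g with hh
  have hhU : h ∈ UG σ (Fin 3) := Subgroup.mul_mem _ hnU hg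
  suffices hN : h ∈ subgroupNormalizer (heis o) by
    have := Subgroup.mul_mem _ (Subgroup.inv_mem _ hnN) hN
    rwa [hh, inv_mul_cancel_left] at this
  clear_value h
  clear hh
  have h00 : mat h 0 0 ≠ 0 := fun h0 => by
    have := col_rel hhU 0 0
    rw [h0, h1, h2] at this
    simp at this
  have h01 : mat h 0 1 = 0 := by
    have := col_rel hhU 1 0
    rw [h1, h2] at this
    simpa [h00] using this
  have h02 : mat h 0 2 = 0 := by
    have := col_rel hhU 2 0
    rw [h1, h2] at this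
    simpa [h00] using this
  have c1 := col_rel hhU 1 1
  have c2 := col_rel hhU 2 2
  have c12 := col_rel hhU 1 2
  rw [if_pos rfl] at c1 c2
  rw [if_neg (by decide), h01] at c12
  rcases norm_three hF hσ c1 with ⟨ha, -, -⟩ | ⟨-, hb, hc⟩ | ⟨-, hb, hc⟩ | ⟨ha, -, -⟩
  · exact absurd h01 ha
  · have h12 : mat h 1 2 = 0 := by simpa [hb, hc] using c12
    have h22 : mat h 2 2 ≠ 0 := fun h0 => by rw [h02, h12, h0] at c2; simp at c2
    have e : h = dgu ![Units.mk0 _ h00, Units.mk0 _ hb, Units.mk0 _ h22] := Units.ext (by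
      rw [dgu_val]
      ext i j
      fin_cases i <;> fin_cases j <;> simp [h1, h2, h01, h02, hc, h12])
    rw [e]
    exact hdN _
  · have h22 : mat h 2 2 = 0 := by simpa [hb, hc] using c12
    have h12 : mat h 1 2 ≠ 0 := fun h0 => by rw [h02, h22, h0] at c2; simp at c2
    have e : h = (cent : GL (Fin 3) F) * dgu ![Units.mk0 _ h00, Units.mk0 _ hc, Units.mk0 _ h12] := by
      have hm : (-1 : F) = 1 := by linear_combination -two_zero_of_card hF
      apply Units.ext
      rw [Units.val_mul, dgu_val]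
      ext i j
      rw [Matrix.mul_diagonal, cent_apply]
      fin_cases i <;> fin_cases j <;>
        simp [h1, h2, h01, h02, hb, h22, hm, show (-1 : Fin 3) = 2 from rfl, show (-2 : Fin 3) = 1 from rfl]
    rw [e]
    exact Subgroup.mul_mem _ ((acts_cent o).mem_normalizer o) (hdN _)
  · exact absurd h01 ha

end CfsgLib.SympThree
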