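import Cfsg.Agent.SympThree.UnitaryTop
import Cfsg.Agent.SympThree.TwoNormal
import Cfsg.Agent.SUNine.Main

/-!
# In `SU₉ (2)` supported elements, the interchange and one non-monomial element generate
-/

set_option autoImplicit false
set_option linter.unusedSectionVars false

namespace CfsgLib.SympThree

open Matrix Cfsg.Geo CfsgLib.SLThree.Hessian
open scoped Kronecker

local notation:max "mat" => Units.val

variable {F : Type*} [Field F] [Fintype F] {σ : F ≃+* F} (o : Omega F)

/-- A permutation of the coordinates. -/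
def pm : Equiv.Perm Ix →* GL Ix F :=
  MonoidHom.toHomUnits
    { toFun := fun π => Matrix.of fun i j : Ix => if i = π j then (1 : F) else 0
      map_one' := by
        ext i j
        by_cases h : i = j <;> simp [Matrix.one_apply, h]
      map_mul' := fun π τ => by
        ext i j
        rw [Matrix.mul_apply, Finset.sum_eq_single (τ j)]
        · by_cases h : i = π (τ j) <;> simp [h]
        · intro b _ hb; simp [hb]
        · intro h; exact absurd (Finset.mem_univ _) h }

theorem pm_apply (π : Equiv.Perm Ix) (i j : Ix) : mat (pm π : GL Ix F) i j = if i = π j then 1 else 0 := rfl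

/-- A diagonal element. -/
def dg9 : (Ix → Fˣ) →* GL Ix F :=
  MonoidHom.toHomUnits
    { toFun := fun d => Matrix.diagonal fun i => (d i : F)
      map_one' := by simp
      map_mul' := fun d e => by simp [diagonal_mul_diagonal] }

theorem dg9_val (d : Ix → Fˣ) : mat (dg9 d : GL Ix F) = Matrix.diagonal fun i => (d i : F) := rfl

theorem pm_conj_dg9 (π : Equiv.Perm Ix) (d : Ix → Fˣ) :
    pm π * dg9 d * (pm π)⁻¹ = dg9 (d ∘ ⇑(π⁻¹)) := by
  rw [mul_inv_eq_iff_eq_mul]
  apply Units.ext
  ext i j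
  rw [Units.val_mul, Units.val_mul, dg9_val, dg9_val, Matrix.mul_diagonal, Matrix.diagonal_mul, pm_apply]
  by_cases h : i = π j
  · subst h; simp
  · simp [h]

theorem det_pm (h2 : (2 : F) = 0) (π : Equiv.Perm Ix) : (mat (pm π : GL Ix F)).det = 1 := by
  have e : mat (pm π : GL Ix F) = (π⁻¹ : Equiv.Perm Ix).permMatrix F := by
    ext i j
    rw [pm_apply]
    simp [PEquiv.toMatrix, Equiv.toPEquiv, Equiv.eq_symm_apply, eq_comm]
  rw [e, det_permutation]
  have hm : (-1 : F) = 1 := by linear_combination -h2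
  rcases Int.units_eq_one_or (Equiv.Perm.sign π⁻¹) with h | h <;> rw [h] <;> simp [hm]

/-- Translations and coordinate exchange with one transposition give all permutations. -/
theorem perm_top (S : Subgroup (Equiv.Perm Ix)) (h1 : (Equiv.addRight (1 : Fin 3)).prodCongr (Equiv.refl _) ∈ S)
    (h2 : (Equiv.refl (Fin 3)).prodCongr (Equiv.addRight (1 : Fin 3)) ∈ S)
    (h3 : Equiv.prodComm (Fin 3) (Fin 3) ∈ S) (h4 : Equiv.swap ((1, 2) : Ix) (2, 2) ∈ S) : S = ⊤ := by
  classical
  have conj : ∀ π ∈ S, ∀ x y : Ix, Equiv.swap x y ∈ S → Equiv.swap (π x) (π y) ∈ S := by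
    intro π hπ x y h
    have := S.mul_mem (S.mul_mem hπ h) (S.inv_mem hπ)
    rwa [Equiv.mul_swap_eq_swap_mul, mul_inv_cancel_right] at this
  have hT1 : ∀ x y : Ix, Equiv.swap x y ∈ S → Equiv.swap (x.1 + 1, x.2) (y.1 + 1, y.2) ∈ S :=
    fun x y h => conj _ h1 x y h
  have hT2 : ∀ x y : Ix, Equiv.swap x y ∈ S → Equiv.swap (x.1, x.2 + 1) (y.1, y.2 + 1) ∈ S :=
    fun x y h => conj _ h2 x y h
  have hC : ∀ x y : Ix, Equiv.swap x y ∈ S → Equiv.swap (x.2, x.1) (y.2, y.1) ∈ S :=
    fun x y h => conj _ h3 x y h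
  have col : ∀ a b i : Fin 3, a ≠ b → Equiv.swap ((a, i) : Ix) (b, i) ∈ S := by
    have c2 : ∀ i : Fin 3, Equiv.swap ((1, i) : Ix) (2, i) ∈ S := by
      intro i
      fin_cases i
      · exact hT2 _ _ h4
      · exact hT2 _ _ (hT2 _ _ h4)
      · exact h4
    intro a b i hab
    have s12 := c2 i
    have s20 := hT1 _ _ s12
    have s01 := hT1 _ _ s20
    fin_cases a <;> fin_cases b <;> first
      | exact absurd rfl hab
      | exact s12 | exact s20 | exact s01
      | (rw [Equiv.swap_comm]; first | exact s12 | exact s20 | exact s01)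
  have row : ∀ j a b : Fin 3, a ≠ b → Equiv.swap ((j, a) : Ix) (j, b) ∈ S :=
    fun j a b hab => hC _ _ (col a b j hab)
  refine eq_top_iff.2 ?_
  rw [← Equiv.Perm.closure_isSwap, Subgroup.closure_le]
  rintro _ ⟨⟨a, i⟩, ⟨b, k⟩, hne, rfl⟩
  by_cases hik : i = k
  · subst hik
    exact col a b i fun e => hne (by rw [e])
  by_cases hab : a = b
  · subst hab
    exact row a i k hik
  have := conj _ (col b a i (Ne.symm hab)) ((b, i) : Ix) (b, k) (row b i k hik)
  rwa [Equiv.swap_apply_left, Equiv.swap_apply_of_ne_of_ne (fun e => hik (congrArg Prod.snd e).symm)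
    (fun e => hik (congrArg Prod.snd e).symm)] at this

theorem exists_perm_pair {x₀ y₀ x y : Ix} (h₀ : x₀ ≠ y₀) (h : x ≠ y) :
    ∃ π : Equiv.Perm Ix, π x₀ = x ∧ π y₀ = y := by
  refine ⟨Equiv.swap (Equiv.swap x₀ x y₀) y * Equiv.swap x₀ x, ?_, ?_⟩
  · rw [Equiv.Perm.mul_apply, Equiv.swap_apply_left, Equiv.swap_apply_of_ne_of_ne ?_ h]
    intro e
    exact h₀ ((Equiv.swap x₀ x).injective (by rw [Equiv.swap_apply_left]; exact e))
  · rw [Equiv.Perm.mul_apply, Equiv.swap_apply_left]

/-- All permutations lie in the subgroup. -/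
theorem pm_mem {M : Subgroup (GL Ix F)} (h2 : (2 : F) = 0) (hR : R₀ o ≤ M) (hsw : (sw : GL Ix F) ∈ M)
    (hcent : sg (cent : GL (Fin 3) F) ∈ M) (π : Equiv.Perm Ix) : (pm π : GL Ix F) ∈ M := by
  have hm : (-1 : F) = 1 := by linear_combination -h2
  have htop := perm_top (M.comap pm) (?_) (?_) (?_) (?_)
  · exact show π ∈ M.comap pm by rw [htop]; exact Subgroup.mem_top _
  · have e : (pm ((Equiv.addRight (1 : Fin 3)).prodCongr (Equiv.refl _)) : GL Ix F) = cn (shift F) := Units.ext (by
      ext ⟨a, i⟩ ⟨b, k⟩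
      rw [pm_apply, cn_val, kroneckerMap_apply, shift_apply, Matrix.one_apply]
      simp only [Equiv.prodCongr_apply, Prod.map_apply, Equiv.coe_addRight, Equiv.refl_apply, Prod.mk.injEq]
      by_cases h1 : a = b + 1 <;> by_cases h2 : i = k <;> simp [h1, h2])
    show pm _ ∈ M
    rw [e]; exact hR (cn_mem o (shift_mem o))
  · have e : (pm ((Equiv.refl (Fin 3)).prodCongr (Equiv.addRight (1 : Fin 3))) : GL Ix F) = bl (shift F) :=
      Units.ext (by
        ext ⟨a, i⟩ ⟨b, k⟩
        rw [pm_apply, bl_val, kroneckerMap_apply, shift_apply, Matrix.one_apply]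
        simp only [Equiv.prodCongr_apply, Prod.map_apply, Equiv.coe_addRight, Equiv.refl_apply, Prod.mk.injEq]
        by_cases h1 : a = b <;> by_cases h2 : i = k + 1 <;> simp [h1, h2])
    show pm _ ∈ M
    rw [e]; exact hR (bl_mem o (shift_mem o))
  · have e : (pm (Equiv.prodComm (Fin 3) (Fin 3)) : GL Ix F) = sw := Units.ext (by
      ext p r
      rw [pm_apply]
      show _ = -(Matrix.of fun p q : Ix => if p = q.swap then (1 : F) else 0) p r
      simp only [Matrix.of_apply, Equiv.prodComm_apply]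
      by_cases h : p = r.swap <;> simp [h, hm])
    show pm _ ∈ M
    rw [e]; exact hsw
  · have e : (pm (Equiv.swap ((1, 2) : Ix) (2, 2)) : GL Ix F) = sg cent := Units.ext (by
      ext ⟨a, i⟩ ⟨b, k⟩
      rw [pm_apply, sg_val, blockDiagonal_apply, Equiv.swap_apply_def]
      fin_cases a <;> fin_cases b <;> fin_cases i <;> fin_cases k <;>
        simp [cent_apply, hm, Matrix.one_apply, show (-1 : Fin 3) = 2 from rfl, show (-2 : Fin 3) = 1 from rfl])
    show pm _ ∈ M
    rw [e]; exact hcent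

/-- Diagonal elements of determinant one lie in the subgroup. -/
theorem dg9_mem {M : Subgroup (GL Ix F)} (hF : Fintype.card F = 4) (hR : R₀ o ≤ M)
    (hsw : (sw : GL Ix F) ∈ M) (hcent : sg (cent : GL (Fin 3) F) ∈ M) (hclock : sg (clock o) ∈ M)
    (d : Ix → Fˣ) (hd : ∏ q, d q = 1) : (dg9 d : GL Ix F) ∈ M := by
  classical
  have h2 := two_zero_of_card hF
  let D : Subgroup (Ix → Fˣ) := M.comap dg9
  let W : Fˣ := Units.mk0 o.w o.ne_zero
  have hbase : (Pi.mulSingle ((1, 2) : Ix) W * Pi.mulSingle (2, 2) W⁻¹ : Ix → Fˣ) ∈ D := by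
    show dg9 _ ∈ M
    have hw2 : o.w⁻¹ = o.w ^ 2 := inv_eq_of_mul_eq_one_right (by rw [← pow_succ', o.cube])
    have e : (dg9 (Pi.mulSingle ((1, 2) : Ix) W * Pi.mulSingle (2, 2) W⁻¹) : GL Ix F) = sg (clock o) := Units.ext (by
      ext ⟨a, i⟩ ⟨b, k⟩
      rw [dg9_val, sg_val, blockDiagonal_apply, Matrix.diagonal_apply]
      fin_cases a <;> fin_cases b <;> fin_cases i <;> fin_cases k <;>
        simp [clock_apply, W, Matrix.one_apply, hw2])
    rw [e]; exact hclock
  have hpair : ∀ x y : Ix, x ≠ y → ∀ u : Fˣ, (Pi.mulSingle x u * Pi.mulSingle y u⁻¹ : Ix → Fˣ) ∈ D := by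
    intro x y hxy u
    obtain ⟨π, hx, hy⟩ := exists_perm_pair (show ((1, 2) : Ix) ≠ (2, 2) by decide) hxy
    have h1 : (Pi.mulSingle x W * Pi.mulSingle y W⁻¹ : Ix → Fˣ) ∈ D := by
      have := M.mul_mem (M.mul_mem (pm_mem o h2 hR hsw hcent π) (show dg9 _ ∈ M from hbase))
        (M.inv_mem (pm_mem o h2 hR hsw hcent π))
      rw [pm_conj_dg9] at this
      show dg9 _ ∈ M
      convert this using 2
      funext r
      simp only [Pi.mul_apply, Function.comp_apply, Pi.mulSingle_apply, Equiv.Perm.inv_def,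
        Equiv.symm_apply_eq, hx, hy]
    obtain ⟨i, hi⟩ := exists_cube_pow o (cube_of_card hF u.ne_zero)
    have hu : u = W ^ i := Units.ext (by simp [W, hi])
    have := D.pow_mem h1 i
    rw [mul_pow, ← Pi.mulSingle_pow, ← Pi.mulSingle_pow, inv_pow, ← hu] at this
    exact this
  have e : d = ∏ q ∈ Finset.univ.erase ((0, 0) : Ix),
      (Pi.mulSingle q (d q) * Pi.mulSingle ((0, 0) : Ix) (d q)⁻¹ : Ix → Fˣ) := by
    funext r
    rw [Finset.prod_apply]
    simp only [Pi.mul_apply, Finset.prod_mul_distrib]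
    by_cases hr : r = (0, 0)
    · subst hr
      rw [Finset.prod_eq_one (fun q hq => Pi.mulSingle_eq_of_ne (Finset.ne_of_mem_erase hq).symm _), one_mul]
      simp only [Pi.mulSingle_eq_same, Finset.prod_inv_distrib]
      rw [eq_inv_iff_mul_eq_one, Finset.mul_prod_erase _ _ (Finset.mem_univ _), hd]
    · rw [Finset.prod_eq_single r (fun q _ hq => Pi.mulSingle_eq_of_ne hq.symm _)
        (fun h => absurd (Finset.mem_erase.2 ⟨hr, Finset.mem_univ _⟩) h), Pi.mulSingle_eq_same,
        Finset.prod_eq_one (fun q _ => Pi.mulSingle_eq_of_ne hr _), mul_one]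
  show d ∈ D
  rw [e]
  exact D.prod_mem fun q hq => hpair q _ (Finset.ne_of_mem_erase hq) _

/-- **Generation in characteristic two.** -/
theorem top_two (hc : CfsgLib.AschbacherUnitary.IsConj 2 σ) (hF : Fintype.card F = 4) (hw : σ o.w = o.w ^ 2)
    (M : Subgroup (GL Ix F)) (hR : R₀ o ≤ M) (hsw : (sw : GL Ix F) ∈ M) (hfour : cn (four o) ∈ M)
    (hcent : sg (cent : GL (Fin 3) F) ∈ M) (hclock : sg (clock o) ∈ M) :
    UG σ Ix ⊓ specialLinear Ix F ≤ M := by
  classical
  have h2 := two_zero_of_card hF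
  set e : Ix ≃ Fin 9 := finProdFinEquiv
  have hmax := CfsgLib.SUNine.isMaximalIn_lines (q := 2) (by rw [hF]; norm_num) _
    (isNondeg_blockSub hc e (φ := fun p => e p) (k := 1) (by norm_num) Nat.one_pos (fun i => by
      rw [Finset.card_eq_one]
      refine ⟨e.symm i, ?_⟩
      ext p
      simp [Equiv.eq_symm_apply]))
  refine top_of_blocks hc hmax (fun g hg hgp => ?_) hfour ⟨?_, mem_sl.2 (by rw [det_cn, det_four, one_pow])⟩ ?_
  · obtain ⟨π, hπ⟩ := hgp
    let π' : Equiv.Perm Ix := e.trans (π.trans e.symm)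
    have hπ' : ∀ p r, mat g p r ≠ 0 → p = π' r := fun p r h => e.injective (by
      show e p = e (e.symm (π (e r)))
      rw [Equiv.apply_symm_apply]; exact hπ p r h)
    have hne : ∀ r, mat g (π' r) r ≠ 0 := by
      intro r h0
      refine (g.det_ne_zero) (Matrix.det_eq_zero_of_column_eq_zero r fun p => ?_)
      by_contra hp
      exact hp (by rw [hπ' p r hp]; exact h0)
    let d : Ix → Fˣ := fun r => Units.mk0 _ (hne r)
    have eg : g = pm π' * dg9 d := Units.ext (by
      ext p r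
      rw [Units.val_mul, dg9_val, Matrix.mul_diagonal, pm_apply]
      by_cases h : p = π' r
      · rw [if_pos h, one_mul, h]; rfl
      · rw [if_neg h, zero_mul]; exact by_contra fun h0 => h (hπ' p r h0))
    have hdet : ∏ q, d q = 1 := by
      have h := mem_sl.1 hg.2
      rw [eg, Units.val_mul, det_mul, det_pm h2, one_mul, dg9_val, det_diagonal] at h
      exact Units.ext (by simpa using h)
    rw [eg]
    exact M.mul_mem (pm_mem o h2 hR hsw hcent π') (dg9_mem o hF hR hsw hcent hclock d hdet)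
  · exact (bd_mem_UG _).2 fun _ => four_mem_UG o hw
  · rintro ⟨π, hπ⟩
    have key : ∀ a : Fin 3, mat (cn (four o)) (a, 0) (0, 0) ≠ 0 := by
      intro a
      rw [cn_val, kroneckerMap_apply, Matrix.one_apply_eq, mul_one]
      show (o.s⁻¹ • !![1, 1, 1; 1, o.w, o.w ^ 2; 1, o.w ^ 2, o.w] : Matrix (Fin 3) (Fin 3) F) a 0 ≠ 0
      fin_cases a <;> simp [o.s_ne]
    have := e.injective ((hπ _ _ (key 0)).trans (hπ _ _ (key 1)).symm)
    exact absurd this (by decide)

end CfsgLib.SympThree
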