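import Cfsg.Agent.SympThree.Closed
import Cfsg.Agent.SympThree.NormalForm
import Cfsg.Agent.AschbacherUnitary.Basic

/-!
# The unitary ambient groups
-/

set_option autoImplicit false
set_option linter.unusedSectionVars false

namespace CfsgLib.SympThree

open Matrix Cfsg.Geo CfsgLib.SLThree.Hessian
open scoped Kronecker

local notation:max "mat" => Units.val

variable {F : Type*} [Field F] (σ : F ≃+* F) (κ : Type) [Fintype κ] [DecidableEq κ]

/-- The isometries of the standard hermitian form. -/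
def UG : Subgroup (GL κ F) where
  carrier := {g | (mat g)ᵀ * (mat g).map σ = 1}
  one_mem' := by simp
  mul_mem' := fun {a b} ha hb => by
    show (mat (a * b))ᵀ * (mat (a * b)).map σ = 1
    rw [Units.val_mul, transpose_mul, Matrix.map_mul, mul_assoc, ← mul_assoc (mat a)ᵀ,
      show (mat a)ᵀ * (mat a).map σ = 1 from ha, one_mul]
    exact hb
  inv_mem' := fun {a} ha => by
    show (mat a⁻¹)ᵀ * (mat a⁻¹).map σ = 1
    have h1 : (mat a⁻¹)ᵀ * ((mat a)ᵀ * (mat a).map σ) * (mat a⁻¹).map σ = 1 := by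
      rw [← mul_assoc, ← transpose_mul, Units.mul_inv, transpose_one, one_mul, ← Matrix.map_mul,
        Units.mul_inv, Matrix.map_one _ (map_zero σ) (map_one σ)]
    rwa [show (mat a)ᵀ * (mat a).map σ = 1 from ha, mul_one] at h1

variable {σ κ}

theorem mem_UG {g : GL κ F} : g ∈ UG σ κ ↔ (mat g)ᵀ * (mat g).map σ = 1 := Iff.rfl

theorem mem_UG_perm {g : GL κ F} {π : κ → κ} (hπ : Function.Injective π) {ε : F} (hε : ε * σ ε = 1)
    (h : ∀ i j, mat g i j = if i = π j then ε else 0) : g ∈ UG σ κ := by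
  rw [mem_UG]
  ext j k
  rw [Matrix.mul_apply, Finset.sum_eq_single (π j) (fun i _ hi => by rw [transpose_apply, h, if_neg hi, zero_mul])
    (fun h' => absurd (Finset.mem_univ _) h'), transpose_apply, Matrix.map_apply, h, h, if_pos rfl, Matrix.one_apply]
  by_cases hjk : j = k
  · rw [if_pos hjk, if_pos (by rw [hjk]), hε]
  · rw [if_neg hjk, if_neg (fun e => hjk (hπ e)), map_zero, mul_zero]

theorem mem_UG_diagonal {g : GL κ F} {d : κ → F} (hd : ∀ i, d i * σ (d i) = 1) (h : mat g = Matrix.diagonal d) :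
    g ∈ UG σ κ := by
  rw [mem_UG, h, diagonal_transpose, Matrix.diagonal_map (map_zero σ), diagonal_mul_diagonal, ← diagonal_one]
  congr 1
  funext i
  exact hd i

theorem bd_mem_UG (f : Fin 3 → GL (Fin 3) F) : bd f ∈ UG σ Ix ↔ ∀ i, f i ∈ UG σ (Fin 3) := by
  rw [mem_UG, bd_val, blockDiagonal_transpose, blockDiagonal_map _ _ (map_zero σ), ← blockDiagonal_mul,
    ← blockDiagonal_one]
  exact blockDiagonal_injective.eq_iff.trans funext_iff

theorem bl_mem_UG {n : GL (Fin 3) F} (hn : n ∈ UG σ (Fin 3)) : bl n ∈ UG σ Ix := by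
  rw [mem_UG, bl_val, show ((1 : Matrix (Fin 3) (Fin 3) F) ⊗ₖ mat n)ᵀ = 1 ⊗ₖ (mat n)ᵀ by
      ext ⟨a, i⟩ ⟨b, k⟩; simp [kroneckerMap_apply, Matrix.one_apply, eq_comm],
    show ((1 : Matrix (Fin 3) (Fin 3) F) ⊗ₖ mat n).map σ = 1 ⊗ₖ (mat n).map σ by
      ext ⟨a, i⟩ ⟨b, k⟩; simp [kroneckerMap_apply, Matrix.one_apply, apply_ite σ],
    ← mul_kronecker_mul, one_mul, mem_UG.1 hn, one_kronecker_one]

theorem sw_mem_UG : (sw : GL Ix F) ∈ UG σ Ix := by
  refine mem_UG_perm (π := Prod.swap) Prod.swap_injective (ε := -1) (by simp) fun i j => ?_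
  show -(Matrix.of fun p q : Ix => if p = q.swap then (1 : F) else 0) i j = _
  simp only [Matrix.of_apply]
  split_ifs <;> simp

theorem cent_mem_UG : (cent : GL (Fin 3) F) ∈ UG σ (Fin 3) := by
  refine mem_UG_perm (π := fun a => -a) neg_injective (ε := -1) (by simp) fun i j => ?_
  show (!![-1, 0, 0; 0, 0, -1; 0, -1, 0] : Matrix (Fin 3) (Fin 3) F) i j = _
  fin_cases i <;> fin_cases j <;> simp [show (-1 : Fin 3) = 2 from rfl, show (-2 : Fin 3) = 1 from rfl]

variable [Finite F] (o : Omega F)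

theorem shift_mem_UG : shift F ∈ UG σ (Fin 3) := by
  refine mem_UG_perm (π := fun a => a + 1) (add_left_injective 1) (ε := 1) (by simp) fun i j => ?_
  exact shift_apply i j

theorem clock_mem_UG (hw : σ o.w = o.w ^ 2) : clock o ∈ UG σ (Fin 3) := by
  refine mem_UG_diagonal (d := fun a => o.w ^ a.val) (fun i => ?_) ?_
  · rw [map_pow, hw, ← pow_mul, ← pow_add, pow_eq_pow_mod _ o.cube]
    have h : (i.val + 2 * i.val) % 3 = 0 := by omega
    rw [h, pow_zero]
  · ext a b
    rw [clock_apply, Matrix.diagonal_apply]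

theorem tw_mem_UG (hw : σ o.w = o.w ^ 2) : tw o ∈ UG σ (Fin 3) := by
  refine mem_UG_diagonal (d := ![1, o.w, o.w]) (fun i => ?_) ?_
  · have := o.cube
    fin_cases i <;> simp [hw] <;> linear_combination this
  · show (!![1, 0, 0; 0, o.w, 0; 0, 0, o.w] : Matrix (Fin 3) (Fin 3) F) = _
    ext a b; fin_cases a <;> fin_cases b <;> simp

theorem four_mem_UG (hw : σ o.w = o.w ^ 2) : four o ∈ UG σ (Fin 3) := by
  have := o.cube; have := o.sum; have := o.s_sq; have := o.s_ne
  have hσs : σ o.s = -o.s := by simp [Omega.s, hw]; grind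
  rw [mem_UG]
  show (o.s⁻¹ • !![1, 1, 1; 1, o.w, o.w ^ 2; 1, o.w ^ 2, o.w])ᵀ *
    (o.s⁻¹ • !![1, 1, 1; 1, o.w, o.w ^ 2; 1, o.w ^ 2, o.w]).map σ = (1 : Matrix (Fin 3) (Fin 3) F)
  ext i j
  fin_cases i <;> fin_cases j <;>
    simp [Matrix.mul_apply, Fin.sum_univ_three, hw, hσs, map_inv₀] <;> field_simp <;> grind

theorem bmap_UG {g : GL Ix F} (hg : g ∈ UG σ Ix) (hc : g * cn cent = cn cent * g) {u : GL (Fin 3) F}
    (hu : mat u = bmat (mat g)) : u ∈ UG σ (Fin 3) := by
  rw [mem_UG]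
  ext k k'
  have e1 := congrFun (congrFun (mem_UG.1 hg) (1, k)) (1, k')
  have e2 := congrFun (congrFun (mem_UG.1 hg) (1, k)) (2, k')
  simp only [Matrix.mul_apply, transpose_apply, Matrix.map_apply, Fintype.sum_prod_type, Fin.sum_univ_three,
    Matrix.one_apply, Prod.mk.injEq] at e1 e2
  have h0 : ∀ l m, mat g (0, l) (2, m) = mat g (0, l) (1, m) := fun l m => by
    have := apply_flp hc 0 1 l m
    simpa [flp, show (-1 : Fin 3) = 2 from rfl] using this.symm
  have h1 : ∀ l m, mat g (2, l) (1, m) = mat g (1, l) (2, m) := fun l m => by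
    have := apply_flp hc 1 1 l m
    simpa [flp, show (-1 : Fin 3) = 2 from rfl] using this
  have h2 : ∀ l m, mat g (2, l) (2, m) = mat g (1, l) (1, m) := fun l m => by
    have := apply_flp hc 1 2 l m
    simpa [flp, show (-1 : Fin 3) = 2 from rfl, show (-2 : Fin 3) = 1 from rfl] using this
  simp only [h0, h1, h2] at e1 e2
  simp only [show ¬ ((1 : Fin 3) = 2) by decide, false_and, if_false, true_and] at e1 e2
  simp only [hu, Matrix.mul_apply, transpose_apply, Matrix.map_apply, bmat, Matrix.of_apply, map_sub,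
    Fin.sum_univ_three, Matrix.one_apply]
  linear_combination e1 - e2

/-- The unitary ambient groups. -/
def suAmb (hw : σ o.w = o.w ^ 2) : Amb o where
  U := UG σ (Fin 3)
  W := UG σ Ix
  bd_mem := bd_mem_UG
  bl_mem _ h := bl_mem_UG h
  sw_mem := sw_mem_UG
  clock_mem := clock_mem_UG o hw
  shift_mem := shift_mem_UG
  four_mem := four_mem_UG o hw
  tw_mem := tw_mem_UG o hw
  bmap _ hg hc _ hu := bmap_UG hg hc hu

theorem mem_GU_iff {n q : ℕ} [Fintype F] (h : CfsgLib.AschbacherUnitary.IsConj q σ) {g : GL (Fin n) F} :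
    g ∈ Cfsg.GU n F q ↔ g ∈ UG σ (Fin n) := h.mem_GU_iff

theorem reindex_mem_UG {ι : Type} [Fintype ι] [DecidableEq ι] (e : κ ≃ ι) {g : GL κ F} :
    glReindex e g ∈ UG σ ι ↔ g ∈ UG σ κ := by
  have hv : mat (glReindex e g) = Matrix.reindexAlgEquiv F F e (mat g) := rfl
  rw [mem_UG, mem_UG, hv]
  have : ((Matrix.reindexAlgEquiv F F e (mat g))ᵀ * (Matrix.reindexAlgEquiv F F e (mat g)).map σ) =
      Matrix.reindexAlgEquiv F F e ((mat g)ᵀ * (mat g).map σ) := by
    rw [map_mul]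
    rfl
  rw [this, ← map_one (Matrix.reindexAlgEquiv F F e)]
  exact (Matrix.reindexAlgEquiv F F e).injective.eq_iff

end CfsgLib.SympThree
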