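import Cfsg.Agent.SympThree.UnitaryModel
import Cfsg.Agent.SLThree.Hessian.Main
import Cfsg.Agent.SUThree.Hessian.Omega
import Cfsg.Agent.SUThree.Basic
import Cfsg.Agent.SUThree.Decomp.Core
import Cfsg.Agent.Forms4.UnitarySimple

/-!
# `SU₃ (p)`: transvections and normal subgroups
-/

set_option autoImplicit false
set_option linter.unusedSectionVars false

namespace CfsgLib.SympThree

open Matrix Cfsg.Geo CfsgLib.SLThree.Hessian CfsgLib.MaxSub CfsgLib.MaxSub.UC CfsgLib.MaxSub.Circle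

local notation:max "mat" => Units.val

variable {F : Type*} [Field F] [Fintype F] {p : ℕ} {σ : F ≃+* F}

theorem range_sub_one_rank {N : Matrix (Fin 3) (Fin 3) F} (hN : N * N = 0) {u : Fin 3 → F} (hu : N *ᵥ u ≠ 0)
    (x : Fin 3 → F) : ∃ a : F, N *ᵥ x = a • (N *ᵥ u) := by
  classical
  have hle : LinearMap.range N.mulVecLin ≤ LinearMap.ker N.mulVecLin := by
    rintro _ ⟨y, rfl⟩
    simp [mulVec_mulVec, hN]
  have h1 := LinearMap.finrank_range_add_finrank_ker N.mulVecLin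
  rw [Module.finrank_fin_fun] at h1
  have h2 := Submodule.finrank_mono hle
  have h3 : LinearMap.range N.mulVecLin = Submodule.span F {N *ᵥ u} := by
    refine (Submodule.eq_of_le_of_finrank_le (Submodule.span_le.2 ?_) ?_).symm
    · simpa using ⟨u, rfl⟩
    · rw [finrank_span_singleton hu]; omega
  have hx : N *ᵥ x ∈ LinearMap.range N.mulVecLin := ⟨x, rfl⟩
  rw [h3] at hx
  obtain ⟨a, ha⟩ := Submodule.mem_span_singleton.1 hx
  exact ⟨a, ha.symm⟩

/-- A unipotent isometry with square zero difference is a transvection. -/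
theorem exists_uTv_eq (hf : IsUnitaryForm σ (Cfsg.hermForm 3 F p)) {t : GL (Fin 3) F} (ht : t ∈ Cfsg.GU 3 F p)
    (h1 : t ≠ 1) (hsq : (mat t - 1) * (mat t - 1) = 0) :
    ∃ (v : Fin 3 → F) (c : F), v ≠ 0 ∧ c ≠ 0 ∧ Cfsg.hermForm 3 F p v v = 0 ∧ σ c = -c ∧ t = uTv p v c := by
  classical
  have hs := sesqForm_of_unitary hf
  set N := mat t - 1 with hN
  obtain ⟨u, hu⟩ : ∃ u, N *ᵥ u ≠ 0 := by
    by_contra h
    push Not at h
    refine h1 (Units.ext (sub_eq_zero.1 (Matrix.ext_of_mulVec_single fun i => ?_)))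
    rw [zero_mulVec]
    exact h _
  set w := N *ᵥ u
  have hfix : N *ᵥ w = 0 := by rw [mulVec_mulVec, hN, hsq, zero_mulVec]
  have htx : ∀ x, mat t *ᵥ x = x + N *ᵥ x := fun x => by rw [hN, sub_mulVec, one_mulVec]; abel
  have key : ∀ x y, Cfsg.hermForm 3 F p (N *ᵥ x) y + Cfsg.hermForm 3 F p x (N *ᵥ y) +
      Cfsg.hermForm 3 F p (N *ᵥ x) (N *ᵥ y) = 0 := fun x y => by
    have h := mem_GU_iff_forall.1 ht x y
    rw [htx, htx, hs.add_left, hs.add_right, hs.add_right] at h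
    linear_combination h
  have hww : Cfsg.hermForm 3 F p w w = 0 := by
    have h := key u w
    rw [hfix, hs.zero_right, hs.zero_right, add_zero, add_zero] at h
    exact h
  choose a ha using range_sub_one_rank hsq hu
  obtain ⟨y, hy⟩ := ((hf.nondegenerate w hu).2)
  have hax : ∀ x, a x = -σ (a y) / Cfsg.hermForm 3 F p w y * Cfsg.hermForm 3 F p x w := fun x => by
    have h := key x y
    rw [ha x, ha y, hs.smul_left, hs.smul_right, hs.smul_left, hs.smul_right, hww] at h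
    rw [div_mul_eq_mul_div, eq_div_iff hy]
    linear_combination h
  set c := -σ (a y) / Cfsg.hermForm 3 F p w y with hc
  have ht' : ∀ x, mat t *ᵥ x = x + (c * Cfsg.hermForm 3 F p x w) • w := fun x => by rw [htx, ha, hax]
  have hc0 : c ≠ 0 := fun h0 => hu (by
    show N *ᵥ u = 0
    rw [ha u, hax, h0, zero_mul, zero_smul])
  have hskew : σ c = -c := by
    have h := key y y
    rw [ha y, hs.smul_left, hs.smul_right, hs.smul_left, hs.smul_right, hww, hax y, map_mul, ← hf.herm] at h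
    have hy' : Cfsg.hermForm 3 F p y w ≠ 0 := fun h' => hy (by rw [hf.herm, h', map_zero])
    have h' : (c + σ c) * (Cfsg.hermForm 3 F p y w * Cfsg.hermForm 3 F p w y) = 0 := by linear_combination h
    exact eq_neg_of_add_eq_zero_right ((mul_eq_zero.1 h').resolve_right (mul_ne_zero hy' hy))
  exact ⟨w, c, hu, hc0, hww, hskew, Units.ext (Matrix.ext_of_mulVec_single fun i => by
    rw [ht', uTv_mulVec hf hww])⟩

variable (o : Omega F)

/-- An irreducible subgroup of `GU₃ (p)` with a transvection contains `SU₃ (p)`. -/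
theorem su_le_of_transvection (hf : IsUnitaryForm σ (Cfsg.hermForm 3 F p)) (hb : IsBar p σ) (hp : p.Prime)
    (hp3 : 3 ≤ p) {B : Subgroup (GL (Fin 3) F)} (hBG : B ≤ Cfsg.GU 3 F p) (hheis : heis o ≤ B)
    {t : GL (Fin 3) F} (ht : t ∈ B) (h1 : t ≠ 1) (hsq : (mat t - 1) * (mat t - 1) = 0) :
    Cfsg.GU 3 F p ⊓ specialLinear (Fin 3) F ≤ B := by
  obtain ⟨v, c, hv0, hc0, hv, hc, rfl⟩ := exists_uTv_eq hf (hBG ht) h1 hsq
  refine CfsgLib.SUThree.su_le_of_centre hf hb hp3 hBG ((irreducible_heis o).mono hheis) hv hv0 fun d hd => ?_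
  have hfix : σ (d / c) = d / c := by rw [map_div₀, hd, hc, neg_div_neg_eq]
  obtain ⟨n, hn⟩ := CfsgLib.SUThree.Hessian.exists_mul_natCast hb hp (map_one σ) one_ne_zero hfix
  rw [show d = (n : F) * c by rw [show (n : F) = d / c by simpa using hn, div_mul_cancel₀ _ hc0]]
  have key : ∀ n : ℕ, uTv p v ((n : F) * c) ∈ B := by
    intro n
    induction n with
    | zero => simp [uTv, tv_zero_left]
    | succ n ih =>
      rw [Nat.cast_succ, add_mul, one_mul, CfsgLib.SUThree.Decomp.uTv_add hf hv]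
      exact B.mul_mem ih ht
  exact key n

/-- A non-scalar element of determinant one generates `SU₃` as a normal subgroup. -/
theorem su_le_of_normalized (hf : IsUnitaryForm σ (Cfsg.hermForm 3 F p)) (hb : IsBar p σ) (hp3 : 3 ≤ p)
    (hw : σ o.w = o.w ^ 2) {K : Subgroup (GL (Fin 3) F)}
    (hn : ∀ h ∈ Cfsg.GU 3 F p ⊓ specialLinear (Fin 3) F, ∀ k ∈ K, k ∈ Cfsg.GU 3 F p ⊓ specialLinear (Fin 3) F →
      h * k * h⁻¹ ∈ K)
    {r : GL (Fin 3) F} (hr : r ∈ K) (hrS : r ∈ Cfsg.GU 3 F p ⊓ specialLinear (Fin 3) F)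
    (hns : r ∉ scalars (Fin 3) F) : Cfsg.GU 3 F p ⊓ specialLinear (Fin 3) F ≤ K := by
  have hcj : CfsgLib.AschbacherUnitary.IsConj p σ := ⟨hb.ne_refl, hb.involutive, hb.eq_pow⟩
  let f : Cfsg.SU 3 F p →* GL (Fin 3) F := Matrix.SpecialLinearGroup.toGL.comp (Cfsg.SU 3 F p).subtype
  have hf1 : ∀ x, f x ∈ Cfsg.GU 3 F p ⊓ specialLinear (Fin 3) F := fun x => ⟨x.2, mem_sl.2 x.1.2⟩
  have hf2 : ∀ g ∈ Cfsg.GU 3 F p ⊓ specialLinear (Fin 3) F, ∃ x, f x = g := fun g hg =>
    ⟨⟨⟨mat g, mem_sl.1 hg.2⟩, hg.1⟩, Units.ext rfl⟩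
  let K' := K.comap f
  haveI : K'.Normal := ⟨fun k hk h => by
    show f (h * k * h⁻¹) ∈ K
    rw [map_mul, map_mul, map_inv]
    exact hn _ (hf1 h) _ hk (hf1 k)⟩
  obtain ⟨r', hr'⟩ := hf2 r hrS
  haveI := CfsgLib.Forms4.isSimpleGroup_PSU (F := F) hb.card 3 le_rfl (by omega)
  let π := QuotientGroup.mk' (Subgroup.center (Cfsg.SU 3 F p))
  have hπ : Function.Surjective π := QuotientGroup.mk'_surjective _
  have hcs : ∀ z ∈ Subgroup.center (Cfsg.SU 3 F p), ∃ d : F, mat (f z) = d • 1 := by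
    intro z hz
    have hcomm : ∀ g ∈ Cfsg.GU 3 F p ⊓ specialLinear (Fin 3) F, mat g * mat (f z) = mat (f z) * mat g := by
      intro g hg
      obtain ⟨x, rfl⟩ := hf2 g hg
      rw [← Units.val_mul, ← Units.val_mul, ← map_mul, ← map_mul, Subgroup.mem_center_iff.1 hz x]
    have h1 := hcomm _ ⟨(mem_GU_iff hcj).2 (clock_mem_UG o hw), mem_sl.2 (det_clock o)⟩
    have h2 := hcomm _ ⟨(mem_GU_iff hcj).2 shift_mem_UG, mem_sl.2 det_shift⟩
    refine ⟨mat (f z) 0 0, ?_⟩
    have hoff : ∀ a b : Fin 3, a ≠ b → mat (f z) a b = 0 := by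
      intro a b hab
      have e := congrFun (congrFun h1 a) b
      simp only [Matrix.mul_apply, clock_apply, ite_mul, zero_mul, mul_ite, mul_zero, Finset.sum_ite_eq,
        Finset.sum_ite_eq', Finset.mem_univ, if_true] at e
      have hne : o.w ^ a.val - o.w ^ b.val ≠ 0 := fun h0 => hab (Fin.ext (by
        have := o.pow_inj (sub_eq_zero.1 h0)
        rwa [Nat.mod_eq_of_lt a.2, Nat.mod_eq_of_lt b.2] at this))
      exact (mul_eq_zero.1 (show (o.w ^ a.val - o.w ^ b.val) * mat (f z) a b = 0 by linear_combination e)).resolve_left hne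
    have hdiag : ∀ a : Fin 3, mat (f z) (a + 1) (a + 1) = mat (f z) a a := by
      intro a
      have e := congrFun (congrFun h2 (a + 1)) a
      simp only [Matrix.mul_apply, shift_apply, ite_mul, one_mul, zero_mul, mul_ite, mul_one, mul_zero,
        add_left_inj, Finset.sum_ite_eq, Finset.sum_ite_eq', Finset.mem_univ, if_true] at e
      exact e.symm
    ext a b
    by_cases hab : a = b
    · subst hab
      have h01 := hdiag 0
      have h12 := hdiag 1
      fin_cases a <;> simp_all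
    · rw [hoff a b hab, Matrix.smul_apply, Matrix.one_apply_ne hab, smul_zero]
  rcases Subgroup.Normal.eq_bot_or_eq_top (Subgroup.Normal.map (inferInstance : K'.Normal) π hπ) with h | h
  · exfalso
    have hmem : π r' ∈ (⊥ : Subgroup _) := h ▸ ⟨r', (by show f r' ∈ K; rw [hr']; exact hr), rfl⟩
    rw [Subgroup.mem_bot, QuotientGroup.mk'_apply, QuotientGroup.eq_one_iff] at hmem
    obtain ⟨d, hd⟩ := hcs r' hmem
    rw [hr'] at hd
    exact hns ((mem_scalars_iff r).2 ⟨Units.mk0 d (fun h0 => r.ne_zero (by rw [hd, h0, zero_smul])), hd⟩)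
  · haveI := CfsgLib.SUThree.Hessian.charP_of_bar hb (p := p)
    refine CfsgLib.SUThree.su_le_of_forall_centre hf hb hp3 fun v hv c hc => ?_
    have h3 : (3 : F) ≠ 0 := o.three
    have hc3 : σ (c / 3) = -(c / 3) := by rw [map_div₀, hc, map_ofNat, neg_div]
    obtain ⟨x, hx⟩ := hf2 _ (uTv_mem hf hv hc3)
    obtain ⟨k, hk, e⟩ : π x ∈ K'.map π := by rw [h]; exact Subgroup.mem_top _
    obtain ⟨d, hd⟩ := hcs (k⁻¹ * x) (QuotientGroup.eq.1 e)
    have hdet : d ^ 3 = 1 := by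
      have hd' : (mat (f (k⁻¹ * x))).det = 1 := mem_sl.1 (hf1 _).2
      rwa [hd, det_smul, det_one, mul_one, Fintype.card_fin] at hd'
    have hz3 : f (k⁻¹ * x) ^ 3 = 1 := Units.ext (by
      rw [Units.val_pow_eq_pow_val, hd, smul_pow, one_pow, hdet, one_smul, Units.val_one])
    have hcom : Commute (f k) (f (k⁻¹ * x)) := Units.ext (by
      rw [Units.val_mul, Units.val_mul, hd, mul_smul_comm, mul_one, smul_mul_assoc, one_mul])
    have hx3 : f x ^ 3 = f k ^ 3 := by
      conv_lhs => rw [show x = k * (k⁻¹ * x) by group, map_mul, hcom.mul_pow, hz3, mul_one]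
    have e3 : uTv p v c = uTv p v (c / 3) ^ 3 := by
      rw [pow_three, ← CfsgLib.SUThree.Decomp.uTv_add hf hv, ← CfsgLib.SUThree.Decomp.uTv_add hf hv]
      congr 1
      field_simp
      ring
    rw [e3, ← hx, hx3]
    exact K.pow_mem hk 3

end CfsgLib.SympThree
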