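import Cfsg.Agent.SympThree.UnitaryTop
import Cfsg.Agent.SympThree.UnitaryThree

/-!
# The unitary ambient groups in characteristic at least five
-/

set_option autoImplicit false
set_option linter.unusedSectionVars false

namespace CfsgLib.SympThree

open Matrix Cfsg.Geo CfsgLib.SLThree.Hessian CfsgLib.MaxSub CfsgLib.MaxSub.UC CfsgLib.MaxSub.Circle

local notation:max "mat" => Units.val

variable {F : Type*} [Field F] [Fintype F] {p : ℕ} {σ : F ≃+* F} (o : Omega F)

/-- In `U`, the standard group either has normalised overgroups or generates. -/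
theorem suRich (hb : IsBar p σ) (hp : p.Prime) (hp5 : 5 ≤ p) (hw : σ o.w = o.w ^ 2)
    (hbase : ∀ B : Subgroup (GL (Fin 3) F), clock o ∈ B → shift F ∈ B → four o ∈ B → tw o ∈ B →
      B ≤ subgroupNormalizer (heis o) ∨
        ∃ t ∈ B, t ≠ 1 ∧ (mat t - 1) * (mat t - 1) = 0) :
    Rich (suAmb o hw) := by
  classical
  have hc : CfsgLib.AschbacherUnitary.IsConj p σ := ⟨hb.ne_refl, hb.involutive, hb.eq_pow⟩
  have hf := isUnitaryForm_hermForm (n := 3) hb.ne_refl hb.involutive hb.eq_pow
  haveI := CfsgLib.SUThree.Hessian.charP_of_bar hb hp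
  have hU : UG σ (Fin 3) = Cfsg.GU 3 F p := Subgroup.ext fun g => (mem_GU_iff hc).symm
  have h2 : (2 : F) ≠ 0 := by
    intro h
    have h' : ((2 : ℕ) : F) = 0 := by exact_mod_cast h
    have := Nat.le_of_dvd two_pos ((CharP.cast_eq_zero_iff F p 2).1 h')
    omega
  refine ⟨fun K hn r hr hrS hns => ?_, fun B hBU hcl hs h4 ht => ?_, ?_, ?_, h2, fun M hR hsw h => ?_⟩
  · simp only [suAmb, hU] at hn hrS ⊢
    exact su_le_of_normalized o hf hb (by omega) hw hn hr hrS hns
  · refine (hbase B hcl hs h4 ht).imp id ?_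
    rintro ⟨t, htB, h1, hsq⟩
    simp only [suAmb, hU] at hBU ⊢
    refine su_le_of_transvection o hf hb hp (by omega) hBU ?_ htB h1 hsq
    rw [heis, Subgroup.closure_le]
    rintro _ (rfl | rfl)
    exacts [hcl, hs]
  · refine mem_UG_diagonal (d := ![-1, -1, 1]) (fun i => by fin_cases i <;> simp) ?_
    show (!![-1, 0, 0; 0, -1, 0; 0, 0, 1] : Matrix (Fin 3) (Fin 3) F) = _
    ext a b; fin_cases a <;> fin_cases b <;> simp
  · refine ⟨p, hp, hp5, ?_⟩
    obtain ⟨z, hz⟩ := CfsgLib.SUThree.exists_norm_eq hb (γ := (-1 : F)) (by simp)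
    obtain ⟨c, hc0, hcs⟩ := exists_traceZero hb.ne_refl hb.involutive
    set v : Fin 3 → F := ![1, z, 0]
    have hv : Cfsg.hermForm 3 F p v v = 0 := by
      simp [Cfsg.hermForm, Fin.sum_univ_three, v, ← hb.eq_pow, hz, hp.pos.ne']
    have hmem := uTv_mem hf hv hcs
    refine ⟨uTv p v c, ?_, ?_, ?_⟩
    · simp only [suAmb, hU]; exact hmem
    · have key : ∀ n : ℕ, uTv p v c ^ n = uTv p v ((n : F) * c) := by
        intro n
        induction n with
        | zero => simp [uTv, tv_zero_left]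
        | succ n ih => rw [pow_succ, ih, Nat.cast_succ, add_mul, one_mul, CfsgLib.SUThree.Decomp.uTv_add hf hv]
      rw [key, CharP.cast_eq_zero, zero_mul, uTv, zero_smul, tv_zero_left]
    · intro hs
      obtain ⟨d, hd⟩ := (mem_scalars_iff _).1 hs
      have h20 := congrFun (uTv_mulVec hf hv c (Pi.single 2 1)) 2
      have h10 := congrFun (uTv_mulVec hf hv c (Pi.single 0 1)) 1
      rw [hd, smul_mulVec, one_mulVec] at h20 h10
      have hz0 : z ≠ 0 := fun h0 => by simp [h0] at hz
      simp [Cfsg.hermForm, Fin.sum_univ_three, v, hp.pos.ne', hc0, hz0] at h10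
  · simp only [suAmb] at h ⊢
    have hsh : bl (shift F) ∈ M := hR (bl_mem o (shift_mem o))
    have hcent : (cent : GL (Fin 3) F) ∈ UG σ (Fin 3) ⊓ specialLinear (Fin 3) F := ⟨cent_mem_UG, mem_sl.2 det_cent⟩
    refine top_unitary o hc hb.card hw M hR hsw ?_ h
    rw [← sw_cn]
    refine M.mul_mem (M.mul_mem hsw ?_) (M.inv_mem hsw)
    have e : dg (cent : GL (Fin 3) F) =
        Pi.mulSingle 0 (cent : GL (Fin 3) F) * Pi.mulSingle 1 cent * Pi.mulSingle 2 cent := by
      funext i; fin_cases i <;> simp [dg]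
    rw [cn, MonoidHom.comp_apply, e, map_mul, map_mul]
    exact M.mul_mem (M.mul_mem (bd_single_mem hsh (h _ hcent) 0) (bd_single_mem hsh (h _ hcent) 1))
      (bd_single_mem hsh (h _ hcent) 2)

end CfsgLib.SympThree
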