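import Cfsg.Agent.SympThree.Blocks
import Cfsg.Agent.MaxSub.UnitaryDecomposition

/-!
# Block subgroups and the interchange of the factors generate `SU₉`
-/

set_option autoImplicit false
set_option linter.unusedSectionVars false

namespace CfsgLib.SympThree

open Matrix Cfsg.Geo CfsgLib.SLThree.Hessian
open scoped Kronecker

local notation:max "mat" => Units.val

variable {F : Type*} [Field F] [Fintype F] {σ : F ≃+* F} (o : Omega F)

theorem det_cent : (mat (cent : GL (Fin 3) F)).det = 1 := by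
  show (!![-1, 0, 0; 0, 0, -1; 0, -1, 0] : Matrix (Fin 3) (Fin 3) F).det = 1
  rw [det_fin_three]; simp

theorem norm_det_of_mem_UG {κ : Type} [Fintype κ] [DecidableEq κ] {g : GL κ F} (hg : g ∈ UG σ κ) :
    (mat g).det * σ (mat g).det = 1 := by
  have h := congrArg Matrix.det (mem_UG.1 hg)
  rwa [det_mul, det_transpose, det_one, ← RingEquiv.mapMatrix_apply, ← RingEquiv.map_det] at h

theorem cases_perm_three : ∀ π : Equiv.Perm (Fin 3),
    ∃ k : Fin 3, (∀ i, π i = i + k) ∨ ∀ i, π i = -i + k := by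
  decide

theorem shift_pow_apply (k a b : Fin 3) : mat (shift F ^ k.val) a b = if a = b + k then 1 else 0 := by
  rw [Units.val_pow_eq_pow_val]
  show ((!![0, 0, 1; 1, 0, 0; 0, 1, 0] : Matrix (Fin 3) (Fin 3) F) ^ k.val) a b = _
  fin_cases k <;> fin_cases a <;> fin_cases b <;> simp [pow_two, Matrix.mul_apply, Fin.sum_univ_three]

theorem cent_apply (a b : Fin 3) : mat (cent : GL (Fin 3) F) a b = if a = -b then -1 else 0 := by
  show (!![-1, 0, 0; 0, 0, -1; 0, -1, 0] : Matrix (Fin 3) (Fin 3) F) a b = _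
  fin_cases a <;> fin_cases b <;> simp [show (-1 : Fin 3) = 2 from rfl, show (-2 : Fin 3) = 1 from rfl]

/-- A monomial element for a permutation of three letters. -/
theorem exists_perm_elt (π : Equiv.Perm (Fin 3)) :
    ∃ (k e : ℕ), ∀ a b, mat (shift F ^ k * (cent : GL (Fin 3) F) ^ e) a b ≠ 0 → a = π b := by
  obtain ⟨k, hk | hk⟩ := cases_perm_three π
  · refine ⟨k.val, 0, fun a b h => ?_⟩
    rw [pow_zero, mul_one, shift_pow_apply] at h
    rw [hk]
    exact by_contra fun hne => h (if_neg hne)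
  · refine ⟨k.val, 1, fun a b h => ?_⟩
    rw [pow_one, Units.val_mul, Matrix.mul_apply] at h
    obtain ⟨c, -, hc⟩ := Finset.exists_ne_zero_of_sum_ne_zero h
    rw [shift_pow_apply, cent_apply] at hc
    rw [hk]
    by_cases h1 : a = c + k
    · by_cases h2 : c = -b
      · rw [h1, h2]
      · simp [h2] at hc
    · simp [h1] at hc

/-- Moving a supported element through the blocks. -/
theorem bd_single_mem {M : Subgroup (GL Ix F)} (hsh : bl (shift F) ∈ M) {a : GL (Fin 3) F}
    (h : bd (Pi.mulSingle 2 a) ∈ M) (i : Fin 3) : bd (Pi.mulSingle i a) ∈ M := by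
  have step : ∀ (i : Fin 3), bd (Pi.mulSingle i a) ∈ M → bd (Pi.mulSingle (i + 1) a) ∈ M := by
    intro i hi
    have := M.mul_mem (M.mul_mem hsh hi) (M.inv_mem hsh)
    rw [shift_conj_bd] at this
    convert this using 2
    funext k
    simp only [Pi.mulSingle_apply]
    have : k - 1 = i ↔ k = i + 1 := sub_eq_iff_eq_add
    split_ifs <;> simp_all
  fin_cases i
  · exact step 2 h
  · exact step 0 (step 2 h)
  · exact h

/-- A diagonal matrix. -/
def dgu (d : Fin 3 → Fˣ) : GL (Fin 3) F where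
  val := Matrix.diagonal fun i => (d i : F)
  inv := Matrix.diagonal fun i => ((d i)⁻¹ : Fˣ)
  val_inv := by rw [diagonal_mul_diagonal, ← diagonal_one]; congr 1; funext i; exact Units.mul_inv _
  inv_val := by rw [diagonal_mul_diagonal, ← diagonal_one]; congr 1; funext i; exact Units.inv_mul _

theorem dgu_val (d : Fin 3 → Fˣ) : mat (dgu d) = Matrix.diagonal fun i => (d i : F) := rfl

theorem sw_dgu (δ : Fin 3 → Fˣ) :
    sw * bd (Pi.mulSingle 0 (dgu δ)) * sw⁻¹ = bd fun i => dgu (Pi.mulSingle 0 (δ i)) := Units.ext (by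
  ext ⟨a, i⟩ ⟨b, k⟩
  rw [sw_conj_apply, bd_val, bd_val]
  simp only [blockDiagonal_apply, Prod.swap_prod_mk]
  rcases eq_or_ne a b with rfl | hab
  · rcases eq_or_ne a 0 with rfl | ha
    · simp [dgu_val, Matrix.diagonal_apply]
    · simp [dgu_val, Matrix.diagonal_apply, ha, Matrix.one_apply]
  · simp [dgu_val, hab])

theorem bl_clock_diag : mat (bl (clock o)) = Matrix.diagonal fun q : Ix => o.w ^ q.2.val := by
  rw [bl_val]
  ext ⟨a, i⟩ ⟨b, j⟩
  rw [kroneckerMap_apply, clock_apply, Matrix.diagonal_apply, Matrix.one_apply]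
  by_cases h1 : a = b <;> by_cases h2 : i = j <;> simp [h1, h2]

theorem comm_bl_clock {g : GL Ix F} (h : ∀ p r : Ix, mat g p r ≠ 0 → p.2 = r.2) :
    g * bl (clock o) = bl (clock o) * g := by
  apply Units.ext
  ext p r
  rw [Units.val_mul g, Units.val_mul (bl (clock o)), bl_clock_diag, Matrix.mul_diagonal, Matrix.diagonal_mul]
  by_cases h0 : mat g p r = 0
  · rw [h0, mul_zero, zero_mul]
  · rw [h p r h0, mul_comm]

/-- **Generation.** -/
theorem top_unitary {p : ℕ} (hc : CfsgLib.AschbacherUnitary.IsConj p σ) (hF : Fintype.card F = p ^ 2)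
    (hw : σ o.w = o.w ^ 2) (M : Subgroup (GL Ix F)) (hR : R₀ o ≤ M) (hsw : (sw : GL Ix F) ∈ M)
    (hblc : bl (cent : GL (Fin 3) F) ∈ M)
    (h : ∀ a ∈ UG σ (Fin 3) ⊓ specialLinear (Fin 3) F, bd (Pi.mulSingle 2 a) ∈ M) :
    UG σ Ix ⊓ specialLinear Ix F ≤ M := by
  classical
  have hsh : bl (shift F) ∈ M := hR (bl_mem o (shift_mem o))
  have hf := CfsgLib.MaxSub.isUnitaryForm_hermForm (n := 9) hc.ne_refl hc.involutive hc.eq_pow
  have hmax := CfsgLib.MaxSub.UC.isMaximalIn_uDecomposition hf hc.eq_pow hF (by norm_num)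
    (isNondeg_blockSub hc (finProdFinEquiv : Ix ≃ Fin 9) (φ := Prod.snd) (k := 3) (le_refl 2 |>.trans (by norm_num))
      (by norm_num) (by decide)) (by norm_num) (by norm_num)
  refine top_of_blocks hc hmax (fun g hg hgp => ?_) hsw ⟨sw_mem_UG, mem_sl.2 det_sw⟩ ?_
  · obtain ⟨π, hπ⟩ := hgp
    obtain ⟨k, e, hn⟩ := exists_perm_elt (F := F) π⁻¹
    set n := shift F ^ k * (cent : GL (Fin 3) F) ^ e with hndef
    have hnU : n ∈ UG σ (Fin 3) :=
      (UG σ (Fin 3)).mul_mem ((UG σ (Fin 3)).pow_mem shift_mem_UG k) ((UG σ (Fin 3)).pow_mem cent_mem_UG e)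
    have hnd : (mat n).det = 1 := by
      rw [hndef, Units.val_mul, det_mul, Units.val_pow_eq_pow_val, Units.val_pow_eq_pow_val, det_pow, det_pow,
        det_cent, det_shift, one_pow, one_pow, one_mul]
    have hnM : bl n ∈ M := by
      rw [hndef, map_mul, map_pow, map_pow]; exact M.mul_mem (M.pow_mem hsh k) (M.pow_mem hblc e)
    have hg' : bl n * g ∈ UG σ Ix ⊓ specialLinear Ix F :=
      Subgroup.mul_mem _ ⟨bl_mem_UG hnU, mem_sl.2 (by rw [det_bl, hnd, one_pow])⟩ hg
    have hsupp : ∀ p r : Ix, mat (bl n * g) p r ≠ 0 → p.2 = r.2 := by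
      intro p r hne
      rw [Units.val_mul, Matrix.mul_apply] at hne
      obtain ⟨q, -, hq⟩ := Finset.exists_ne_zero_of_sum_ne_zero hne
      obtain ⟨hq1, hq2⟩ := mul_ne_zero_iff.1 hq
      rw [bl_val, kroneckerMap_apply] at hq1
      rw [hn _ _ (right_ne_zero_of_mul hq1), hπ q r hq2]
      exact π.symm_apply_apply _
    have hcomm := comm_bl_clock o hsupp
    obtain ⟨f, hfe⟩ := exists_bd o hcomm
    rw [hfe] at hg'
    have hfU : ∀ i, f i ∈ UG σ (Fin 3) := (bd_mem_UG f).1 hg'.1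
    have hdet : ∏ i, (mat (f i)).det = 1 := by rw [← det_bd]; exact mem_sl.1 hg'.2
    let δ : Fin 3 → Fˣ := fun i => Units.mk0 (mat (f i)).det (f i).det_ne_zero
    have hδ : ∀ i, (δ i : F) * σ (δ i : F) = 1 := fun i => norm_det_of_mem_UG (hfU i)
    let d : Fin 3 → GL (Fin 3) F := fun i => dgu (Pi.mulSingle 0 (δ i))
    have hdd : bd d ∈ M := by
      rw [← sw_dgu]
      refine M.mul_mem (M.mul_mem hsw (bd_single_mem hsh (h _ ⟨?_, ?_⟩) 0)) (M.inv_mem hsw)
      · exact mem_UG_diagonal hδ (dgu_val δ)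
      · refine mem_sl.2 ?_
        rw [dgu_val, det_diagonal]
        exact hdet
    have hfd : ∀ i, f i * (d i)⁻¹ ∈ UG σ (Fin 3) ⊓ specialLinear (Fin 3) F := by
      intro i
      refine ⟨(UG σ (Fin 3)).mul_mem (hfU i) ((UG σ (Fin 3)).inv_mem (mem_UG_diagonal (fun j => ?_) (dgu_val _))),
        mem_sl.2 ?_⟩
      · rcases eq_or_ne j 0 with rfl | hj
        · simpa using hδ i
        · simp [hj]
      · rw [Units.val_mul, det_mul]
        show _ * (Matrix.diagonal fun j => (((Pi.mulSingle 0 (δ i) : Fin 3 → Fˣ) j)⁻¹ : Fˣ).val).det = 1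
        rw [det_diagonal, Fin.prod_univ_three]
        simp [δ, (f i).det_ne_zero]
    have hbd : bd (fun i => f i * (d i)⁻¹) ∈ M := by
      have e : (fun i => f i * (d i)⁻¹) = Pi.mulSingle 0 (f 0 * (d 0)⁻¹) * Pi.mulSingle 1 (f 1 * (d 1)⁻¹) *
          Pi.mulSingle 2 (f 2 * (d 2)⁻¹) := by
        funext i; fin_cases i <;> simp
      rw [e, map_mul, map_mul]
      exact M.mul_mem (M.mul_mem (bd_single_mem hsh (h _ (hfd 0)) 0) (bd_single_mem hsh (h _ (hfd 1)) 1))
        (bd_single_mem hsh (h _ (hfd 2)) 2)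
    have hfM : bd f ∈ M := by
      rw [show f = (fun i => f i * (d i)⁻¹) * d by funext i; simp, map_mul]
      exact M.mul_mem hbd hdd
    rw [← hfe] at hfM
    have := M.mul_mem (M.inv_mem hnM) hfM
    rwa [inv_mul_cancel_left] at this
  · rintro ⟨π, hπ⟩
    have key : ∀ a i : Fin 3, i = π a := fun a i => by
      refine hπ (a, i) (i, a) ?_ |>.trans (congrArg π rfl)
      show -(Matrix.of fun p q : Ix => if p = q.swap then (1 : F) else 0) (a, i) (i, a) ≠ 0
      simp
    exact absurd ((key 0 0).trans (key 0 1).symm) (by decide)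

end CfsgLib.SympThree
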